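import Groth.Agent.GrLC.LocCohLES
import Groth.Agent.InjHull.Noetherian
import Mathlib.Algebra.Category.ModuleCat.EnoughInjectives
import Mathlib.Algebra.Homology.DerivedCategory.Ext.EnoughInjectives
import Mathlib.Algebra.Category.ModuleCat.Injective

/-!
# Power torsion modules are acyclic for `Γ_I`

`LocCohElt.subsingleton_of_injective`, `LocCohElt.subsingleton_of_powerTorsion`.
-/

set_option autoImplicit false
universe u

open CategoryTheory CategoryTheory.Abelian

namespace Groth.Agent.GrLC.LocCohElt

variable {R : Type u} [CommRing R] (I : Ideal R)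

theorem subsingleton_of_injective {J : Type u} [AddCommGroup J] [Module R J]
    (hJ : Module.Injective R J) (i : ℕ) : Subsingleton (LocCoh.H I (i + 1) J) := by
  have := Module.injective_object_of_injective_module R J
  refine subsingleton_of_forall_eq 0 fun x => ?_
  obtain ⟨n, e, rfl⟩ := exists_mk I (i + 1) J x
  rw [Ext.eq_zero_of_injective e, map_zero]

theorem subsingleton_of_powerTorsion [IsNoetherianRing R] (i : ℕ) :
    ∀ (M : Type u) [AddCommGroup M] [Module R M],
      (∀ x : M, ∃ n : ℕ, ∀ r ∈ I ^ n, r • x = 0) → Subsingleton (LocCoh.H I (i + 1) M) := by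
  induction i with
  | zero =>
    intro M _ _ hM
    obtain ⟨⟨J, _, f, _⟩⟩ := EnoughInjectives.presentation (ModuleCat.of R M)
    haveI hJ : Module.Injective R J := Module.injective_module_of_injective_object R J
    have hrange : ∀ x, f.hom x ∈ InjHull.Noetherian.Gam I (J : Type u) := fun x =>
      InjHull.Noetherian.mem_gam.mpr ((hM x).imp fun n hn a ha => by rw [← map_smul, hn a ha, map_zero])
    set f' : M →ₗ[R] InjHull.Noetherian.Gam I (J : Type u) := f.hom.codRestrict _ hrange with hf'
    have hinj : Function.Injective f' := by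
      have := (ModuleCat.mono_iff_injective f).1 inferInstance
      exact fun a b hab => this (congrArg Subtype.val hab)
    have hex : Function.Exact f' (LinearMap.range f').mkQ :=
      LinearMap.exact_iff.2 (Submodule.ker_mkQ _)
    have hsurj := Submodule.mkQ_surjective (LinearMap.range f')
    haveI := subsingleton_of_injective I (InjHull.Noetherian.injective_gam hJ I) 0
    refine subsingleton_of_forall_eq 0 fun x => ?_
    obtain ⟨y, rfl⟩ := (exact_δ_map I 0 hinj hex hsurj x).1 (Subsingleton.elim _ _)
    obtain ⟨n, e, rfl⟩ := exists_mk I 0 _ y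
    obtain ⟨φ, rfl⟩ := (Ext.mk₀_bijective _ _).2 e
    obtain ⟨z, hz⟩ := hsurj (φ.hom (Submodule.Quotient.mk 1))
    obtain ⟨m, hm⟩ := InjHull.Noetherian.mem_gam.mp z.2
    have hz0 : ∀ r ∈ I ^ max n m, r • z = 0 := fun r hr =>
      Subtype.ext (hm r (Ideal.pow_le_pow_right (le_max_right n m) hr))
    let ψ : quo I (max n m) ⟶ ModuleCat.of R (InjHull.Noetherian.Gam I (J : Type u)) := ModuleCat.ofHom
      (Submodule.liftQ (I ^ max n m) (LinearMap.toSpanSingleton R _ z) fun r hr => hz0 r hr)
    have hcomp : proj I (le_max_left n m) ≫ φ = ψ ≫ ModuleCat.ofHom (LinearMap.range f').mkQ := by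
      apply ModuleCat.hom_ext
      apply LinearMap.ext
      intro q
      obtain ⟨r, rfl⟩ := Submodule.Quotient.mk_surjective _ q
      change φ.hom (Submodule.Quotient.mk r) = (LinearMap.range f').mkQ (r • z)
      rw [map_smul, hz, ← map_smul, ← Submodule.Quotient.mk_smul, smul_eq_mul, mul_one]
    have : mk I 0 _ n (Ext.mk₀ φ) =
        map I 0 (LinearMap.range f').mkQ (mk I 0 _ (max n m) (Ext.mk₀ ψ)) := by
      rw [map_mk, ← mk_proj I 0 _ (le_max_left n m), Ext.mk₀_comp_mk₀, Ext.mk₀_comp_mk₀, hcomp]
    rw [this]
    exact (exact_map_δ I 0 hinj hex hsurj).apply_apply_eq_zero _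
  | succ i ih =>
    intro M _ _ hM
    obtain ⟨⟨J, _, f, _⟩⟩ := EnoughInjectives.presentation (ModuleCat.of R M)
    haveI hJ : Module.Injective R J := Module.injective_module_of_injective_object R J
    have hrange : ∀ x, f.hom x ∈ InjHull.Noetherian.Gam I (J : Type u) := fun x =>
      InjHull.Noetherian.mem_gam.mpr ((hM x).imp fun n hn a ha => by rw [← map_smul, hn a ha, map_zero])
    set f' : M →ₗ[R] InjHull.Noetherian.Gam I (J : Type u) := f.hom.codRestrict _ hrange with hf'
    have hinj : Function.Injective f' := by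
      have := (ModuleCat.mono_iff_injective f).1 inferInstance
      exact fun a b hab => this (congrArg Subtype.val hab)
    have hex : Function.Exact f' (LinearMap.range f').mkQ :=
      LinearMap.exact_iff.2 (Submodule.ker_mkQ _)
    have hsurj := Submodule.mkQ_surjective (LinearMap.range f')
    haveI := subsingleton_of_injective I (InjHull.Noetherian.injective_gam hJ I) (i + 1)
    haveI := ih (↥(InjHull.Noetherian.Gam I (J : Type u)) ⧸ LinearMap.range f') (fun q => by
      obtain ⟨z, rfl⟩ := Submodule.Quotient.mk_surjective _ q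
      obtain ⟨m, hm⟩ := InjHull.Noetherian.mem_gam.mp z.2
      exact ⟨m, fun r hr => by
        rw [← Submodule.Quotient.mk_smul, show r • z = 0 from Subtype.ext (hm r hr),
          Submodule.Quotient.mk_zero]⟩)
    refine subsingleton_of_forall_eq 0 fun x => ?_
    obtain ⟨y, rfl⟩ := (exact_δ_map I (i + 1) hinj hex hsurj x).1 (Subsingleton.elim _ _)
    rw [Subsingleton.elim y 0, map_zero]

end Groth.Agent.GrLC.LocCohElt
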