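import Groth.Agent.GrLC.Inj
import Mathlib.RingTheory.Noetherian.Basic
import Mathlib.Algebra.Category.ModuleCat.Ext.HasExt
import Mathlib.Algebra.Homology.DerivedCategory.Ext.ExactSequences
import Mathlib.Algebra.Homology.DerivedCategory.Ext.EnoughProjectives
import Mathlib.Algebra.Category.ModuleCat.Projective
import Mathlib.Algebra.Homology.ShortComplex.ModuleCat

/-!
# Homogeneous components of linear maps, graded free modules, Ext against *injective modules
-/

set_option autoImplicit false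
set_option linter.unusedSectionVars false
universe u

open DirectSum

namespace Groth.Agent.GrLC

variable {ι : Type} [AddCommGroup ι] [DecidableEq ι]
variable {R : Type u} [CommRing R]
variable {σ : Type u} [SetLike σ R] [AddSubgroupClass σ R] {𝒜 : ι → σ} [GradedRing 𝒜]

section HomCpt

variable {M : Type u} [AddCommGroup M] [Module R M] {τ : Type u} [SetLike τ M] [AddSubgroupClass τ M]
  (ℳ : ι → τ) [DirectSum.Decomposition ℳ] [SetLike.GradedSMul 𝒜 ℳ]
variable {N : Type u} [AddCommGroup N] [Module R N] {τ' : Type u} [SetLike τ' N] [AddSubgroupClass τ' N]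
  (𝒩 : ι → τ') [DirectSum.Decomposition 𝒩] [SetLike.GradedSMul 𝒜 𝒩]

/-- The degree-`d` component of a linear map, as an additive map. -/
noncomputable def cptHomAdd (f : M →ₗ[R] N) (d : ι) : M →+ N :=
  (DirectSum.toAddMonoid fun g => ((cpt 𝒩 (g + d)).comp f.toAddMonoidHom).comp
    (AddSubmonoidClass.subtype (ℳ g))).comp (DirectSum.decomposeAddEquiv ℳ).toAddMonoidHom

theorem cptHomAdd_of_mem (f : M →ₗ[R] N) (d : ι) {g : ι} {m : M} (hm : m ∈ ℳ g) :
    cptHomAdd ℳ 𝒩 f d m = cpt 𝒩 (g + d) (f m) := by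
  change DirectSum.toAddMonoid _ (decompose ℳ m) = _
  rw [decompose_of_mem ℳ hm, DirectSum.toAddMonoid_of]
  rfl

variable (𝒜) in
/-- The degree-`d` component of a linear map. -/
noncomputable def cptHom (f : M →ₗ[R] N) (d : ι) : M →ₗ[R] N where
  toFun := cptHomAdd ℳ 𝒩 f d
  map_add' := map_add _
  map_smul' r m := by
    simp only [RingHom.id_apply]
    induction m using homogeneous_induction ℳ with
    | zero => simp
    | hom g m hm =>
      induction r using homogeneous_induction 𝒜 with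
      | zero => simp
      | hom i r hr =>
        rw [cptHomAdd_of_mem ℳ 𝒩 f d (smul_mem_gr (ℳ := ℳ) hr hm), cptHomAdd_of_mem ℳ 𝒩 f d hm,
          map_smul, add_assoc, cpt_smul_left 𝒩 hr]
      | add a b ha hb => rw [add_smul, map_add, ha, hb, add_smul]
    | add a b ha hb => rw [smul_add, map_add, map_add, ha, hb, smul_add]

theorem cptHom_of_mem (f : M →ₗ[R] N) (d : ι) {g : ι} {m : M} (hm : m ∈ ℳ g) :
    cptHom 𝒜 ℳ 𝒩 f d m = cpt 𝒩 (g + d) (f m) :=
  cptHomAdd_of_mem ℳ 𝒩 f d hm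

theorem cptHom_isGrHomDeg (f : M →ₗ[R] N) (d : ι) :
    _root_.GrLC.IsGrHomDeg ℳ 𝒩 (cptHom 𝒜 ℳ 𝒩 f d) d := fun g m hm => by
  rw [cptHom_of_mem ℳ 𝒩 f d hm]; exact cpt_mem 𝒩 _ _

theorem cptHom_of_isGrHomDeg {f : M →ₗ[R] N} {e : ι} (hf : _root_.GrLC.IsGrHomDeg ℳ 𝒩 f e) (d : ι) :
    cptHom 𝒜 ℳ 𝒩 f d = if e = d then f else 0 := by
  refine linearMap_ext ℳ fun g m hm => ?_
  rw [cptHom_of_mem ℳ 𝒩 f d hm, cpt_of_mem_ite 𝒩 _ (hf g m hm)]
  simp only [add_right_inj]
  split_ifs <;> simp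

variable (𝒜) in
/-- A linear map out of a finite graded module is the finite sum of its components. -/
theorem exists_sum_cptHom [Module.Finite R M] (f : M →ₗ[R] N) :
    ∃ D : Finset ι, (∀ d, d ∉ D → cptHom 𝒜 ℳ 𝒩 f d = 0) ∧ ∑ d ∈ D, cptHom 𝒜 ℳ 𝒩 f d = f := by
  classical
  obtain ⟨s, hs⟩ := Module.Finite.fg_top (R := R) (M := M)
  let T : Finset (ι × M) := s.biUnion fun m => (degs ℳ m).image fun g => (g, cpt ℳ g m)
  have hT : ∀ p ∈ T, p.2 ∈ ℳ p.1 := by
    intro p hp
    simp only [T, Finset.mem_biUnion, Finset.mem_image] at hp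
    obtain ⟨m, -, g, -, rfl⟩ := hp
    exact cpt_mem ℳ g m
  have hspan : Submodule.span R (T.image Prod.snd : Set M) = ⊤ := by
    rw [eq_top_iff, ← hs, Submodule.span_le]
    intro m hm
    rw [SetLike.mem_coe, ← sum_cpt ℳ m]
    refine sum_mem fun g hg => Submodule.subset_span ?_
    simp only [Finset.coe_image, Set.mem_image, Finset.mem_coe]
    exact ⟨(g, cpt ℳ g m), Finset.mem_biUnion.2 ⟨m, hm, Finset.mem_image.2 ⟨g, hg, rfl⟩⟩, rfl⟩
  refine ⟨T.biUnion fun p => (degs 𝒩 (f p.2)).image fun e => e - p.1, fun d hd => ?_, ?_⟩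
  · refine LinearMap.ext_on hspan fun m hm => ?_
    simp only [Finset.coe_image, Set.mem_image, Finset.mem_coe] at hm
    obtain ⟨p, hp, rfl⟩ := hm
    rw [cptHom_of_mem ℳ 𝒩 f d (hT p hp), LinearMap.zero_apply]
    by_contra hne
    exact hd (Finset.mem_biUnion.2 ⟨p, hp, Finset.mem_image.2
      ⟨p.1 + d, (mem_degs 𝒩).2 hne, add_sub_cancel_left _ _⟩⟩)
  · refine LinearMap.ext_on hspan fun m hm => ?_
    simp only [Finset.coe_image, Set.mem_image, Finset.mem_coe] at hm
    obtain ⟨p, hp, rfl⟩ := hm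
    rw [LinearMap.sum_apply,
      Finset.sum_congr rfl fun d _ => cptHom_of_mem ℳ 𝒩 f d (hT p hp)]
    rw [← Finset.sum_image (g := fun d => p.1 + d) (f := fun e => cpt 𝒩 e (f p.2))
      fun a _ b _ h => add_left_cancel h]
    refine sum_cpt_of_subset 𝒩 fun e he => Finset.mem_image.2 ⟨e - p.1, ?_, add_sub_cancel _ _⟩
    exact Finset.mem_biUnion.2 ⟨p, hp, Finset.mem_image.2 ⟨e, he, rfl⟩⟩

end HomCpt

section ExtendDeg

variable {I : Type u} [AddCommGroup I] [Module R I] {τ : Type u} [SetLike τ I] [AddSubgroupClass τ I]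
  {ℐ : ι → τ} [DirectSum.Decomposition ℐ] [SetLike.GradedSMul 𝒜 ℐ]
variable {A : Type u} [AddCommGroup A] [Module R A] {τA : Type u} [SetLike τA A] [AddSubgroupClass τA A]
  {𝓐 : ι → τA} [DirectSum.Decomposition 𝓐] [SetLike.GradedSMul 𝒜 𝓐]
variable {B : Type u} [AddCommGroup B] [Module R B] {τB : Type u} [SetLike τB B] [AddSubgroupClass τB B]
  {𝓑 : ι → τB} [DirectSum.Decomposition 𝓑] [SetLike.GradedSMul 𝒜 𝓑]

/-- Maps homogeneous of any degree extend into a *injective module. -/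
theorem starInj_extend_deg (hI : _root_.GrLC.IsStarInj 𝒜 ℐ) {f : A →ₗ[R] B}
    (hf : _root_.GrLC.IsGrHom 𝓐 𝓑 f) (hinj : Function.Injective f) {g : A →ₗ[R] I} {d : ι}
    (hg : _root_.GrLC.IsGrHomDeg 𝓐 ℐ g d) :
    ∃ h : B →ₗ[R] I, _root_.GrLC.IsGrHomDeg 𝓑 ℐ h d ∧ h ∘ₗ f = g := by
  obtain ⟨h, hh, hhf⟩ := hI (shiftGMod 𝒜 𝓐 (-d)) (shiftGMod 𝒜 𝓑 (-d)) f
    (fun j a ha => hf _ a ha) hinj g (fun j a ha => by
      have := hg (j + -d) a ha
      rwa [neg_add_cancel_right] at this)
  refine ⟨h, fun j b hb => hh (j + d) b ?_, hhf⟩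
  change b ∈ 𝓑 (j + d + -d)
  rwa [add_neg_cancel_right]

/-- All linear maps from a finite graded submodule extend into a *injective module. -/
theorem starInj_extend_all [Module.Finite R A] (hI : _root_.GrLC.IsStarInj 𝒜 ℐ) {f : A →ₗ[R] B}
    (hf : _root_.GrLC.IsGrHom 𝓐 𝓑 f) (hinj : Function.Injective f) (g : A →ₗ[R] I) :
    ∃ h : B →ₗ[R] I, h ∘ₗ f = g := by
  obtain ⟨D, -, hD⟩ := exists_sum_cptHom 𝒜 𝓐 ℐ g
  choose h _ hhf using fun d => starInj_extend_deg hI hf hinj (cptHom_isGrHomDeg (𝒜 := 𝒜) 𝓐 ℐ g d)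
  refine ⟨∑ d ∈ D, h d, ?_⟩
  conv_rhs => rw [← hD]
  ext a
  simp only [LinearMap.comp_apply, LinearMap.sum_apply]
  exact Finset.sum_congr rfl fun d _ => LinearMap.congr_fun (hhf d) a

end ExtendDeg

section Free

variable {n : ℕ} (dg : Fin n → ι)

variable (𝒜) in
/-- The pieces of a free module with a homogeneous basis of degrees `dg`. -/
def freeGr (g : ι) : AddSubgroup (Fin n → R) :=
  AddSubgroup.pi Set.univ fun a => AddSubgroup.ofClass (𝒜 (g - dg a))

theorem mem_freeGr {g : ι} {v : Fin n → R} : v ∈ freeGr 𝒜 dg g ↔ ∀ a, v a ∈ 𝒜 (g - dg a) :=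
  ⟨fun h a => h a trivial, fun h a _ => h a⟩

variable (𝒜) in
theorem isInternal_freeGr : DirectSum.IsInternal (freeGr 𝒜 dg) := by
  classical
  refine isInternal_of_proj _ (fun g =>
    { toFun := fun v a => cpt 𝒜 (g - dg a) (v a)
      map_zero' := funext fun a => map_zero _
      map_add' := fun v w => funext fun a => map_add _ _ _ }) ?_ ?_ ?_
  · exact fun g v hv => funext fun a => cpt_of_mem 𝒜 ((mem_freeGr dg).1 hv a)
  · exact fun g h v hv hne => funext fun a =>
      cpt_of_mem_ne 𝒜 ((mem_freeGr dg).1 hv a) fun e => hne (sub_left_injective e)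
  · intro v
    rw [← Finset.univ_sum_single v]
    refine sum_mem fun a _ => ?_
    rw [← sum_cpt 𝒜 (v a)]
    rw [show Pi.single a (∑ g ∈ degs 𝒜 (v a), cpt 𝒜 g (v a)) =
      ∑ g ∈ degs 𝒜 (v a), (Pi.single a (cpt 𝒜 g (v a)) : Fin n → R) from
        map_sum (AddMonoidHom.single (fun _ : Fin n => R) a) _ _]
    refine sum_mem fun g _ => AddSubgroup.mem_iSup_of_mem (g + dg a) ((mem_freeGr dg).2 fun b => ?_)
    by_cases hb : b = a
    · subst hb; rw [Pi.single_eq_same, add_sub_cancel_right]; exact cpt_mem 𝒜 g _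
    · rw [Pi.single_eq_of_ne hb]; exact zero_mem _

variable (𝒜) in
theorem freeGr_gradedSMul : SetLike.GradedSMul 𝒜 (freeGr 𝒜 dg) :=
  ⟨fun i j r v hr hv => (mem_freeGr dg).2 fun a => by
    change r * v a ∈ 𝒜 (i + j - dg a)
    rw [add_sub_assoc]
    exact SetLike.mul_mem_graded hr ((mem_freeGr dg).1 hv a)⟩

variable {M : Type u} [AddCommGroup M] [Module R M] {τ : Type u} [SetLike τ M] [AddSubgroupClass τ M]
  {ℳ : ι → τ} [DirectSum.Decomposition ℳ] [SetLike.GradedSMul 𝒜 ℳ]

theorem linearCombination_isGrHom {m : Fin n → M} (hm : ∀ a, m a ∈ ℳ (dg a)) :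
    _root_.GrLC.IsGrHom (freeGr 𝒜 dg) ℳ (Fintype.linearCombination R m) := fun g v hv => by
  rw [Fintype.linearCombination_apply]
  refine sum_mem fun a _ => ?_
  have := smul_mem_gr (ℳ := ℳ) ((mem_freeGr dg).1 hv a) (hm a)
  rwa [sub_add_cancel] at this

variable (ℳ) in
/-- A finite graded module is a homogeneous quotient of a free one of finite rank. -/
theorem exists_free_presentation [Module.Finite R M] :
    ∃ (n : ℕ) (dg : Fin n → ι) (m : Fin n → M), (∀ a, m a ∈ ℳ (dg a)) ∧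
      Function.Surjective (Fintype.linearCombination R m) := by
  classical
  obtain ⟨s, hs⟩ := Module.Finite.fg_top (R := R) (M := M)
  let T : Finset (ι × M) := s.biUnion fun m => (degs ℳ m).image fun g => (g, cpt ℳ g m)
  refine ⟨T.card, fun a => (T.equivFin.symm a).1.1, fun a => (T.equivFin.symm a).1.2, fun a => ?_, ?_⟩
  · obtain ⟨⟨p, hp⟩, rfl⟩ : ∃ q, T.equivFin q = a := T.equivFin.surjective a
    simp only [Equiv.symm_apply_apply]
    simp only [T, Finset.mem_biUnion, Finset.mem_image] at hp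
    obtain ⟨m, -, g, -, rfl⟩ := hp
    exact cpt_mem ℳ g m
  · rw [← LinearMap.range_eq_top, Fintype.range_linearCombination, eq_top_iff, ← hs, Submodule.span_le]
    intro m hm
    rw [SetLike.mem_coe, ← sum_cpt ℳ m]
    refine sum_mem fun g hg => Submodule.subset_span ⟨T.equivFin ⟨(g, cpt ℳ g m), ?_⟩, ?_⟩
    · exact Finset.mem_biUnion.2 ⟨m, hm, Finset.mem_image.2 ⟨g, hg, rfl⟩⟩
    · simp

end Free

section Ext

open CategoryTheory CategoryTheory.Abelian

variable [IsNoetherianRing R]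
variable {I : Type u} [AddCommGroup I] [Module R I] {τ : Type u} [SetLike τ I] [AddSubgroupClass τ I]
  {ℐ : ι → τ} [DirectSum.Decomposition ℐ] [SetLike.GradedSMul 𝒜 ℐ]

/-- Ext into a *injective module from a finite graded module vanishes in positive degrees. -/
theorem ext_eq_zero_of_starInj (hI : _root_.GrLC.IsStarInj 𝒜 ℐ) (i : ℕ) :
    ∀ (X : _root_.GrLC.GMod.{u} 𝒜) [Module.Finite R X.carrier]
      (x : Ext.{u} (ModuleCat.of R X.carrier) (ModuleCat.of R I) (i + 1)), x = 0 := by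
  induction i with
  | zero =>
    intro X _ x
    obtain ⟨n, dg, m, hm, hsurj⟩ := exists_free_presentation (R := R) X.gr
    letI := (isInternal_freeGr 𝒜 dg).chooseDecomposition
    letI := freeGr_gradedSMul 𝒜 dg
    let π := Fintype.linearCombination R m
    have hπ := linearCombination_isGrHom (𝒜 := 𝒜) dg (ℳ := X.gr) hm
    have hk := isHomogeneous_ker (freeGr 𝒜 dg) hπ
    let S : ShortComplex (ModuleCat.{u} R) := ShortComplex.mk
      (ModuleCat.ofHom (LinearMap.ker π).subtype) (ModuleCat.ofHom π)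
      (ModuleCat.hom_ext (LinearMap.ext fun v => v.2))
    have hS : S.ShortExact :=
      { exact := (ShortComplex.moduleCat_exact_iff_range_eq_ker S).2
          (Submodule.range_subtype _)
        mono_f := (ModuleCat.mono_iff_injective _).2 (LinearMap.ker π).injective_subtype
        epi_g := (ModuleCat.epi_iff_surjective _).2 hsurj }
    haveI : Projective S.X₂ := (IsProjective.iff_projective _).1 (Module.Projective.of_free)
    obtain ⟨y, rfl⟩ := Ext.contravariant_sequence_exact₃ hS _ x (Ext.eq_zero_of_projective _)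
      (n₀ := 0) (by omega)
    obtain ⟨φ, rfl⟩ := (Ext.mk₀_bijective _ _).2 y
    letI := subDec (freeGr 𝒜 dg) hk
    letI := subGr_gradedSMul (𝒜 := 𝒜) (freeGr 𝒜 dg) (LinearMap.ker π)
    obtain ⟨ψ, hψ⟩ := starInj_extend_all (𝓐 := subGr (freeGr 𝒜 dg) (LinearMap.ker π)) hI
      (f := (LinearMap.ker π).subtype) (isGrHom_subtype (freeGr 𝒜 dg) (LinearMap.ker π)) (LinearMap.ker π).injective_subtype φ.hom
    have : φ = S.f ≫ (ModuleCat.ofHom ψ : S.X₂ ⟶ ModuleCat.of R I) := ModuleCat.hom_ext hψ.symm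
    rw [this, ← Ext.mk₀_comp_mk₀, hS.extClass_comp_assoc]
  | succ i ih =>
    intro X _ x
    obtain ⟨n, dg, m, hm, hsurj⟩ := exists_free_presentation (R := R) X.gr
    letI := (isInternal_freeGr 𝒜 dg).chooseDecomposition
    letI := freeGr_gradedSMul 𝒜 dg
    let π := Fintype.linearCombination R m
    have hπ := linearCombination_isGrHom (𝒜 := 𝒜) dg (ℳ := X.gr) hm
    have hk := isHomogeneous_ker (freeGr 𝒜 dg) hπ
    let S : ShortComplex (ModuleCat.{u} R) := ShortComplex.mk
      (ModuleCat.ofHom (LinearMap.ker π).subtype) (ModuleCat.ofHom π)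
      (ModuleCat.hom_ext (LinearMap.ext fun v => v.2))
    have hS : S.ShortExact :=
      { exact := (ShortComplex.moduleCat_exact_iff_range_eq_ker S).2
          (Submodule.range_subtype _)
        mono_f := (ModuleCat.mono_iff_injective _).2 (LinearMap.ker π).injective_subtype
        epi_g := (ModuleCat.epi_iff_surjective _).2 hsurj }
    haveI : Projective S.X₂ := (IsProjective.iff_projective _).1 (Module.Projective.of_free)
    obtain ⟨y, rfl⟩ := Ext.contravariant_sequence_exact₃ hS _ x (Ext.eq_zero_of_projective _)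
      (n₀ := i + 1) (by omega)
    haveI : Module.Finite R (subGMod 𝒜 (freeGr 𝒜 dg) hk).carrier :=
      inferInstanceAs (Module.Finite R (LinearMap.ker π))
    have hy : y = 0 := ih (subGMod 𝒜 (freeGr 𝒜 dg) hk) y
    subst hy
    exact Ext.comp_zero hS.extClass _ _ _ _

/-- Ext into a *injective module from a finite graded module vanishes in positive degrees. -/
theorem ext_subsingleton_of_starInj (hI : _root_.GrLC.IsStarInj 𝒜 ℐ)
    {M : Type u} [AddCommGroup M] [Module R M] [Module.Finite R M] {τ' : Type u} [SetLike τ' M]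
    [AddSubgroupClass τ' M] (ℳ : ι → τ') [DirectSum.Decomposition ℳ] [SetLike.GradedSMul 𝒜 ℳ]
    (i : ℕ) (hi : 1 ≤ i) :
    Subsingleton (Ext.{u} (ModuleCat.of R M) (ModuleCat.of R I) i) := by
  obtain ⟨j, rfl⟩ : ∃ j, i = j + 1 := ⟨i - 1, by omega⟩
  haveI : Module.Finite R (toGMod 𝒜 ℳ).carrier := inferInstanceAs (Module.Finite R M)
  exact subsingleton_of_forall_eq 0 (ext_eq_zero_of_starInj hI j (toGMod 𝒜 ℳ))

end Ext

end Groth.Agent.GrLC
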