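import Groth.Agent.GrLC.Hom
import Groth.Agent.GrSyz.Basic
import Mathlib.RingTheory.Artinian.Module
import Mathlib.RingTheory.FiniteLength
import Mathlib.LinearAlgebra.Quotient.Pi

/-!
# The pieces of finite graded modules over a positively graded Noetherian ring

* `isNoetherianRing_deg0`, `finite_comp`;
* `exists_bound_pow`, `exists_degree_bound_of_torsion`;
* `isArtinian_of_pow_maximal`, `starLocal_irrelevant_le`, `isMaximal_comap_deg0`.
-/

set_option autoImplicit false
set_option linter.unusedSectionVars false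
universe u

open DirectSum

namespace Groth.Agent.GrLC

section DegZero

variable {ι : Type} [AddCommGroup ι] [DecidableEq ι]
variable {R : Type u} [CommRing R]
variable {σ : Type u} [SetLike σ R] [AddSubgroupClass σ R] {𝒜 : ι → σ} [GradedRing 𝒜]

theorem comap_map_deg0 (I : Ideal (_root_.GrLC.deg0 𝒜)) :
    (I.map (_root_.GrLC.deg0 𝒜).subtype).comap (_root_.GrLC.deg0 𝒜).subtype = I := by
  refine le_antisymm (fun x hx => ?_) Ideal.le_comap_map
  have key : ∀ y ∈ I.map (_root_.GrLC.deg0 𝒜).subtype, ∀ c : R,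
      ∃ z ∈ I, (z : R) = cpt 𝒜 0 (c * y) := by
    intro y hy
    induction hy using Submodule.span_induction with
    | mem y hy =>
      obtain ⟨z, hz, rfl⟩ := hy
      intro c
      refine ⟨⟨cpt 𝒜 0 c, cpt_mem 𝒜 0 c⟩ * z, Ideal.mul_mem_left _ _ hz, ?_⟩
      have := cpt_smul_right (𝒜 := 𝒜) 𝒜 z.2 c 0
      rw [add_zero, smul_eq_mul, smul_eq_mul] at this
      exact this.symm
    | zero => exact fun c => ⟨0, zero_mem _, by rw [mul_zero, map_zero]; rfl⟩
    | add y y' _ _ hy hy' =>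
      intro c
      obtain ⟨z, hz, e⟩ := hy c
      obtain ⟨z', hz', e'⟩ := hy' c
      exact ⟨z + z', add_mem hz hz', by rw [mul_add, map_add, ← e, ← e']; rfl⟩
    | smul r y _ hy =>
      intro c
      obtain ⟨z, hz, e⟩ := hy (c * r)
      exact ⟨z, hz, by rw [e, smul_eq_mul, mul_assoc]⟩
  obtain ⟨z, hz, e⟩ := key _ hx 1
  rw [one_mul, show (_root_.GrLC.deg0 𝒜).subtype x = (x : R) from rfl, cpt_of_mem 𝒜 x.2] at e
  exact (Subtype.ext e : z = x) ▸ hz

variable (𝒜) in
/-- The degree-zero subring of a Noetherian graded ring is Noetherian. -/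
theorem isNoetherianRing_deg0 [IsNoetherianRing R] : IsNoetherianRing (_root_.GrLC.deg0 𝒜) := by
  refine isNoetherianRing_iff.2 (isNoetherian_iff'.2 ⟨?_⟩)
  refine RelHomClass.wellFounded (r := fun a b : Ideal (_root_.GrLC.deg0 𝒜) => a > b)
    (s := fun a b : Ideal R => a > b)
    (⟨fun I => I.map (_root_.GrLC.deg0 𝒜).subtype, fun {I J} h =>
      lt_of_le_of_ne (Ideal.map_mono h.le) fun e => h.ne ?_⟩ :
      (fun a b : Ideal (_root_.GrLC.deg0 𝒜) => a > b) →r fun a b : Ideal R => a > b) wellFounded_gt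
  have h' := congrArg (fun K => Ideal.comap (_root_.GrLC.deg0 𝒜).subtype K) e
  simp only [comap_map_deg0] at h'
  exact h'

/-- An element of a piece is a combination of homogeneous coefficients. -/
theorem exists_homogeneous_coeff {M : Type u} [AddCommGroup M] [Module R M] {τ : Type u} [SetLike τ M]
    [AddSubgroupClass τ M] {ℳ : ι → τ} [DirectSum.Decomposition ℳ] [SetLike.GradedSMul 𝒜 ℳ]
    {n : ℕ} {dg : Fin n → ι} {g : Fin n → M} (hg : ∀ j, g j ∈ ℳ (dg j)) {m : M} {d : ι}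
    (hm : m ∈ ℳ d) (h : m ∈ Submodule.span R (Set.range g)) :
    ∃ c : Fin n → R, (∀ j, c j ∈ 𝒜 (d - dg j)) ∧ ∑ j, c j • g j = m := by
  rw [Submodule.mem_span_range_iff_exists_fun] at h
  obtain ⟨c, hc⟩ := h
  refine ⟨fun j => cpt 𝒜 (d - dg j) (c j), fun j => cpt_mem 𝒜 _ _, ?_⟩
  conv_rhs => rw [← cpt_of_mem ℳ hm, ← hc, map_sum]
  exact Finset.sum_congr rfl fun j _ => (cpt_smul_right' (𝒜 := 𝒜) ℳ (hg j) (c j) d).symm

end DegZero

section Positive

variable {R : Type u} [CommRing R] [IsNoetherianRing R]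
variable {σ : Type u} [SetLike σ R] [AddSubgroupClass σ R] {𝒜 : ℤ → σ} [GradedRing 𝒜]
variable (hpos : ∀ n : ℤ, n < 0 → ∀ x ∈ 𝒜 n, x = 0)

variable (𝒜) in
theorem exists_irrel_gens : ∃ (s : ℕ) (dg : Fin s → ℤ) (z : Fin s → R), (∀ b, 0 < dg b) ∧
    (∀ b, z b ∈ 𝒜 (dg b)) ∧ Submodule.span R (Set.range z) = (_root_.GrSyz.irrel 𝒜).toIdeal := by
  classical
  obtain ⟨t, hts, ht⟩ :=
    (Submodule.fg_span_iff_fg_span_finset_subset (R := R) {r : R | ∃ n : ℤ, 0 < n ∧ r ∈ 𝒜 n}).1
      (IsNoetherian.noetherian _)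
  choose! e he using fun r (hr : r ∈ {r : R | ∃ n : ℤ, 0 < n ∧ r ∈ 𝒜 n}) => hr
  refine ⟨t.card, fun b => e (t.equivFin.symm b).1, fun b => (t.equivFin.symm b).1,
    fun b => (he _ (hts (t.equivFin.symm b).2)).1, fun b => (he _ (hts (t.equivFin.symm b).2)).2, ?_⟩
  have hr : Set.range (fun b => ((t.equivFin.symm b).1 : R)) = (t : Set R) := by
    ext x
    exact ⟨fun ⟨b, hb⟩ => hb ▸ (t.equivFin.symm b).2,
      fun hx => ⟨t.equivFin ⟨x, hx⟩, by simp⟩⟩
  rw [hr, ← ht]
  rfl

include hpos in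
/-- High degrees lie in high powers of `R₊`. -/
theorem exists_bound_pow (k : ℕ) :
    ∃ N : ℤ, ∀ n : ℤ, N ≤ n → ∀ x ∈ 𝒜 n, x ∈ (_root_.GrSyz.irrel 𝒜).toIdeal ^ k := by
  obtain ⟨s, dg, z, hdg, hz, hspan⟩ := exists_irrel_gens 𝒜
  induction k with
  | zero => exact ⟨0, fun n _ x _ => by simp⟩
  | succ k ih =>
    obtain ⟨N, hN⟩ := ih
    refine ⟨max 1 (N + ∑ b, dg b), fun n hn x hx => ?_⟩
    have hxi : x ∈ Submodule.span R (Set.range z) := by
      rw [hspan]; exact GrSyz.mem_irrel_of_pos (by omega) hx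
    obtain ⟨c, hc, rfl⟩ := exists_homogeneous_coeff (𝒜 := 𝒜) (ℳ := 𝒜) hz hx hxi
    refine sum_mem fun b _ => ?_
    rw [pow_succ, smul_eq_mul]
    have hle : dg b ≤ ∑ b, dg b :=
      Finset.single_le_sum (fun b _ => (hdg b).le) (Finset.mem_univ b)
    exact Ideal.mul_mem_mul (hN _ (by omega) _ (hc b)) (GrSyz.mem_irrel_of_pos (hdg b) (hz b))

variable {M : Type u} [AddCommGroup M] [Module R M] [Module.Finite R M] {τ : Type u} [SetLike τ M]
  [AddSubgroupClass τ M] {ℳ : ℤ → τ} [DirectSum.Decomposition ℳ] [SetLike.GradedSMul 𝒜 ℳ]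

include hpos in
/-- Modules killed by a power of `R₊` live in bounded degrees. -/
theorem exists_degree_bound_of_torsion (a : Ideal R)
    (hirr : ∀ n : ℤ, 0 < n → ∀ x ∈ 𝒜 n, x ∈ a) (htor : ∀ m : M, m ∈ _root_.GrLC.gam a M) :
    ∃ N : ℤ, ∀ n : ℤ, N ≤ n → ∀ m ∈ ℳ n, m = 0 := by
  classical
  obtain ⟨s, dg, g, hg, hsurj⟩ := exists_free_presentation (R := R) ℳ
  choose k hk using fun j => htor (g j)
  obtain ⟨B, hB⟩ := exists_bound_pow hpos (Finset.univ.sup k)
  have hle : (_root_.GrSyz.irrel 𝒜).toIdeal ≤ a :=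
    Ideal.span_le.2 fun r ⟨n, hn, hr⟩ => hirr n hn r hr
  refine ⟨B + ∑ j, |dg j|, fun n hn m hm => ?_⟩
  have hmem : m ∈ Submodule.span R (Set.range g) := by
    rw [← Fintype.range_linearCombination, LinearMap.range_eq_top.2 hsurj]
    trivial
  obtain ⟨c, hc, rfl⟩ := exists_homogeneous_coeff (𝒜 := 𝒜) hg hm hmem
  refine Finset.sum_eq_zero fun j _ => hk j _ ?_
  have hj : dg j ≤ ∑ j, |dg j| :=
    (le_abs_self _).trans
      (Finset.single_le_sum (f := fun j => |dg j|) (fun j _ => abs_nonneg _) (Finset.mem_univ j))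
  exact Ideal.pow_le_pow_right (Finset.le_sup (Finset.mem_univ j))
    (Ideal.pow_right_mono hle _ (hB _ (by omega) _ (hc j)))

theorem finite_comp_of_span {s : ℕ} {dg : Fin s → ℤ} {g : Fin s → M} (hg : ∀ j, g j ∈ ℳ (dg j))
    {n : ℤ} (hspan : ∀ m ∈ ℳ n, m ∈ Submodule.span R (Set.range g))
    (hfin : ∀ j, Module.Finite (_root_.GrLC.deg0 𝒜) (_root_.GrLC.comp 𝒜 𝒜 (n - dg j))) :
    Module.Finite (_root_.GrLC.deg0 𝒜) (_root_.GrLC.comp 𝒜 ℳ n) := by
  let φ : ((j : Fin s) → _root_.GrLC.comp 𝒜 𝒜 (n - dg j)) →ₗ[_root_.GrLC.deg0 𝒜]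
      _root_.GrLC.comp 𝒜 ℳ n :=
    { toFun := fun v => ⟨∑ j, (v j : R) • g j, sum_mem fun j _ => by
        have h := smul_mem_gr (𝒜 := 𝒜) (ℳ := ℳ) (v j).2 (hg j)
        rw [sub_add_cancel] at h
        exact h⟩
      map_add' := fun v w => by
        apply Subtype.ext
        simp only [Pi.add_apply, Submodule.coe_add, add_smul, Finset.sum_add_distrib]
      map_smul' := fun r v => by
        apply Subtype.ext
        simp only [RingHom.id_apply, Pi.smul_apply, Submodule.coe_smul, Finset.smul_sum, smul_assoc] }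
  refine Module.Finite.of_surjective φ fun m => ?_
  obtain ⟨c, hc, he⟩ := exists_homogeneous_coeff (𝒜 := 𝒜) hg m.2 (hspan _ m.2)
  exact ⟨fun j => ⟨c j, hc j⟩, Subtype.ext he⟩

include hpos in
theorem finite_comp_self (n : ℤ) :
    Module.Finite (_root_.GrLC.deg0 𝒜) (_root_.GrLC.comp 𝒜 𝒜 n) := by
  obtain ⟨s, dg, z, hdg, hz, hspan⟩ := exists_irrel_gens 𝒜
  induction h : n.toNat using Nat.strong_induction_on generalizing n with
  | _ t ih =>
  rcases lt_trichotomy n 0 with hn | hn | hn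
  · haveI : Subsingleton (_root_.GrLC.comp 𝒜 𝒜 n) :=
      subsingleton_of_forall_eq 0 fun x => Subtype.ext (hpos n hn x.1 x.2)
    infer_instance
  · subst hn
    refine finite_comp_of_span (M := R) (ℳ := 𝒜) (s := 1) (dg := fun _ => 0) (g := fun _ => 1)
      (fun _ => SetLike.one_mem_graded 𝒜) (fun m _ => ?_) (fun _ => ?_)
    · rw [Set.range_const]; exact Submodule.mem_span_singleton.2 ⟨m, mul_one m⟩
    · rw [sub_zero]
      exact Module.Finite.of_surjective
        ({ toFun := fun r => ⟨(r : R), r.2⟩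
           map_add' := fun _ _ => rfl
           map_smul' := fun _ _ => rfl } :
          _root_.GrLC.deg0 𝒜 →ₗ[_root_.GrLC.deg0 𝒜] _root_.GrLC.comp 𝒜 𝒜 0)
        fun x => ⟨⟨x.1, x.2⟩, rfl⟩
  · refine finite_comp_of_span (M := R) (ℳ := 𝒜) hz (fun m hm => ?_) fun b => ?_
    · rw [hspan]; exact GrSyz.mem_irrel_of_pos hn hm
    · exact ih (n - dg b).toNat (by have := hdg b; omega) _ rfl

include hpos in
variable (ℳ) in
/-- The pieces of a finite graded module are finite over `R₀`. -/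
theorem finite_comp (n : ℤ) : Module.Finite (_root_.GrLC.deg0 𝒜) (_root_.GrLC.comp 𝒜 ℳ n) := by
  obtain ⟨s, dg, g, hg, hsurj⟩ := exists_free_presentation (R := R) ℳ
  refine finite_comp_of_span hg (fun m _ => ?_) fun j => finite_comp_self hpos _
  rw [← Fintype.range_linearCombination, LinearMap.range_eq_top.2 hsurj]
  trivial

include hpos in
/-- In a *local positively graded ring the homogeneous maximal ideal contains `R₊` and its
degree-zero part is maximal. -/
theorem starLocal_spec (m : HomogeneousIdeal 𝒜) (hm : _root_.GrLC.IsStarLocal 𝒜 m) :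
    (∀ n : ℤ, 0 < n → ∀ x ∈ 𝒜 n, x ∈ m.toIdeal) ∧
      (m.toIdeal.comap (_root_.GrLC.deg0 𝒜).subtype).IsMaximal := by
  have hne : m.toIdeal ≠ ⊤ := fun h => hm.1.1 (HomogeneousIdeal.toIdeal_injective h)
  have hle : ∀ J : HomogeneousIdeal 𝒜, J.toIdeal ≠ ⊤ → J ≤ m := by
    intro J hJ
    obtain ⟨K, ⟨hJK, hK⟩, hmax⟩ := WellFounded.has_min
      (InvImage.wf (fun K : HomogeneousIdeal 𝒜 => K.toIdeal)
        (wellFounded_gt (α := Ideal R))) {K | J ≤ K ∧ K.toIdeal ≠ ⊤} ⟨J, le_rfl, hJ⟩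
    have hco : IsCoatom K := by
      refine ⟨fun h => hK (by rw [h]; rfl), fun L hL => ?_⟩
      by_contra hc
      refine hmax L ⟨hJK.trans hL.le, fun h => hc (HomogeneousIdeal.toIdeal_injective h)⟩ ?_
      exact lt_of_le_of_ne hL.le fun e => hL.ne (HomogeneousIdeal.toIdeal_injective e)
    exact hm.2 K hco ▸ hJK
  rcases subsingleton_or_nontrivial R with hs | hnt
  · exact absurd (Subsingleton.elim m.toIdeal ⊤) hne
  have hirr : ∀ n : ℤ, 0 < n → ∀ x ∈ 𝒜 n, x ∈ m.toIdeal := fun n hn x hx =>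
    hle (_root_.GrSyz.irrel 𝒜) (fun h => GrSyz.one_notMem_irrel hpos (h ▸ Submodule.mem_top))
      (GrSyz.mem_irrel_of_pos hn hx)
  refine ⟨hirr, Ideal.isMaximal_iff.2 ⟨fun h => hne ((Ideal.eq_top_iff_one _).2 h), ?_⟩⟩
  intro J x hJ hx hxJ
  by_contra h1
  let K : HomogeneousIdeal 𝒜 := ⟨J.map (_root_.GrLC.deg0 𝒜).subtype,
    Ideal.homogeneous_span 𝒜 _ (fun y ⟨z, _, hz⟩ => hz ▸ ⟨0, z.2⟩)⟩
  have hK : K.toIdeal ≠ ⊤ := fun h => h1 (by
    rw [← comap_map_deg0 J]
    change (_root_.GrLC.deg0 𝒜).subtype 1 ∈ K.toIdeal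
    rw [h]; trivial)
  exact hx (hle K hK (Ideal.mem_map_of_mem _ hxJ))

end Positive

section Artinian

variable {A : Type u} [CommRing A]

/-- A finite module killed by a power of a maximal ideal is Artinian. -/
theorem isArtinian_of_pow_maximal [IsNoetherianRing A] (m : Ideal A) [m.IsMaximal] (k : ℕ) :
    ∀ (M : Type u) [AddCommGroup M] [Module A M] [Module.Finite A M],
      (∀ r ∈ m ^ k, ∀ x : M, r • x = 0) → IsArtinian A M := by
  induction k with
  | zero =>
    intro M _ _ _ h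
    haveI : Subsingleton M := subsingleton_of_forall_eq 0 fun x => by
      rw [← one_smul A x]
      exact h 1 (by simp) x
    infer_instance
  | succ k ih =>
    intro M _ _ _ h
    let K : Submodule A M := m • ⊤
    haveI : IsArtinian A K := ih K fun r hr x => by
      apply Subtype.ext
      rw [Submodule.coe_smul]
      refine Submodule.smul_induction_on x.2 (fun s hs y _ => ?_) fun u v hu hv => by
        simp only [smul_add, hu, hv, Submodule.coe_zero, add_zero]
      rw [← mul_smul]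
      exact h _ (by rw [pow_succ]; exact Ideal.mul_mem_mul hr hs) y
    haveI : IsArtinian A (M ⧸ K) := by
      obtain ⟨n, f, hf⟩ := Module.Finite.exists_fin' A (M ⧸ K)
      have hle : Submodule.pi Set.univ (fun _ : Fin n => (m : Submodule A A)) ≤ LinearMap.ker f := by
        intro v hv
        rw [LinearMap.mem_ker, pi_eq_sum_univ' v, map_sum]
        refine Finset.sum_eq_zero fun j _ => ?_
        rw [map_smul]
        obtain ⟨y, hy⟩ := Submodule.Quotient.mk_surjective K (f (Pi.single j 1))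
        rw [← hy, ← Submodule.Quotient.mk_smul, Submodule.Quotient.mk_eq_zero]
        exact Submodule.smul_mem_smul (hv j trivial) trivial
      haveI : IsSimpleModule A (A ⧸ m) := isSimpleModule_iff_isCoatom.2 Ideal.IsMaximal.out
      haveI : IsArtinian A ((Fin n → A) ⧸ Submodule.pi Set.univ fun _ : Fin n => (m : Submodule A A)) :=
        isArtinian_of_linearEquiv (Submodule.quotientPi (fun _ : Fin n => (m : Submodule A A))).symm
      exact isArtinian_of_surjective _ (Submodule.liftQ _ f hle) fun y => by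
        obtain ⟨v, rfl⟩ := hf y
        exact ⟨Submodule.Quotient.mk v, rfl⟩
    exact (isArtinian_iff_submodule_quotient K).2 ⟨inferInstance, inferInstance⟩

end Artinian

end Groth.Agent.GrLC
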