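import Groth.Agent.GrLC.GrCohExact

/-!
# Graded local cohomology only depends on the torsion functor

`LC.gr_eq_bot_congr_ideal`; `gam_eq_of_pow_le`.
-/

set_option autoImplicit false
set_option linter.unusedSectionVars false
universe u

open DirectSum

namespace Groth.Agent.GrLC

variable {ι : Type} [AddCommGroup ι] [DecidableEq ι]
variable {R : Type u} [CommRing R]
variable {σ : Type u} [SetLike σ R] [AddSubgroupClass σ R] {𝒜 : ι → σ} [GradedRing 𝒜]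
variable {M : Type u} [AddCommGroup M] [Module R M] {τ : Type u} [SetLike τ M] [AddSubgroupClass τ M]
  {ℳ : ι → τ} [DirectSum.Decomposition ℳ] [SetLike.GradedSMul 𝒜 ℳ]

theorem gam_eq_of_pow_le {I J : Ideal R} {p q : ℕ} (h₁ : I ^ p ≤ J) (h₂ : J ^ q ≤ I)
    (X : Type u) [AddCommGroup X] [Module R X] : _root_.GrLC.gam I X = _root_.GrLC.gam J X := by
  ext x
  constructor
  · rintro ⟨n, hn⟩
    exact ⟨q * n, fun r hr => hn r ((pow_mul J q n ▸ Ideal.pow_right_mono h₂ n) hr)⟩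
  · rintro ⟨n, hn⟩
    exact ⟨p * n, fun r hr => hn r ((pow_mul I p n ▸ Ideal.pow_right_mono h₁ n) hr)⟩

theorem Hcomp_eq_bot_iff_forall (E : _root_.GrLC.StarInjRes 𝒜 ℳ) (a : HomogeneousIdeal 𝒜) (i : ℕ)
    (g : ι) : E.Hcomp a i g = ⊥ ↔
      ∀ z : (E.X i).carrier, z ∈ E.cocyc a i → z ∈ (E.X i).gr g → z ∈ E.cobdy a i := by
  refine (Submodule.eq_bot_iff _).trans ⟨fun h z hz hg => ?_, fun h x hx => ?_⟩
  · have h0 := (Submodule.Quotient.mk_eq_zero ((E.cobdy a i).comap (E.cocyc a i).subtype)).1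
      (h (E.toH a i ⟨z, hz⟩) ⟨⟨z, hz⟩, hg, rfl⟩)
    exact h0
  · obtain ⟨z, hg, rfl⟩ := hx
    exact (Submodule.Quotient.mk_eq_zero _).2 (h z.1 z.2 hg)

theorem LC.gr_eq_bot_congr_ideal [IsNoetherianRing R] {a a' : HomogeneousIdeal 𝒜}
    (h : ∀ (X : Type u) [AddCommGroup X] [Module R X],
      _root_.GrLC.gam a.toIdeal X = _root_.GrLC.gam a'.toIdeal X) (i : ℕ) (g : ι) :
    LC.gr ℳ a i g = ⊥ ↔ LC.gr ℳ a' i g = ⊥ := by
  obtain ⟨E⟩ := exists_res 𝒜 ℳ
  rw [← LC.Hcomp_eq_bot_iff a i E g, ← LC.Hcomp_eq_bot_iff a' i E g, Hcomp_eq_bot_iff_forall,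
    Hcomp_eq_bot_iff_forall]
  have hc : E.cocyc a i = E.cocyc a' i := by
    unfold _root_.GrLC.StarInjRes.cocyc
    rw [h]
  have hb : E.cobdy a i = E.cobdy a' i := by
    rcases i with - | i
    · rfl
    · change (_root_.GrLC.gam a.toIdeal (E.X i).carrier).map (E.d i) = _
      rw [h]
      rfl
  rw [hc, hb]

end Groth.Agent.GrLC
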