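import Groth.Agent.GrLC.LocCohElt
import Mathlib.Algebra.Homology.DerivedCategory.Ext.Linear
import Mathlib.Algebra.Homology.DerivedCategory.Ext.ExactSequences
import Mathlib.Algebra.Homology.ShortComplex.ModuleCat

/-!
# Functoriality and the long exact sequence of `LocCoh.H`

* `LocCohElt.desc`: maps out of `LocCoh.H I i M` from compatible maps on `Ext^i(R ⧸ I^n, M)`;
* `map`, `mapEquiv`, `map_smul_id`;
* `δ`, `exact_map_map`, `exact_map_δ`, `exact_δ_map`, `map_zero_injective`.
-/

set_option autoImplicit false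
universe u

open CategoryTheory CategoryTheory.Abelian

namespace Groth.Agent.GrLC.LocCohElt

variable {R : Type u} [CommRing R] (I : Ideal R) (i : ℕ)

/-- Restriction along `R ⧸ I^m → R ⧸ I^n`. -/
noncomputable def res (X : ModuleCat.{u} R) {n m : ℕ} (h : n ≤ m) :
    Ext.{u} (quo I n) X i →ₗ[R] Ext.{u} (quo I m) X i :=
  Ext.bilinearCompOfLinear R (quo I m) (quo I n) X 0 i i (zero_add i) (Ext.mk₀ (proj I h))

theorem res_apply (X : ModuleCat.{u} R) {n m : ℕ} (h : n ≤ m) (e : Ext.{u} (quo I n) X i) :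
    res I i X h e = (Ext.mk₀ (proj I h)).comp e (zero_add i) := rfl

theorem proj_trans {n m k : ℕ} (h : n ≤ m) (h' : m ≤ k) :
    proj I h' ≫ proj I h = proj I (h.trans h') := by
  apply ModuleCat.hom_ext
  apply LinearMap.ext
  intro x
  obtain ⟨r, rfl⟩ := Submodule.Quotient.mk_surjective _ x
  rfl

theorem res_res (X : ModuleCat.{u} R) {n m k : ℕ} (h : n ≤ m) (h' : m ≤ k)
    (e : Ext.{u} (quo I n) X i) : res I i X h' (res I i X h e) = res I i X (h.trans h') e := by
  rw [res_apply, res_apply, res_apply, Ext.mk₀_comp_mk₀_assoc, proj_trans]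

section

variable (M : Type u) [AddCommGroup M] [Module R M]

theorem mk_res {n m : ℕ} (h : n ≤ m) (e : Ext.{u} (quo I n) (ModuleCat.of R M) i) :
    mk I i M m (res I i _ h e) = mk I i M n e :=
  mk_proj I i M h e

theorem mk_eq_zero' {n : ℕ} (e : Ext.{u} (quo I n) (ModuleCat.of R M) i) :
    mk I i M n e = 0 ↔ ∃ (m : ℕ) (h : n ≤ m), res I i _ h e = 0 :=
  mk_eq_zero I i M e

theorem eventually_res_eq {n : ℕ} (e e' : Ext.{u} (quo I n) (ModuleCat.of R M) i)
    (h : mk I i M n e = mk I i M n e') :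
    ∃ (m : ℕ) (hm : n ≤ m), res I i _ hm e = res I i _ hm e' := by
  rw [← sub_eq_zero, ← map_sub, mk_eq_zero'] at h
  obtain ⟨m, hm, h⟩ := h
  rw [map_sub] at h
  exact ⟨m, hm, sub_eq_zero.1 h⟩

variable {M} {P : Type*} [AddCommGroup P] [Module R P]
  (g : ∀ n, Ext.{u} (quo I n) (ModuleCat.of R M) i →ₗ[R] P)
  (hg : ∀ (n m : ℕ) (h : n ≤ m) (e), g m (res I i _ h e) = g n e)

include hg in
theorem descFun_eq {n m : ℕ} (e : Ext.{u} (quo I n) (ModuleCat.of R M) i)
    (e' : Ext.{u} (quo I m) (ModuleCat.of R M) i) (h : mk I i M n e = mk I i M m e') :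
    g n e = g m e' := by
  rw [← mk_res I i M (le_max_left n m) e, ← mk_res I i M (le_max_right n m) e'] at h
  obtain ⟨k, hk, h⟩ := eventually_res_eq I i M _ _ h
  rw [← hg _ _ (le_max_left n m) e, ← hg _ _ (le_max_right n m) e', ← hg _ _ hk, h, hg _ _ hk]

/-- A linear map out of `LocCoh.H I i M`. -/
noncomputable def desc : LocCoh.H I i M →ₗ[R] P where
  toFun x := g _ (exists_mk I i M x).choose_spec.choose
  map_add' x y := by
    obtain ⟨n, a, rfl⟩ := exists_mk I i M x
    obtain ⟨m, b, rfl⟩ := exists_mk I i M y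
    have key : ∀ (k : ℕ) (e : Ext.{u} (quo I k) (ModuleCat.of R M) i),
        g _ (exists_mk I i M (mk I i M k e)).choose_spec.choose = g k e := fun k e =>
      descFun_eq I i g hg _ e (exists_mk I i M (mk I i M k e)).choose_spec.choose_spec
    rw [key n a, key m b, ← mk_res I i M (le_max_left n m) a, ← mk_res I i M (le_max_right n m) b,
      ← map_add, key, map_add, hg, hg]
  map_smul' c x := by
    obtain ⟨n, a, rfl⟩ := exists_mk I i M x
    have key : ∀ (k : ℕ) (e : Ext.{u} (quo I k) (ModuleCat.of R M) i),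
        g _ (exists_mk I i M (mk I i M k e)).choose_spec.choose = g k e := fun k e =>
      descFun_eq I i g hg _ e (exists_mk I i M (mk I i M k e)).choose_spec.choose_spec
    rw [key n a, ← map_smul, key, map_smul, RingHom.id_apply]

set_option maxRecDepth 20000 in
theorem desc_mk (n : ℕ) (e : Ext.{u} (quo I n) (ModuleCat.of R M) i) :
    desc I i g hg (mk I i M n e) = g n e :=
  descFun_eq I i g hg _ e (exists_mk I i M (mk I i M n e)).choose_spec.choose_spec

end

section Map

variable {M N P : Type u} [AddCommGroup M] [Module R M] [AddCommGroup N] [Module R N]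
  [AddCommGroup P] [Module R P]

/-- Functoriality in the module. -/
noncomputable def map (f : M →ₗ[R] N) : LocCoh.H I i M →ₗ[R] LocCoh.H I i N :=
  desc I i (fun n => mk I i N n ∘ₗ
    Ext.postcompOfLinear (Ext.mk₀ (ModuleCat.ofHom f)) R (quo I n) (add_zero i)) fun n m h e => by
    change mk I i N m (((Ext.mk₀ (proj I h)).comp e (zero_add i)).comp _ (add_zero i)) = _
    rw [Ext.comp_assoc_of_third_deg_zero]
    exact mk_res I i N h _

theorem map_mk (f : M →ₗ[R] N) (n : ℕ) (e : Ext.{u} (quo I n) (ModuleCat.of R M) i) :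
    map I i f (mk I i M n e) = mk I i N n (e.comp (Ext.mk₀ (ModuleCat.ofHom f)) (add_zero i)) :=
  desc_mk ..

theorem map_id (x : LocCoh.H I i M) : map I i LinearMap.id x = x := by
  obtain ⟨n, e, rfl⟩ := exists_mk I i M x
  rw [map_mk]
  exact congrArg _ (Ext.comp_mk₀_id e)

theorem map_comp (f : M →ₗ[R] N) (g : N →ₗ[R] P) (x : LocCoh.H I i M) :
    map I i g (map I i f x) = map I i (g ∘ₗ f) x := by
  obtain ⟨n, e, rfl⟩ := exists_mk I i M x
  rw [map_mk, map_mk, map_mk]
  refine congrArg _ ?_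
  rw [Ext.comp_assoc_of_third_deg_zero, Ext.mk₀_comp_mk₀]
  rfl

theorem map_smul_id (r : R) (x : LocCoh.H I i M) :
    map I i (r • (LinearMap.id : M →ₗ[R] M)) x = r • x := by
  obtain ⟨n, e, rfl⟩ := exists_mk I i M x
  rw [map_mk, ← map_smul, Ext.smul_eq_comp_mk₀]
  rfl

/-- Linear equivalences induce linear equivalences. -/
noncomputable def mapEquiv (f : M ≃ₗ[R] N) : LocCoh.H I i M ≃ₗ[R] LocCoh.H I i N :=
  LinearEquiv.ofLinearMap (map I i f.toLinearMap) (map I i f.symm.toLinearMap)
    (LinearMap.ext fun x => by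
      rw [LinearMap.comp_apply, map_comp, LinearEquiv.comp_symm, map_id, LinearMap.id_apply])
    (LinearMap.ext fun x => by
      rw [LinearMap.comp_apply, map_comp, LinearEquiv.symm_comp, map_id, LinearMap.id_apply])

/-- `LocCoh.H I i M` is `I`-power torsion. -/
theorem exists_pow_smul_eq_zero (x : LocCoh.H I i M) : ∃ n : ℕ, ∀ r ∈ I ^ n, r • x = 0 := by
  obtain ⟨n, e, rfl⟩ := exists_mk I i M x
  refine ⟨n, fun r hr => ?_⟩
  rw [← map_smul]
  suffices h : r • e = 0 by rw [h, map_zero]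
  rw [← Ext.mk₀_id_comp e, ← Ext.smul_comp, ← Ext.mk₀_smul]
  have : r • 𝟙 (quo I n) = 0 := by
    apply ModuleCat.hom_ext
    apply LinearMap.ext
    intro y
    obtain ⟨s, rfl⟩ := Submodule.Quotient.mk_surjective _ y
    exact (Submodule.Quotient.mk_eq_zero _).2 (Ideal.mul_mem_right s _ hr)
  rw [this, Ext.mk₀_zero, Ext.zero_comp]

/-- An element of `I` acting bijectively on `M` kills `LocCoh.H I i M`. -/
theorem subsingleton_of_smul_bijective {f : R} (hf : f ∈ I)
    (hbij : Function.Bijective fun m : M => f • m) : Subsingleton (LocCoh.H I i M) := by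
  refine subsingleton_of_forall_eq 0 fun x => ?_
  obtain ⟨k, hk⟩ := exists_pow_smul_eq_zero I i x
  have hid : (LinearEquiv.ofBijective (f • (LinearMap.id : M →ₗ[R] M)) hbij).toLinearMap =
      f • LinearMap.id := rfl
  have hinj : Function.Injective fun y : LocCoh.H I i M => f • y := by
    intro a b hab
    refine (mapEquiv I i (LinearEquiv.ofBijective (f • (LinearMap.id : M →ₗ[R] M)) hbij)).injective ?_
    change map I i _ a = map I i _ b
    rw [hid, map_smul_id, map_smul_id]
    exact hab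
  have hpow : ∀ l : ℕ, f ^ l • x = 0 → x = 0 := by
    intro l
    induction l with
    | zero => intro h; simpa using h
    | succ l ih =>
      intro h
      rw [pow_succ', mul_smul] at h
      exact ih (hinj (h.trans (smul_zero f).symm))
  exact hpow k (hk _ (Ideal.pow_mem_pow hf k))

end Map

section LES

variable {M N P : Type u} [AddCommGroup M] [Module R M] [AddCommGroup N] [Module R N]
  [AddCommGroup P] [Module R P]
variable {f : M →ₗ[R] N} {g : N →ₗ[R] P} (hf : Function.Injective f) (hfg : Function.Exact f g)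
  (hg : Function.Surjective g)

/-- The short complex of `0 → M → N → P → 0`. -/
noncomputable def sc (hfg : Function.Exact f g) : ShortComplex (ModuleCat.{u} R) :=
  ShortComplex.mk (X₁ := ModuleCat.of R M) (X₂ := ModuleCat.of R N) (X₃ := ModuleCat.of R P)
    (ModuleCat.ofHom f) (ModuleCat.ofHom g)
    (ModuleCat.hom_ext hfg.linearMap_comp_eq_zero)

include hf hg in
theorem sc_shortExact : (sc hfg).ShortExact where
  exact := (ShortComplex.moduleCat_exact_iff_range_eq_ker _).2 hfg.linearMap_ker_eq.symm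
  mono_f := (ModuleCat.mono_iff_injective _).2 hf
  epi_g := (ModuleCat.epi_iff_surjective _).2 hg

/-- The extension class. -/
noncomputable def cls : Ext.{u} (ModuleCat.of R P) (ModuleCat.of R M) 1 :=
  (sc_shortExact hf hfg hg).extClass

theorem comp_cls :
    (Ext.mk₀ (ModuleCat.ofHom g)).comp (cls hf hfg hg) (zero_add 1) = 0 :=
  (sc_shortExact hf hfg hg).comp_extClass

theorem cls_comp :
    (cls hf hfg hg).comp (Ext.mk₀ (ModuleCat.ofHom f)) (add_zero 1) = 0 :=
  (sc_shortExact hf hfg hg).extClass_comp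

/-- The connecting map. -/
noncomputable def δ : LocCoh.H I i P →ₗ[R] LocCoh.H I (i + 1) M :=
  desc I i (fun n => mk I (i + 1) M n ∘ₗ
    Ext.postcompOfLinear (cls hf hfg hg) R (quo I n) rfl) fun n m h e => by
    exact (congrArg (mk I (i + 1) M m) (Ext.comp_assoc (Ext.mk₀ (proj I h)) e
      (cls hf hfg hg) (zero_add i) rfl (by omega))).trans
      (mk_res I (i + 1) M h _)

theorem δ_mk (n : ℕ) (e : Ext.{u} (quo I n) (ModuleCat.of R P) i) :
    δ I i hf hfg hg (mk I i P n e) =
      mk I (i + 1) M n (e.comp (cls hf hfg hg) rfl) :=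
  desc_mk ..

include hf hfg hg in
theorem exact_map_map : Function.Exact (map I i f) (map I i g) := by
  intro x
  refine ⟨fun hx => ?_, fun ⟨y, hy⟩ => ?_⟩
  · obtain ⟨n, e, rfl⟩ := exists_mk I i N x
    rw [map_mk, mk_eq_zero'] at hx
    obtain ⟨m, hm, h0⟩ := hx
    obtain ⟨x₁, hx₁⟩ := Ext.covariant_sequence_exact₂ (quo I m) (sc_shortExact hf hfg hg)
      (res I i _ hm e)
      ((Ext.comp_assoc_of_third_deg_zero (Ext.mk₀ (proj I hm)) e _ (zero_add i)).trans h0)
    exact ⟨mk I i M m x₁, (map_mk I i f m x₁).trans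
      ((congrArg (mk I i N m) hx₁).trans (mk_res I i N hm e))⟩
  · subst hy
    rw [map_comp]
    obtain ⟨n, e, rfl⟩ := exists_mk I i M y
    rw [map_mk, hfg.linearMap_comp_eq_zero]
    change mk I i P n (e.comp (Ext.mk₀ (0 : ModuleCat.of R M ⟶ ModuleCat.of R P)) (add_zero i)) = 0
    rw [Ext.mk₀_zero, Ext.comp_zero, map_zero]

theorem exact_map_δ : Function.Exact (map I i g) (δ I i hf hfg hg) := by
  intro x
  refine ⟨fun hx => ?_, fun ⟨y, hy⟩ => ?_⟩
  · obtain ⟨n, e, rfl⟩ := exists_mk I i P x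
    rw [δ_mk, mk_eq_zero'] at hx
    obtain ⟨m, hm, h0⟩ := hx
    obtain ⟨x₂, hx₂⟩ := Ext.covariant_sequence_exact₃ (quo I m) (sc_shortExact hf hfg hg)
      (res I i _ hm e) rfl ((Ext.comp_assoc _ e _ (zero_add i) rfl (by omega)).trans h0)
    exact ⟨mk I i N m x₂, (map_mk I i g m x₂).trans
      ((congrArg (mk I i P m) hx₂).trans (mk_res I i P hm e))⟩
  · subst hy
    obtain ⟨n, e, rfl⟩ := exists_mk I i N y
    rw [map_mk, δ_mk]
    have : (e.comp (Ext.mk₀ (ModuleCat.ofHom g)) (add_zero i)).comp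
        (cls hf hfg hg) (rfl : i + 1 = i + 1) = 0 := by
      rw [Ext.comp_assoc_of_second_deg_zero, comp_cls, Ext.comp_zero]
    exact (congrArg (mk I (i + 1) M n) this).trans (map_zero _)

theorem exact_δ_map : Function.Exact (δ I i hf hfg hg) (map I (i + 1) f) := by
  intro x
  refine ⟨fun hx => ?_, fun ⟨y, hy⟩ => ?_⟩
  · obtain ⟨n, e, rfl⟩ := exists_mk I (i + 1) M x
    rw [map_mk, mk_eq_zero'] at hx
    obtain ⟨m, hm, h0⟩ := hx
    obtain ⟨x₃, hx₃⟩ := Ext.covariant_sequence_exact₁ (quo I m) (sc_shortExact hf hfg hg)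
      (res I (i + 1) _ hm e)
      ((Ext.comp_assoc_of_third_deg_zero (Ext.mk₀ (proj I hm)) e _ (zero_add (i + 1))).trans h0)
      (n₀ := i) rfl
    exact ⟨mk I i P m x₃, (δ_mk I i hf hfg hg m x₃).trans
      ((congrArg (mk I (i + 1) M m) hx₃).trans (mk_res I (i + 1) M hm e))⟩
  · subst hy
    obtain ⟨n, e, rfl⟩ := exists_mk I i P y
    rw [δ_mk, map_mk]
    have : (e.comp (cls hf hfg hg) (rfl : i + 1 = i + 1)).comp
        (Ext.mk₀ (ModuleCat.ofHom f)) (add_zero (i + 1)) = 0 := by
      rw [Ext.comp_assoc_of_third_deg_zero, cls_comp, Ext.comp_zero]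
    exact (congrArg (mk I (i + 1) N n) this).trans (map_zero _)

include hf in
theorem map_zero_injective : Function.Injective (map I 0 f) := by
  rw [injective_iff_map_eq_zero]
  intro x hx
  obtain ⟨n, e, rfl⟩ := exists_mk I 0 M x
  rw [map_mk, mk_eq_zero'] at hx
  obtain ⟨m, hm, h0⟩ := hx
  haveI : Mono (ModuleCat.ofHom f) := (ModuleCat.mono_iff_injective _).2 hf
  have : res I 0 (ModuleCat.of R M) hm e = 0 := by
    apply Ext.postcomp_mk₀_injective_of_mono (quo I m) (ModuleCat.ofHom f)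
    rw [map_zero]
    exact (Ext.comp_assoc_of_third_deg_zero (Ext.mk₀ (proj I hm)) e _ (zero_add 0)).trans h0
  rw [← mk_res I 0 M hm e, this, map_zero]

end LES

end Groth.Agent.GrLC.LocCohElt
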