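import Mathlib.Algebra.Category.ModuleCat.Ext.HasExt
import Mathlib.Algebra.Homology.DerivedCategory.Ext.ExactSequences
import Mathlib.Algebra.Homology.DerivedCategory.Ext.Linear
import Mathlib.Algebra.Homology.ShortComplex.ModuleCat

/-!
# `Ext` from an acyclic resolution, naturally in the first variable

For an exact complex `0 → M → X 0 → X 1 → ⋯` with `Ext^{≥1}(T, X j) = 0`, composition with the iterated extension
class gives `Hom(T, Z^i) → Ext^i(T, M)`, surjective with kernel the image of `Hom(T, X (i-1))`.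
-/

set_option autoImplicit false
universe u

open CategoryTheory CategoryTheory.Abelian

namespace Groth.Agent.GrLC.Acyclic

variable {R : Type u} [CommRing R]
variable (M : ModuleCat.{u} R)

/-- An exact complex `0 → M → X 0 → X 1 → ⋯`. -/
structure Res : Type (u + 1) where
  /-- the terms -/
  X : ℕ → ModuleCat.{u} R
  /-- the differentials -/
  d : ∀ n, X n →ₗ[R] X (n + 1)
  /-- the augmentation -/
  ε : M →ₗ[R] X 0
  ε_injective : Function.Injective ε
  exact_zero : LinearMap.ker (d 0) = LinearMap.range ε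
  exact_succ : ∀ n, LinearMap.ker (d (n + 1)) = LinearMap.range (d n)

variable {M} (E : Res M)

/-- The cocycles. -/
abbrev Res.Z (j : ℕ) : ModuleCat.{u} R := ModuleCat.of R (LinearMap.ker (E.d j))

/-- The surjection onto the next cocycles. -/
noncomputable def Res.dZ (j : ℕ) : E.X j →ₗ[R] E.Z (j + 1) :=
  (E.d j).codRestrict _ fun x => by rw [E.exact_succ j]; exact ⟨x, rfl⟩

theorem Res.dZ_surjective (j : ℕ) : Function.Surjective (E.dZ j) := fun ⟨z, hz⟩ => by
  rw [E.exact_succ j] at hz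
  obtain ⟨x, rfl⟩ := hz
  exact ⟨x, rfl⟩

/-- `0 → Z j → X j → Z (j+1) → 0`. -/
noncomputable def Res.ses (j : ℕ) : ShortComplex (ModuleCat.{u} R) :=
  ShortComplex.mk (X₁ := E.Z j) (X₂ := E.X j) (X₃ := E.Z (j + 1))
    (ModuleCat.ofHom (LinearMap.ker (E.d j)).subtype) (ModuleCat.ofHom (E.dZ j))
    (ModuleCat.hom_ext (LinearMap.ext fun z => Subtype.ext z.2))

theorem Res.ses_shortExact (j : ℕ) : (E.ses j).ShortExact where
  exact := (ShortComplex.moduleCat_exact_iff_range_eq_ker _).2 <| by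
    change LinearMap.range (LinearMap.ker (E.d j)).subtype = LinearMap.ker (E.dZ j)
    rw [Submodule.range_subtype, Res.dZ, LinearMap.ker_codRestrict]
  mono_f := (ModuleCat.mono_iff_injective _).2 (LinearMap.ker (E.d j)).injective_subtype
  epi_g := (ModuleCat.epi_iff_surjective _).2 (E.dZ_surjective j)

/-- `Z 0 ≅ M`. -/
noncomputable def Res.zeroIso : E.Z 0 ≅ M :=
  ((LinearEquiv.ofInjective E.ε E.ε_injective).trans
    (LinearEquiv.ofEq _ _ E.exact_zero.symm)).symm.toModuleIso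

/-- The iterated extension class. -/
noncomputable def Res.ξ : ∀ j, Ext.{u} (E.Z j) M j
  | 0 => Ext.mk₀ E.zeroIso.hom
  | j + 1 => (E.ses_shortExact j).extClass.comp (Res.ξ j) (by omega)

/-- `Hom(T, Z i) → Ext^i(T, M)`. -/
noncomputable def Res.κ (T : ModuleCat.{u} R) (i : ℕ) : (T →ₗ[R] E.Z i) →ₗ[R] Ext.{u} T M i where
  toFun φ := (Ext.mk₀ (ModuleCat.ofHom φ)).comp (E.ξ i) (zero_add i)
  map_add' φ ψ := by rw [ModuleCat.ofHom_add, Ext.mk₀_add, Ext.add_comp]
  map_smul' r φ := by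
    rw [RingHom.id_apply, show ModuleCat.ofHom (r • φ) = r • ModuleCat.ofHom φ from rfl, Ext.mk₀_smul,
      Ext.smul_comp]

theorem Res.κ_natural {T T' : ModuleCat.{u} R} (f : T' ⟶ T) (i : ℕ) (φ : T →ₗ[R] E.Z i) :
    (Ext.mk₀ f).comp (E.κ T i φ) (zero_add i) = E.κ T' i (φ ∘ₗ f.hom) := by
  exact Ext.mk₀_comp_mk₀_assoc f (ModuleCat.ofHom φ) (E.ξ i)

variable {T : ModuleCat.{u} R}

theorem Res.comp_ξ_bijective (hT : ∀ j p, 1 ≤ p → Subsingleton (Ext.{u} T (E.X j) p)) :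
    ∀ (j p n : ℕ), 1 ≤ p → ∀ h : p + j = n,
      Function.Bijective fun x : Ext.{u} T (E.Z j) p => x.comp (E.ξ j) h := by
  intro j
  induction j with
  | zero =>
    intro p n _ h
    obtain rfl : p = n := by omega
    refine Function.bijective_iff_has_inverse.2
      ⟨fun y => y.comp (Ext.mk₀ E.zeroIso.inv) (add_zero p), fun x => ?_, fun y => ?_⟩
    · simp [Res.ξ]
    · simp [Res.ξ]
  | succ j ih =>
    intro p n hp h
    have hS := E.ses_shortExact j
    have hδ : Function.Bijective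
        (fun x : Ext.{u} T (E.Z (j + 1)) p => x.comp hS.extClass (rfl : p + 1 = p + 1)) := by
      refine ⟨fun a b hab => ?_, fun y => ?_⟩
      · have h0 : (a - b).comp hS.extClass (rfl : p + 1 = p + 1) = 0 := by
          rw [sub_eq_add_neg, Ext.add_comp, Ext.neg_comp]
          exact sub_eq_zero.2 hab |> fun e => by rw [← sub_eq_add_neg]; exact e
        obtain ⟨y, hy⟩ := Ext.covariant_sequence_exact₃ T hS (a - b) rfl h0
        haveI : Subsingleton (Ext T (E.ses j).X₂ p) := hT j p hp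
        rw [Subsingleton.elim y 0, Ext.zero_comp] at hy
        exact sub_eq_zero.1 hy.symm
      · haveI : Subsingleton (Ext T (E.ses j).X₂ (p + 1)) := hT j (p + 1) (by omega)
        exact Ext.covariant_sequence_exact₁ T hS y (Subsingleton.elim _ _) rfl
    convert (ih (p + 1) n (by omega) (by omega)).comp hδ using 1
    funext x
    exact (Ext.comp_assoc x hS.extClass (E.ξ j) (rfl : p + 1 = p + 1) (by omega) (by omega)).symm

theorem Res.κ_surjective (hT : ∀ j p, 1 ≤ p → Subsingleton (Ext.{u} T (E.X j) p)) (i : ℕ) :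
    Function.Surjective (E.κ T i) := by
  intro x
  rcases i with - | j
  · obtain ⟨g, rfl⟩ := (Ext.mk₀_bijective _ _).2 x
    refine ⟨(g ≫ E.zeroIso.inv).hom, ?_⟩
    change (Ext.mk₀ (g ≫ E.zeroIso.inv)).comp (Ext.mk₀ E.zeroIso.hom) (zero_add 0) = _
    rw [Ext.mk₀_comp_mk₀]
    simp
  · obtain ⟨y, rfl⟩ := (E.comp_ξ_bijective hT j 1 (j + 1) le_rfl (by omega)).2 x
    haveI : Subsingleton (Ext T (E.ses j).X₂ 1) := hT j 1 le_rfl
    obtain ⟨z, rfl⟩ := Ext.covariant_sequence_exact₁ T (E.ses_shortExact j) y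
      (Subsingleton.elim _ _) (n₀ := 0) rfl
    obtain ⟨g, rfl⟩ := (Ext.mk₀_bijective _ _).2 z
    refine ⟨g.hom, ?_⟩
    exact (Ext.comp_assoc (Ext.mk₀ g) (E.ses_shortExact j).extClass (E.ξ j) (by omega) (by omega)
      (by omega)).symm

theorem Res.κ_zero_injective : Function.Injective (E.κ T 0) := by
  intro a b hab
  change (Ext.mk₀ (ModuleCat.ofHom a)).comp (Ext.mk₀ E.zeroIso.hom) (zero_add 0) =
    (Ext.mk₀ (ModuleCat.ofHom b)).comp (Ext.mk₀ E.zeroIso.hom) (zero_add 0) at hab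
  rw [Ext.mk₀_comp_mk₀, Ext.mk₀_comp_mk₀] at hab
  have := (cancel_mono E.zeroIso.hom).1 ((Ext.mk₀_bijective _ _).1 hab)
  exact congrArg ModuleCat.Hom.hom this

theorem Res.κ_dZ_comp (j : ℕ) (ψ : T →ₗ[R] E.X j) : E.κ T (j + 1) (E.dZ j ∘ₗ ψ) = 0 := by
  change (Ext.mk₀ ((show T ⟶ (E.ses j).X₂ from ModuleCat.ofHom ψ) ≫ (E.ses j).g)).comp
    ((E.ses_shortExact j).extClass.comp (E.ξ j) (by omega)) (zero_add (j + 1)) = 0
  rw [← Ext.mk₀_comp_mk₀, Ext.comp_assoc_of_second_deg_zero,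
    (E.ses_shortExact j).comp_extClass_assoc, Ext.comp_zero]

theorem Res.κ_eq_zero (hT : ∀ j p, 1 ≤ p → Subsingleton (Ext.{u} T (E.X j) p)) (j : ℕ)
    (φ : T →ₗ[R] E.Z (j + 1)) (h : E.κ T (j + 1) φ = 0) :
    ∃ ψ : T →ₗ[R] E.X j, E.dZ j ∘ₗ ψ = φ := by
  have h1 : (Ext.mk₀ (ModuleCat.ofHom φ)).comp (E.ses_shortExact j).extClass (zero_add 1) = 0 := by
    apply (E.comp_ξ_bijective hT j 1 (j + 1) le_rfl (by omega)).1
    change ((Ext.mk₀ (ModuleCat.ofHom φ)).comp (E.ses_shortExact j).extClass (zero_add 1)).comp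
        (E.ξ j) _ = (0 : Ext T (E.Z j) 1).comp (E.ξ j) _
    rw [Ext.zero_comp]
    exact (Ext.comp_assoc (Ext.mk₀ (ModuleCat.ofHom φ)) (E.ses_shortExact j).extClass (E.ξ j)
      (by omega) (by omega) (by omega)).trans h
  obtain ⟨x, hx⟩ := Ext.covariant_sequence_exact₃ T (E.ses_shortExact j)
    (Ext.mk₀ (ModuleCat.ofHom φ)) (rfl : 0 + 1 = 1) h1
  obtain ⟨g, rfl⟩ := (Ext.mk₀_bijective _ _).2 x
  rw [Ext.mk₀_comp_mk₀] at hx
  exact ⟨g.hom, congrArg ModuleCat.Hom.hom ((Ext.mk₀_bijective _ _).1 hx)⟩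

end Groth.Agent.GrLC.Acyclic
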