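import Groth.Agent.GrLC.Basic
import Mathlib.RingTheory.GradedAlgebra.Homogeneous.Ideal

/-!
# The grading of the cohomology computed from a *injective resolution
-/

set_option autoImplicit false
set_option linter.unusedSectionVars false
universe u

open DirectSum

namespace Groth.Agent.GrLC

variable {ι : Type} [AddCommGroup ι] [DecidableEq ι]
variable {R : Type u} [CommRing R]
variable {σ : Type u} [SetLike σ R] [AddSubgroupClass σ R] {𝒜 : ι → σ} [GradedRing 𝒜]
variable {M : Type u} [AddCommGroup M] [Module R M] {τ : Type u} [SetLike τ M] [AddSubgroupClass τ M]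
  {ℳ : ι → τ} [DirectSum.Decomposition ℳ] [SetLike.GradedSMul 𝒜 ℳ]

theorem isHomogeneous_pow {a : Ideal R} (ha : a.IsHomogeneous 𝒜) (n : ℕ) :
    (a ^ n).IsHomogeneous 𝒜 := by
  induction n with
  | zero => rw [pow_zero, Ideal.one_eq_top]; exact Ideal.IsHomogeneous.top 𝒜
  | succ n ih => rw [pow_succ]; exact ih.mul ha

/-- The torsion submodule of a homogeneous ideal is homogeneous. -/
theorem isHomogeneous_gam (a : HomogeneousIdeal 𝒜) :
    (_root_.GrLC.gam a.toIdeal M).IsHomogeneous ℳ := by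
  rw [isHomogeneous_iff]
  rintro m ⟨n, hn⟩ g
  refine ⟨n, fun r hr => ?_⟩
  rw [← sum_cpt 𝒜 r, Finset.sum_smul]
  refine Finset.sum_eq_zero fun i _ => ?_
  rw [← cpt_smul_left ℳ (cpt_mem 𝒜 i r),
    hn (cpt 𝒜 i r) (isHomogeneous_pow a.isHomogeneous n i hr), map_zero]

variable (E : _root_.GrLC.StarInjRes 𝒜 ℳ) (a : HomogeneousIdeal 𝒜)

theorem isHomogeneous_cocyc (i : ℕ) : (E.cocyc a i).IsHomogeneous (E.X i).gr :=
  isHomogeneous_inf _ (isHomogeneous_gam a) (isHomogeneous_ker _ (E.d_grHom i))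

theorem isHomogeneous_cobdy : ∀ i : ℕ, (E.cobdy a i).IsHomogeneous (E.X i).gr
  | 0 => isHomogeneous_bot _
  | n + 1 => isHomogeneous_map _ (E.d_grHom n) (isHomogeneous_gam a)

/-- The pieces of `*H` are an internal direct sum. -/
theorem isInternal_Hgr (i : ℕ) : DirectSum.IsInternal (E.Hgr a i) := by
  letI := subDec (E.X i).gr (isHomogeneous_cocyc E a i)
  have hB : ((E.cobdy a i).comap (E.cocyc a i).subtype).IsHomogeneous
      (subGr (E.X i).gr (E.cocyc a i)) :=
    isHomogeneous_comap _ (isGrHom_subtype _ _) (isHomogeneous_cobdy E a i)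
  have h : E.Hgr a i =
      quoGr (subGr (E.X i).gr (E.cocyc a i)) ((E.cobdy a i).comap (E.cocyc a i).subtype) := rfl
  rw [h]
  exact isInternal_quoGr _ hB

/-- The decomposition of `*H`. -/
@[instance_reducible]
noncomputable def Hdec (i : ℕ) : DirectSum.Decomposition (E.Hgr a i) :=
  (isInternal_Hgr E a i).chooseDecomposition

theorem Hgr_gradedSMul (i : ℕ) : SetLike.GradedSMul 𝒜 (E.Hgr a i) :=
  ⟨fun _ _ r _ hr hx => by
    obtain ⟨z, hz, rfl⟩ := hx
    exact ⟨r • z, smul_mem_gr (ℳ := (E.X i).gr) hr hz, map_smul _ r z⟩⟩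

end Groth.Agent.GrLC
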