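import Groth.Prelude.Def_Wider
import Groth.Agent.OldExt.Compare
import Mathlib.Algebra.Category.ModuleCat.Ext.HasExt
import Mathlib.Algebra.Category.ModuleCat.Colimits
import Mathlib.Algebra.Category.ModuleCat.FilteredColimits
import Mathlib.CategoryTheory.Limits.ConcreteCategory.Basic

/-!
# Elements of `LocCoh.H I i M` from `Ext^i(R ⧸ I^n, M)`
-/

set_option autoImplicit false
universe u

open CategoryTheory CategoryTheory.Limits CategoryTheory.Abelian Opposite

namespace Groth.Agent.GrLC.LocCohElt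

variable {R : Type u} [CommRing R] (I : Ideal R) (i : ℕ) (M : Type u) [AddCommGroup M] [Module R M]

/-- `R ⧸ I^n` as an object. -/
abbrev quo (n : ℕ) : ModuleCat.{u} R := ModuleCat.of R (R ⧸ I ^ n)

/-- The transition `R ⧸ I^m → R ⧸ I^n`. -/
noncomputable def proj {n m : ℕ} (h : n ≤ m) : quo I m ⟶ quo I n :=
  ModuleCat.ofHom (Submodule.factor (Ideal.pow_le_pow_right (I := I) h))

/-- The system evaluated at `M`. -/
noncomputable abbrev sys : ℕᵒᵖᵒᵖ ⥤ ModuleCat.{u} R :=
  localCohomology.diagram (localCohomology.idealPowersDiagram I) i ⋙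
    (evaluation _ _).obj (ModuleCat.of R M)

/-- `LocCoh.H` is the colimit of the evaluated system. -/
noncomputable def objIso : ModuleCat.of R (LocCoh.H I i M) ≅ colimit (sys I i M) :=
  colimitObjIsoColimitCompEvaluation _ _

/-- The objects of the system are `Ext^i(R ⧸ I^n, M)`. -/
noncomputable def sysEquiv (n : ℕ) :
    (sys I i M).obj (op (op n)) ≃ₗ[R] Ext.{u} (quo I n) (ModuleCat.of R M) i :=
  OldExt.oldExtEquiv R (quo I n) (ModuleCat.of R M) i

/-- The class of an extension. -/
noncomputable def mk (n : ℕ) : Ext.{u} (quo I n) (ModuleCat.of R M) i →ₗ[R] LocCoh.H I i M :=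
  ((objIso I i M).inv.hom.comp (colimit.ι (sys I i M) (op (op n))).hom).comp
    (sysEquiv I i M n).symm.toLinearMap

theorem mk_apply (n : ℕ) (e : Ext.{u} (quo I n) (ModuleCat.of R M) i) :
    mk I i M n e =
      (objIso I i M).inv.hom ((colimit.ι (sys I i M) (op (op n))).hom ((sysEquiv I i M n).symm e)) :=
  rfl

theorem objIso_hom_inv (x : LocCoh.H I i M) : (objIso I i M).inv.hom ((objIso I i M).hom.hom x) = x :=
  (objIso I i M).toLinearEquiv.symm_apply_apply x

theorem objIso_inv_hom (x : ((colimit (sys I i M) : ModuleCat.{u} R) : Type u)) :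
    (objIso I i M).hom.hom ((objIso I i M).inv.hom x) = x :=
  (objIso I i M).toLinearEquiv.apply_symm_apply x

theorem sys_map {n m : ℕ} (h : n ≤ m) (x : (sys I i M).obj (op (op n))) :
    sysEquiv I i M m (((sys I i M).map (homOfLE h).op.op).hom x) =
      (Ext.mk₀ (proj I h)).comp (sysEquiv I i M n x) (zero_add i) := by
  have hmap : (localCohomology.ringModIdeals (localCohomology.idealPowersDiagram I)).map
      (homOfLE h).op = proj I h := by
    apply ModuleCat.hom_ext
    apply LinearMap.ext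
    intro x
    obtain ⟨r, rfl⟩ := Submodule.Quotient.mk_surjective _ x
    rfl
  have key := OldExt.oldExtEquiv_map (R := R)
    ((localCohomology.ringModIdeals (localCohomology.idealPowersDiagram I)).map (homOfLE h).op)
    (ModuleCat.of R M) i x
  rw [hmap] at key
  refine Eq.trans ?_ key
  rw [← hmap]
  rfl

theorem mk_proj {n m : ℕ} (h : n ≤ m) (e : Ext.{u} (quo I n) (ModuleCat.of R M) i) :
    mk I i M m ((Ext.mk₀ (proj I h)).comp e (zero_add i)) = mk I i M n e := by
  have he := sys_map I i M h ((sysEquiv I i M n).symm e)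
  rw [LinearEquiv.apply_symm_apply] at he
  rw [mk_apply, mk_apply, ← he, LinearEquiv.symm_apply_apply]
  exact congrArg _ (ConcreteCategory.congr_hom (colimit.w (sys I i M) (homOfLE h).op.op) _)

theorem exists_mk (x : LocCoh.H I i M) : ∃ n e, mk I i M n e = x := by
  haveI : IsFiltered ℕᵒᵖᵒᵖ := isFiltered_op_of_isCofiltered ℕᵒᵖ
  haveI : PreservesFilteredColimitsOfSize.{0, 0} (forget (ModuleCat.{u} R)) :=
    preservesFilteredColimitsOfSize_shrink _
  obtain ⟨⟨⟨n⟩⟩, y, hy⟩ := Concrete.colimit_exists_rep (sys I i M) ((objIso I i M).hom.hom x)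
  refine ⟨n, sysEquiv I i M n y, ?_⟩
  rw [mk_apply, LinearEquiv.symm_apply_apply]
  exact (congrArg _ hy).trans (objIso_hom_inv I i M x)

theorem mk_eq_zero {n : ℕ} (e : Ext.{u} (quo I n) (ModuleCat.of R M) i) :
    mk I i M n e = 0 ↔ ∃ (m : ℕ) (h : n ≤ m), (Ext.mk₀ (proj I h)).comp e (zero_add i) = 0 := by
  haveI : IsFiltered ℕᵒᵖᵒᵖ := isFiltered_op_of_isCofiltered ℕᵒᵖ
  haveI : PreservesFilteredColimitsOfSize.{0, 0} (forget (ModuleCat.{u} R)) :=
    preservesFilteredColimitsOfSize_shrink _
  refine ⟨fun he => ?_, fun ⟨m, h, he⟩ => by rw [← mk_proj I i M h, he, map_zero]⟩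
  have h0 : (colimit.ι (sys I i M) (op (op n))).hom ((sysEquiv I i M n).symm e) =
      (colimit.ι (sys I i M) (op (op n))).hom 0 := by
    rw [mk_apply] at he
    have := congrArg (objIso I i M).hom.hom he
    rw [objIso_inv_hom, map_zero] at this
    rw [this, map_zero]
  obtain ⟨⟨⟨m⟩⟩, f, g, hfg⟩ := Concrete.colimit_exists_of_rep_eq (sys I i M) _ _ h0
  have hnm : n ≤ m := leOfHom f.unop.unop
  refine ⟨m, hnm, ?_⟩
  have hfz : ((sys I i M).map f).hom ((sysEquiv I i M n).symm e) = 0 :=
    hfg.trans (map_zero ((sys I i M).map g).hom)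
  have he := sys_map I i M hnm ((sysEquiv I i M n).symm e)
  rw [show f = (homOfLE hnm).op.op from rfl] at hfz
  rw [hfz, LinearEquiv.apply_symm_apply, map_zero] at he
  exact he.symm

end Groth.Agent.GrLC.LocCohElt
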