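import Groth.Agent.GrLC.Hom
import Groth.Agent.GrLC.Coh
import Groth.Agent.GrLC.Acyclic
import Groth.Agent.GrLC.LocCohElt

/-!
# Graded local cohomology from a *injective resolution agrees with local cohomology
-/

set_option autoImplicit false
set_option linter.unusedSectionVars false
universe u

open CategoryTheory CategoryTheory.Abelian

namespace Groth.Agent.GrLC

variable {R : Type u} [CommRing R]

/-- The map `R ⧸ J → N` sending `1` to an element killed by `J`. -/
noncomputable def ofTorsion {N : Type u} [AddCommGroup N] [Module R N] (J : Ideal R) (z : N)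
    (hz : ∀ r ∈ J, r • z = 0) : (R ⧸ J) →ₗ[R] N :=
  Submodule.liftQ J (LinearMap.toSpanSingleton R N z) fun r hr => hz r hr

theorem ofTorsion_mk {N : Type u} [AddCommGroup N] [Module R N] (J : Ideal R) (z : N)
    (hz : ∀ r ∈ J, r • z = 0) (r : R) : ofTorsion J z hz (Submodule.Quotient.mk r) = r • z := rfl

section General

variable {M : Type u} [AddCommGroup M] [Module R M] (E : Acyclic.Res (ModuleCat.of R M))
  (I : Ideal R) (hT : ∀ n j p, 1 ≤ p → Subsingleton (Ext.{u} (LocCohElt.quo I n) (E.X j) p)) (i : ℕ)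

/-- The class of a torsion cocycle at a given level. -/
noncomputable def torLevel (n : ℕ) (z : E.Z i) (hz : ∀ r ∈ I ^ n, r • z = 0) : LocCoh.H I i M :=
  LocCohElt.mk I i M n (E.κ (LocCohElt.quo I n) i (ofTorsion (I ^ n) z hz))

theorem torLevel_mono {n m : ℕ} (h : n ≤ m) (z : E.Z i) (hz : ∀ r ∈ I ^ n, r • z = 0) :
    torLevel E I i m z (fun r hr => hz r (Ideal.pow_le_pow_right h hr)) = torLevel E I i n z hz := by
  rw [torLevel, torLevel, ← LocCohElt.mk_proj I i M h, E.κ_natural]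
  congr 2
  refine LinearMap.ext fun q => ?_
  obtain ⟨r, rfl⟩ := Submodule.Quotient.mk_surjective _ q
  rfl

theorem torLevel_eq {n m : ℕ} (z : E.Z i) (hn : ∀ r ∈ I ^ n, r • z = 0) (hm : ∀ r ∈ I ^ m, r • z = 0) :
    torLevel E I i n z hn = torLevel E I i m z hm := by
  rw [← torLevel_mono E I i (le_max_left n m) z hn, ← torLevel_mono E I i (le_max_right n m) z hm]

/-- The class of a torsion cocycle. -/
noncomputable def torClassFun (z : _root_.GrLC.gam I (E.Z i)) : LocCoh.H I i M :=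
  torLevel E I i (Classical.choose z.2) z.1 (Classical.choose_spec z.2)

theorem torClassFun_eq (z : _root_.GrLC.gam I (E.Z i)) {n : ℕ} (hn : ∀ r ∈ I ^ n, r • z.1 = 0) :
    torClassFun E I i z = torLevel E I i n z.1 hn :=
  torLevel_eq E I i z.1 _ hn

/-- The class map on torsion cocycles. -/
noncomputable def torClass : _root_.GrLC.gam I (E.Z i) →ₗ[R] LocCoh.H I i M where
  toFun := torClassFun E I i
  map_add' x y := by
    obtain ⟨a, ha⟩ := x.2
    obtain ⟨b, hb⟩ := y.2
    have ha' : ∀ r ∈ I ^ max a b, r • x.1 = 0 := fun r hr =>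
      ha r (Ideal.pow_le_pow_right (le_max_left a b) hr)
    have hb' : ∀ r ∈ I ^ max a b, r • y.1 = 0 := fun r hr =>
      hb r (Ideal.pow_le_pow_right (le_max_right a b) hr)
    rw [torClassFun_eq E I i (x + y) (n := max a b) (fun r hr => by
        rw [Submodule.coe_add, smul_add, ha' r hr, hb' r hr, add_zero]),
      torClassFun_eq E I i x ha', torClassFun_eq E I i y hb']
    simp only [torLevel, ← map_add]
    congr 2
    refine LinearMap.ext fun q => ?_
    obtain ⟨r, rfl⟩ := Submodule.Quotient.mk_surjective _ q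
    exact smul_add r x.1 y.1
  map_smul' c x := by
    obtain ⟨a, ha⟩ := x.2
    rw [torClassFun_eq E I i (c • x) (n := a) (fun r hr => by
        rw [Submodule.coe_smul, smul_comm, ha r hr, smul_zero]), torClassFun_eq E I i x ha]
    simp only [torLevel, RingHom.id_apply, ← map_smul]
    congr 2
    refine LinearMap.ext fun q => ?_
    obtain ⟨r, rfl⟩ := Submodule.Quotient.mk_surjective _ q
    exact smul_comm r c x.1

include hT in
theorem torClass_surjective : Function.Surjective (torClass E I i) := by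
  intro x
  obtain ⟨n, e, rfl⟩ := LocCohElt.exists_mk I i M x
  obtain ⟨φ, rfl⟩ := E.κ_surjective (hT n) i e
  have hz : ∀ r ∈ I ^ n, r • φ (Submodule.Quotient.mk 1) = 0 := fun r hr => by
    rw [← map_smul, ← Submodule.Quotient.mk_smul, smul_eq_mul, mul_one,
      (Submodule.Quotient.mk_eq_zero _).2 hr, map_zero]
  refine ⟨⟨φ (Submodule.Quotient.mk 1), n, hz⟩, ?_⟩
  change torClassFun E I i _ = _
  rw [torClassFun_eq E I i _ hz, torLevel]
  congr 2
  refine LinearMap.ext fun q => ?_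
  obtain ⟨r, rfl⟩ := Submodule.Quotient.mk_surjective _ q
  rw [ofTorsion_mk, ← map_smul, ← Submodule.Quotient.mk_smul, smul_eq_mul, mul_one]

include hT in
theorem torClass_zero_injective : Function.Injective (torClass E I 0) := by
  rw [injective_iff_map_eq_zero]
  intro z hz
  obtain ⟨n, hn⟩ := z.2
  change torClassFun E I 0 z = 0 at hz
  rw [torClassFun_eq E I 0 z hn, torLevel, LocCohElt.mk_eq_zero] at hz
  obtain ⟨m, hm, hm0⟩ := hz
  rw [E.κ_natural, ← map_zero (E.κ (LocCohElt.quo I m) 0)] at hm0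
  refine Subtype.ext ?_
  have := LinearMap.congr_fun (E.κ_zero_injective hm0) (Submodule.Quotient.mk 1)
  change (1 : R) • z.1 = 0 at this
  simpa using this

theorem torClass_eq_zero_of {j : ℕ} (z : _root_.GrLC.gam I (E.Z (j + 1))) {x : E.X j}
    (hx : x ∈ _root_.GrLC.gam I (E.X j)) (hd : E.dZ j x = z.1) : torClass E I (j + 1) z = 0 := by
  obtain ⟨n, hn⟩ := hx
  have hz : ∀ r ∈ I ^ n, r • z.1 = 0 := fun r hr => by rw [← hd, ← map_smul, hn r hr, map_zero]
  change torClassFun E I (j + 1) z = 0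
  rw [torClassFun_eq E I (j + 1) z hz, torLevel]
  rw [show ofTorsion (I ^ n) z.1 hz = E.dZ j ∘ₗ ofTorsion (I ^ n) x hn from ?_, E.κ_dZ_comp, map_zero]
  refine LinearMap.ext fun q => ?_
  obtain ⟨r, rfl⟩ := Submodule.Quotient.mk_surjective _ q
  rw [LinearMap.comp_apply, ofTorsion_mk, ofTorsion_mk, map_smul, hd]

include hT in
theorem exists_of_torClass_eq_zero {j : ℕ} (z : _root_.GrLC.gam I (E.Z (j + 1)))
    (hz : torClass E I (j + 1) z = 0) : ∃ x ∈ _root_.GrLC.gam I (E.X j), E.dZ j x = z.1 := by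
  obtain ⟨n, hn⟩ := z.2
  change torClassFun E I (j + 1) z = 0 at hz
  rw [torClassFun_eq E I (j + 1) z hn, torLevel, LocCohElt.mk_eq_zero] at hz
  obtain ⟨m, hm, hm0⟩ := hz
  rw [E.κ_natural] at hm0
  obtain ⟨ψ, hψ⟩ := E.κ_eq_zero (hT m) j _ hm0
  refine ⟨ψ (Submodule.Quotient.mk 1), ⟨m, fun r hr => ?_⟩, ?_⟩
  · rw [← map_smul, ← Submodule.Quotient.mk_smul, smul_eq_mul, mul_one,
      (Submodule.Quotient.mk_eq_zero _).2 hr, map_zero]
  · have := LinearMap.congr_fun hψ (Submodule.Quotient.mk 1)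
    change _ = (1 : R) • z.1 at this
    rw [one_smul] at this
    exact this

end General

variable {ι : Type} [AddCommGroup ι] [DecidableEq ι] [IsNoetherianRing R]
variable {σ : Type u} [SetLike σ R] [AddSubgroupClass σ R] {𝒜 : ι → σ} [GradedRing 𝒜]
variable {M : Type u} [AddCommGroup M] [Module R M] {τ : Type u} [SetLike τ M] [AddSubgroupClass τ M]
  {ℳ : ι → τ} [DirectSum.Decomposition ℳ] [SetLike.GradedSMul 𝒜 ℳ]

/-- The underlying exact complex. -/
noncomputable def toAcyclic (E : _root_.GrLC.StarInjRes 𝒜 ℳ) : Acyclic.Res (ModuleCat.of R M) where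
  X n := ModuleCat.of R (E.X n).carrier
  d := E.d
  ε := E.ε
  ε_injective := E.ε_injective
  exact_zero := E.exact_zero
  exact_succ := E.exact_succ

theorem ext_quoPow_subsingleton {X : Type u} [AddCommGroup X] [Module R X] {τ' : Type u}
    [SetLike τ' X] [AddSubgroupClass τ' X] {𝒳 : ι → τ'} [DirectSum.Decomposition 𝒳]
    [SetLike.GradedSMul 𝒜 𝒳] (hX : _root_.GrLC.IsStarInj 𝒜 𝒳) (a : HomogeneousIdeal 𝒜) (n p : ℕ)
    (hp : 1 ≤ p) :
    Subsingleton (Ext.{u} (LocCohElt.quo a.toIdeal n) (ModuleCat.of R X) p) := by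
  have h : Submodule.IsHomogeneous (a.toIdeal ^ n) 𝒜 := isHomogeneous_pow a.isHomogeneous n
  letI := quoDec 𝒜 h
  letI := quoGr_gradedSMul (𝒜 := 𝒜) 𝒜 (a.toIdeal ^ n)
  exact ext_subsingleton_of_starInj hX (quoGr 𝒜 (a.toIdeal ^ n)) p hp

theorem toAcyclic_acyclic (E : _root_.GrLC.StarInjRes 𝒜 ℳ) (a : HomogeneousIdeal 𝒜) (n j p : ℕ)
    (hp : 1 ≤ p) : Subsingleton (Ext.{u} (LocCohElt.quo a.toIdeal n) ((toAcyclic E).X j) p) :=
  ext_quoPow_subsingleton (E.starInj j) a n p hp

/-- The torsion cocycle of a cocycle. -/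
noncomputable def cocycToGam (E : _root_.GrLC.StarInjRes 𝒜 ℳ) (a : HomogeneousIdeal 𝒜) (i : ℕ) :
    E.cocyc a i →ₗ[R] _root_.GrLC.gam a.toIdeal ((toAcyclic E).Z i) where
  toFun z := ⟨⟨z.1, z.2.2⟩, z.2.1.elim fun n hn => ⟨n, fun r hr => Subtype.ext (hn r hr)⟩⟩
  map_add' _ _ := rfl
  map_smul' _ _ := rfl

theorem cocycToGam_surjective (E : _root_.GrLC.StarInjRes 𝒜 ℳ) (a : HomogeneousIdeal 𝒜) (i : ℕ) :
    Function.Surjective (cocycToGam E a i) := fun z =>
  ⟨⟨z.1.1, z.2.elim fun n hn => ⟨n, fun r hr => congrArg Subtype.val (hn r hr)⟩, z.1.2⟩, rfl⟩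

theorem cobdy_eq_ker (E : _root_.GrLC.StarInjRes 𝒜 ℳ) (a : HomogeneousIdeal 𝒜) (i : ℕ) :
    (E.cobdy a i).comap (E.cocyc a i).subtype =
      LinearMap.ker (torClass (toAcyclic E) a.toIdeal i ∘ₗ cocycToGam E a i) := by
  ext z
  rcases i with - | j
  · simp only [_root_.GrLC.StarInjRes.cobdy, Submodule.mem_comap, Submodule.mem_bot, LinearMap.mem_ker,
      LinearMap.comp_apply]
    refine ⟨fun hz => ?_, fun hz => ?_⟩
    · rw [show z = 0 from Subtype.ext hz, map_zero, map_zero]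
    · have := torClass_zero_injective (toAcyclic E) a.toIdeal (toAcyclic_acyclic E a)
        (hz.trans (map_zero _).symm)
      exact congrArg (fun w : _root_.GrLC.gam a.toIdeal ((toAcyclic E).Z 0) => w.1.1) this
  · refine ⟨fun ⟨x, hx, hxz⟩ => ?_, fun hz => ?_⟩
    · exact torClass_eq_zero_of (toAcyclic E) a.toIdeal (cocycToGam E a (j + 1) z) hx (Subtype.ext hxz)
    · obtain ⟨x, hx, hxz⟩ := exists_of_torClass_eq_zero (toAcyclic E) a.toIdeal
        (toAcyclic_acyclic E a) _ hz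
      exact ⟨x, hx, congrArg Subtype.val hxz⟩

/-- `*H^i_a(M) ≅ H^i_a(M)`. -/
noncomputable def Hequiv (E : _root_.GrLC.StarInjRes 𝒜 ℳ) (a : HomogeneousIdeal 𝒜) (i : ℕ) :
    E.H a i ≃ₗ[R] LocCoh.H a.toIdeal i M :=
  (Submodule.quotEquivOfEq _ _ (cobdy_eq_ker E a i)).trans
    (LinearMap.quotKerEquivOfSurjective _
      ((torClass_surjective (toAcyclic E) a.toIdeal (toAcyclic_acyclic E a) i).comp
        (cocycToGam_surjective E a i)))

end Groth.Agent.GrLC
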