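import Groth.Agent.GrLC.Hom

/-!
# *Injective resolutions: existence, comparison maps, tails and shifts

* `exists_res`, `exists_chainMap`, `tailRes`, `starInj_shift`, `shiftRes`.
-/

set_option autoImplicit false
set_option linter.unusedSectionVars false
universe u

open DirectSum

namespace Groth.Agent.GrLC

variable {ι : Type} [AddCommGroup ι] [DecidableEq ι]
variable {R : Type u} [CommRing R]
variable {σ : Type u} [SetLike σ R] [AddSubgroupClass σ R] {𝒜 : ι → σ} [GradedRing 𝒜]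
variable {M : Type u} [AddCommGroup M] [Module R M] {τ : Type u} [SetLike τ M] [AddSubgroupClass τ M]
  {ℳ : ι → τ} [DirectSum.Decomposition ℳ] [SetLike.GradedSMul 𝒜 ℳ]
variable {N : Type u} [AddCommGroup N] [Module R N] {τ' : Type u} [SetLike τ' N] [AddSubgroupClass τ' N]
  {𝒩 : ι → τ'} [DirectSum.Decomposition 𝒩] [SetLike.GradedSMul 𝒜 𝒩]

variable (𝒜) in
/-- The state of the inductive construction of a resolution. -/
structure ResStep : Type (u + 1) where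
  /-- source -/
  src : _root_.GrLC.GMod.{u} 𝒜
  /-- target -/
  tgt : _root_.GrLC.GMod.{u} 𝒜
  /-- map -/
  map : src.carrier →ₗ[R] tgt.carrier
  grHom : _root_.GrLC.IsGrHom src.gr tgt.gr map
  inj : _root_.GrLC.IsStarInj 𝒜 tgt.gr

theorem ResStep.exists_next (s : ResStep 𝒜) :
    ∃ (Y : _root_.GrLC.GMod.{u} 𝒜) (d : s.tgt.carrier →ₗ[R] Y.carrier),
      _root_.GrLC.IsGrHom s.tgt.gr Y.gr d ∧
        LinearMap.ker d = LinearMap.range s.map ∧ _root_.GrLC.IsStarInj 𝒜 Y.gr := by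
  have hh := isHomogeneous_range (𝒩 := s.tgt.gr) s.src.gr s.grHom
  letI := quoDec s.tgt.gr hh
  letI := quoGr_gradedSMul (𝒜 := 𝒜) s.tgt.gr (LinearMap.range s.map)
  obtain ⟨Y, g, hY, hinj, hg⟩ := exists_starInj_embedding 𝒜 (quoGr s.tgt.gr (LinearMap.range s.map))
  refine ⟨Y, g ∘ₗ (LinearMap.range s.map).mkQ, isGrHom_comp hg (isGrHom_mkQ s.tgt.gr _), ?_, hY⟩
  rw [LinearMap.ker_comp, LinearMap.ker_eq_bot.2 hinj, Submodule.comap_bot, Submodule.ker_mkQ]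

variable (𝒜 ℳ) in
/-- *Injective resolutions exist. -/
theorem exists_res : Nonempty (_root_.GrLC.StarInjRes 𝒜 ℳ) := by
  obtain ⟨X, f, hX, hinj, hf⟩ := exists_starInj_embedding 𝒜 ℳ
  choose Y d hd hker hY using fun s : ResStep 𝒜 => s.exists_next
  let S : ℕ → ResStep 𝒜 := fun n =>
    n.rec ⟨toGMod 𝒜 ℳ, X, f, hf, hX⟩ (fun _ s => ⟨s.tgt, Y s, d s, hd s, hY s⟩)
  exact ⟨{
    X := fun n => (S n).tgt
    d := fun n => d (S n)
    ε := f
    d_grHom := fun n => hd (S n)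
    ε_grHom := hf
    ε_injective := hinj
    exact_zero := hker (S 0)
    exact_succ := fun n => hker (S (n + 1))
    starInj := fun n => (S n).inj }⟩

theorem exists_extend_quot {X : Type u} [AddCommGroup X] [Module R X] {τX : Type u} [SetLike τX X]
    [AddSubgroupClass τX X] {𝒳 : ι → τX} [DirectSum.Decomposition 𝒳] [SetLike.GradedSMul 𝒜 𝒳]
    {Y : Type u} [AddCommGroup Y] [Module R Y] {τY : Type u} [SetLike τY Y]
    [AddSubgroupClass τY Y] {𝒴 : ι → τY} [DirectSum.Decomposition 𝒴] [SetLike.GradedSMul 𝒜 𝒴]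
    (hN : _root_.GrLC.IsStarInj 𝒜 𝒩) {d : X →ₗ[R] Y} (hd : _root_.GrLC.IsGrHom 𝒳 𝒴 d)
    {g : X →ₗ[R] N} (hg : _root_.GrLC.IsGrHom 𝒳 𝒩 g) (hle : LinearMap.ker d ≤ LinearMap.ker g) :
    ∃ h : Y →ₗ[R] N, _root_.GrLC.IsGrHom 𝒴 𝒩 h ∧ h ∘ₗ d = g := by
  have hk := isHomogeneous_ker (𝒩 := 𝒴) 𝒳 hd
  letI := quoDec 𝒳 hk
  letI := quoGr_gradedSMul (𝒜 := 𝒜) 𝒳 (LinearMap.ker d)
  have hd' : _root_.GrLC.IsGrHom (quoGr 𝒳 (LinearMap.ker d)) 𝒴
      ((LinearMap.ker d).liftQ d le_rfl) := by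
    intro j q hq
    obtain ⟨x, hx, rfl⟩ := (mem_quoGr 𝒳).1 hq
    exact hd j x hx
  have hg' : _root_.GrLC.IsGrHom (quoGr 𝒳 (LinearMap.ker d)) 𝒩
      ((LinearMap.ker d).liftQ g hle) := by
    intro j q hq
    obtain ⟨x, hx, rfl⟩ := (mem_quoGr 𝒳).1 hq
    exact hg j x hx
  obtain ⟨h, hh, hhd⟩ := starInj_extend hN hd'
    (LinearMap.ker_eq_bot.1 (Submodule.ker_liftQ_eq_bot _ _ _ le_rfl)) hg'
  exact ⟨h, hh, LinearMap.ext fun x => LinearMap.congr_fun hhd (Submodule.Quotient.mk x)⟩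

/-- Comparison of resolutions over a homogeneous map. -/
theorem exists_chainMap (E : _root_.GrLC.StarInjRes 𝒜 ℳ) (E' : _root_.GrLC.StarInjRes 𝒜 𝒩)
    {f : M →ₗ[R] N} (hf : _root_.GrLC.IsGrHom ℳ 𝒩 f) :
    ∃ φ : ∀ n, (E.X n).carrier →ₗ[R] (E'.X n).carrier,
      (∀ n, _root_.GrLC.IsGrHom (E.X n).gr (E'.X n).gr (φ n)) ∧ φ 0 ∘ₗ E.ε = E'.ε ∘ₗ f ∧
        ∀ n, φ (n + 1) ∘ₗ E.d n = E'.d n ∘ₗ φ n := by
  obtain ⟨φ₀, h₀, he₀⟩ := starInj_extend (E'.starInj 0) E.ε_grHom E.ε_injective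
    (isGrHom_comp E'.ε_grHom hf)
  let P : ∀ n, ((E.X n).carrier →ₗ[R] (E'.X n).carrier) → Prop := fun n φ =>
    _root_.GrLC.IsGrHom (E.X n).gr (E'.X n).gr φ ∧
      LinearMap.ker (E.d n) ≤ LinearMap.ker (E'.d n ∘ₗ φ)
  have step : ∀ n φ, P n φ → ∃ ψ, P (n + 1) ψ ∧ ψ ∘ₗ E.d n = E'.d n ∘ₗ φ := by
    intro n φ hφ
    obtain ⟨ψ, hψ, he⟩ := exists_extend_quot (E'.starInj (n + 1)) (E.d_grHom n)
      (isGrHom_comp (E'.d_grHom n) hφ.1) hφ.2
    refine ⟨ψ, ⟨hψ, ?_⟩, he⟩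
    rw [E.exact_succ n]
    rintro _ ⟨x, rfl⟩
    have h' := LinearMap.congr_fun he x
    simp only [LinearMap.comp_apply] at h'
    rw [LinearMap.mem_ker, LinearMap.comp_apply, h', ← LinearMap.mem_ker, E'.exact_succ n]
    exact ⟨_, rfl⟩
  have base : P 0 φ₀ := by
    refine ⟨h₀, ?_⟩
    rw [E.exact_zero]
    rintro _ ⟨m, rfl⟩
    have h' := LinearMap.congr_fun he₀ m
    simp only [LinearMap.comp_apply] at h'
    rw [LinearMap.mem_ker, LinearMap.comp_apply, h', ← LinearMap.mem_ker, E'.exact_zero]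
    exact ⟨_, rfl⟩
  choose next hnext hcomm using step
  let φs : ∀ n, {φ // P n φ} := fun n =>
    Nat.rec ⟨φ₀, base⟩ (fun j p => ⟨next j p.1 p.2, hnext j p.1 p.2⟩) n
  exact ⟨fun n => (φs n).1, fun n => (φs n).2.1, he₀, fun n => hcomm n (φs n).1 (φs n).2⟩

/-- A shifted *injective module is *injective. -/
theorem starInj_shift {X : _root_.GrLC.GMod.{u} 𝒜} (hX : _root_.GrLC.IsStarInj 𝒜 X.gr) (d : ι) :
    _root_.GrLC.IsStarInj 𝒜 (shiftGMod 𝒜 X.gr d).gr := fun _ _ _ hf hinj _ hg =>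
  starInj_extend_deg hX hf hinj (d := d) hg

/-- Shift of a resolution: a resolution of `M` with the degrees moved by `d`. -/
noncomputable def shiftRes (E : _root_.GrLC.StarInjRes 𝒜 ℳ) (d : ι) :
    _root_.GrLC.StarInjRes 𝒜 (shiftGMod 𝒜 ℳ d).gr where
  X n := shiftGMod 𝒜 (E.X n).gr d
  d n := E.d n
  ε := E.ε
  d_grHom n g m hm := E.d_grHom n (g + d) m hm
  ε_grHom g m hm := E.ε_grHom (g + d) m hm
  ε_injective := E.ε_injective
  exact_zero := E.exact_zero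
  exact_succ := E.exact_succ
  starInj n := starInj_shift (E.starInj n) d

/-- The module of first cocycles of a resolution, as a graded module. -/
noncomputable def cocyclesGMod (E : _root_.GrLC.StarInjRes 𝒜 ℳ) : _root_.GrLC.GMod.{u} 𝒜 :=
  subGMod 𝒜 (E.X 1).gr (isHomogeneous_ker _ (E.d_grHom 1))

/-- The tail of a resolution resolves the first cocycles. -/
noncomputable def tailRes (E : _root_.GrLC.StarInjRes 𝒜 ℳ) :
    _root_.GrLC.StarInjRes 𝒜 (cocyclesGMod E).gr where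
  X n := E.X (n + 1)
  d n := E.d (n + 1)
  ε := (LinearMap.ker (E.d 1)).subtype
  d_grHom n := E.d_grHom (n + 1)
  ε_grHom := isGrHom_subtype _ _
  ε_injective := (LinearMap.ker (E.d 1)).injective_subtype
  exact_zero := (Submodule.range_subtype _).symm
  exact_succ n := E.exact_succ (n + 1)
  starInj n := E.starInj (n + 1)

end Groth.Agent.GrLC
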