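import Groth.Agent.GrLC.Coh
import Groth.Agent.GrSyz.Basic
import Mathlib.RingTheory.Ideal.AssociatedPrime.Finiteness
import Mathlib.RingTheory.GradedAlgebra.Radical

/-!
# Homogeneous non-zero-divisors and dévissage for positively graded rings

* `exists_pos_notMem`: homogeneous prime avoidance in positive degrees;
* `exists_nzd`: a homogeneous non-zero-divisor in `a ⊇ R₊`;
* `gradedInduction`: dévissage of finite graded modules along `Γ_a` and non-zero-divisors.
-/

set_option autoImplicit false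
set_option linter.unusedSectionVars false
universe u

open DirectSum

namespace Groth.Agent.GrLC

variable {R : Type u} [CommRing R] [IsNoetherianRing R]
variable {σ : Type u} [SetLike σ R] [AddSubgroupClass σ R] {𝒜 : ℤ → σ} [GradedRing 𝒜]
variable (hpos : ∀ n : ℤ, n < 0 → ∀ x ∈ 𝒜 n, x = 0)

omit [IsNoetherianRing R] in
theorem exists_homogeneous_notMem {Q P : Ideal R} (hQ : Q.IsHomogeneous 𝒜) (h : ¬ Q ≤ P) :
    ∃ (d : ℤ) (q : R), q ∈ 𝒜 d ∧ q ∈ Q ∧ q ∉ P := by
  by_contra hc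
  push Not at hc
  refine h fun q hq => ?_
  rw [← sum_cpt 𝒜 q]
  exact sum_mem fun g _ => hc g _ (cpt_mem 𝒜 g q) (hQ g hq)

omit [IsNoetherianRing R] in
include hpos in
theorem exists_pos_notMem_of_homogeneous :
    ∀ (s : Finset (Ideal R)), (∀ P ∈ s, P.IsPrime ∧ P.IsHomogeneous 𝒜) →
      (∀ P ∈ s, ∃ n : ℤ, 0 < n ∧ ∃ z ∈ 𝒜 n, z ∉ P) →
      ∃ n : ℤ, 0 < n ∧ ∃ x ∈ 𝒜 n, ∀ P ∈ s, x ∉ P := by
  classical
  intro s
  induction s using Finset.strongInduction with
  | _ s ih =>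
    intro hs hz
    by_cases hdom : ∃ Q ∈ s, ∃ P ∈ s, Q ≠ P ∧ Q ≤ P
    · obtain ⟨Q, hQ, P, hP, hne, hle⟩ := hdom
      obtain ⟨n, hn, x, hx, hxs⟩ := ih (s.erase Q) (Finset.erase_ssubset hQ)
        (fun T hT => hs T (Finset.mem_of_mem_erase hT)) fun T hT => hz T (Finset.mem_of_mem_erase hT)
      refine ⟨n, hn, x, hx, fun T hT hxT => ?_⟩
      by_cases hTQ : T = Q
      · subst hTQ
        exact hxs P (Finset.mem_erase.2 ⟨hne.symm, hP⟩) (hle hxT)
      · exact hxs T (Finset.mem_erase.2 ⟨hTQ, hT⟩) hxT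
    push Not at hdom
    rcases s.eq_empty_or_nonempty with rfl | ⟨P, hP⟩
    · exact ⟨1, one_pos, 0, zero_mem _, by simp⟩
    obtain ⟨n, hn, x, hx, hxs⟩ := ih (s.erase P) (Finset.erase_ssubset hP)
      (fun T hT => hs T (Finset.mem_of_mem_erase hT)) fun T hT => hz T (Finset.mem_of_mem_erase hT)
    by_cases hxP : x ∈ P
    swap
    · exact ⟨n, hn, x, hx, fun T hT => if h : T = P then h ▸ hxP else
        hxs T (Finset.mem_erase.2 ⟨h, hT⟩)⟩
    obtain ⟨e, he, z, hze, hzP⟩ := hz P hP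
    have hy : ∀ t : Finset (Ideal R), t ⊆ s.erase P →
        ∃ (m : ℤ) (y : R), 0 < m ∧ y ∈ 𝒜 m ∧ y ∉ P ∧ ∀ Q ∈ t, y ∈ Q := by
      intro t
      induction t using Finset.induction with
      | empty => exact fun _ => ⟨e, z, he, hze, hzP, by simp⟩
      | insert Q t hQt iht =>
        intro hsub
        obtain ⟨m, y, hm, hy, hyP, hyt⟩ := iht ((Finset.subset_insert Q t).trans hsub)
        have hQ := Finset.mem_erase.1 (hsub (Finset.mem_insert_self Q t))
        obtain ⟨d, q, hq, hqQ, hqP⟩ :=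
          exists_homogeneous_notMem (hs Q hQ.2).2 (hdom Q hQ.2 P hP hQ.1)
        have hd : 0 ≤ d := by
          by_contra hd
          exact hqP (hpos d (by omega) q hq ▸ zero_mem P)
        refine ⟨m + d, y * q, by omega, SetLike.mul_mem_graded hy hq,
          fun h => ((hs P hP).1.mem_or_mem h).elim hyP hqP, fun T hT => ?_⟩
        rcases Finset.mem_insert.1 hT with rfl | hT
        · exact Ideal.mul_mem_left _ _ hqQ
        · exact Ideal.mul_mem_right _ _ (hyt T hT)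
    obtain ⟨m, y, hm, hy, hyP, hys⟩ := hy _ subset_rfl
    have hdeg : x ^ m.toNat + y ^ n.toNat ∈ 𝒜 (m * n) := by
      refine add_mem ?_ ?_
      · have := SetLike.pow_mem_graded m.toNat hx
        rwa [nsmul_eq_mul, Int.toNat_of_nonneg hm.le] at this
      · have := SetLike.pow_mem_graded n.toNat hy
        rwa [nsmul_eq_mul, Int.toNat_of_nonneg hn.le, mul_comm] at this
    refine ⟨m * n, mul_pos hm hn, _, hdeg, fun T hT => ?_⟩
    by_cases hTP : T = P
    · subst hTP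
      intro h
      have hxm : x ^ m.toNat ∈ T := Ideal.pow_mem_of_mem _ hxP _ (by omega)
      exact hyP ((hs T hT).1.mem_of_pow_mem _ ((Ideal.add_mem_iff_right _ hxm).1 h))
    · intro h
      have hmem : y ^ n.toNat ∈ T :=
        Ideal.pow_mem_of_mem _ (hys T (Finset.mem_erase.2 ⟨hTP, hT⟩)) _ (by omega)
      exact hxs T (Finset.mem_erase.2 ⟨hTP, hT⟩)
        ((hs T hT).1.mem_of_pow_mem _ ((Ideal.add_mem_iff_left _ hmem).1 h))

omit [IsNoetherianRing R] in
include hpos in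
/-- Homogeneous prime avoidance in positive degrees. -/
theorem exists_pos_notMem (s : Finset (Ideal R)) (hs : ∀ P ∈ s, P.IsPrime)
    (hz : ∀ P ∈ s, ∃ n : ℤ, 0 < n ∧ ∃ z ∈ 𝒜 n, z ∉ P) :
    ∃ n : ℤ, 0 < n ∧ ∃ x ∈ 𝒜 n, ∀ P ∈ s, x ∉ P := by
  classical
  obtain ⟨n, hn, x, hx, hxs⟩ := exists_pos_notMem_of_homogeneous hpos
    (s.image fun P => (Ideal.homogeneousCore 𝒜 P).toIdeal)
    (fun Q hQ => by
      obtain ⟨P, hP, rfl⟩ := Finset.mem_image.1 hQ
      exact ⟨(hs P hP).homogeneousCore, (Ideal.homogeneousCore 𝒜 P).isHomogeneous⟩)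
    (fun Q hQ => by
      obtain ⟨P, hP, rfl⟩ := Finset.mem_image.1 hQ
      obtain ⟨e, he, z, hze, hzP⟩ := hz P hP
      exact ⟨e, he, z, hze, fun h => hzP (Ideal.toIdeal_homogeneousCore_le 𝒜 P h)⟩)
  exact ⟨n, hn, x, hx, fun P hP h => hxs _ (Finset.mem_image.2 ⟨P, hP, rfl⟩)
    (Ideal.mem_homogeneousCore_of_homogeneous_of_mem ⟨n, hx⟩ h)⟩

variable {N : Type u} [AddCommGroup N] [Module R N] [Module.Finite R N]

theorem smul_injective_of_forall_ass {x : R} (h : ∀ P ∈ associatedPrimes R N, x ∉ P) :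
    Function.Injective fun m : N => x • m := by
  intro a b hab
  by_contra hne
  have hx : x ∈ {r : R | ∃ m : N, m ≠ 0 ∧ r • m = 0} :=
    ⟨a - b, sub_ne_zero.2 hne, by rw [smul_sub, sub_eq_zero]; exact hab⟩
  rw [← biUnion_associatedPrimes_eq_zero_divisors R N] at hx
  simp only [Set.mem_iUnion] at hx
  obtain ⟨P, hP, hxP⟩ := hx
  exact h P hP hxP

theorem exists_ne_zero_of_ass {P : Ideal R} (hP : P ∈ associatedPrimes R N) :
    ∃ m : N, m ≠ 0 ∧ ∀ r, r ∈ P ↔ r • m = 0 := by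
  obtain ⟨hp, m, rfl⟩ := (isAssociatedPrime_iff).1 hP
  refine ⟨m, fun h => hp.ne_top (by simp [h]), fun r => ?_⟩
  simp [Submodule.mem_colon_singleton]

variable (a : HomogeneousIdeal 𝒜) (hirr : ∀ n : ℤ, 0 < n → ∀ x ∈ 𝒜 n, x ∈ a.toIdeal)

include hpos in
/-- A positive-degree non-zero-divisor. -/
theorem exists_nzd_pos
    (hN : ∀ m : N, (∀ n : ℤ, 0 < n → ∀ z ∈ 𝒜 n, z • m = 0) → m = 0) :
    ∃ n : ℤ, 0 < n ∧ ∃ x ∈ 𝒜 n, Function.Injective fun m : N => x • m := by
  obtain ⟨n, hn, x, hx, hxs⟩ := exists_pos_notMem hpos (associatedPrimes.finite R N).toFinset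
    (fun P hP => ((Set.Finite.mem_toFinset _).1 hP).1) (fun P hP => by
      obtain ⟨m, hm, hmP⟩ := exists_ne_zero_of_ass ((Set.Finite.mem_toFinset _).1 hP)
      by_contra hc
      push Not at hc
      exact hm (hN m fun n hn z hz => (hmP z).1 (hc n hn z hz)))
  exact ⟨n, hn, x, hx,
    smul_injective_of_forall_ass fun P hP => hxs P ((Set.Finite.mem_toFinset _).2 hP)⟩

include hpos hirr in
/-- A degree-zero non-zero-divisor in `a`. -/
theorem exists_nzd_zero
    (hnil : ∀ n : ℤ, 0 < n → ∀ z ∈ 𝒜 n, ∀ m : N, ∃ k : ℕ, z ^ k • m = 0)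
    (hN : ∀ m : N, (∀ r ∈ a.toIdeal, r • m = 0) → m = 0) :
    ∃ x ∈ 𝒜 0, x ∈ a.toIdeal ∧ Function.Injective fun m : N => x • m := by
  classical
  let f := (_root_.GrLC.deg0 𝒜).subtype
  have key : ∀ P ∈ associatedPrimes R N, ¬ a.toIdeal.comap f ≤ P.comap f := by
    intro P hP hle
    obtain ⟨m, hm, hmP⟩ := exists_ne_zero_of_ass hP
    refine hm (hN m fun r hr => (hmP r).1 ?_)
    rw [← sum_cpt 𝒜 r]
    refine sum_mem fun g _ => ?_
    rcases lt_trichotomy g 0 with hg | hg | hg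
    · rw [hpos g hg _ (cpt_mem 𝒜 g r)]; exact zero_mem _
    · subst hg
      exact hle (x := ⟨cpt 𝒜 0 r, cpt_mem 𝒜 0 r⟩) (a.isHomogeneous 0 hr)
    · obtain ⟨k, hk⟩ := hnil g hg _ (cpt_mem 𝒜 g r) m
      exact hP.1.mem_of_pow_mem k ((hmP _).2 hk)
  by_contra hc
  push Not at hc
  have hsub : ((a.toIdeal.comap f : Ideal _) : Set (_root_.GrLC.deg0 𝒜)) ⊆
      ⋃ P ∈ (↑(associatedPrimes.finite R N).toFinset : Set (Ideal R)), (P.comap f : Set _) := by
    intro x hx
    by_contra h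
    simp only [Set.Finite.coe_toFinset, Set.mem_iUnion, not_exists] at h
    exact hc x.1 x.2 hx (smul_injective_of_forall_ass fun P hP => h P hP)
  obtain ⟨P, hP, hle⟩ := (Ideal.subset_union_prime (f := fun P : Ideal R => P.comap f) ⊥ ⊥
    (fun P hP _ _ => Ideal.IsPrime.comap (hK := ((Set.Finite.mem_toFinset _).1 hP).1) f)).1 hsub
  exact key P ((Set.Finite.mem_toFinset _).1 hP) hle

omit [Module.Finite R N] in
theorem exists_pow_annihilates_gam (I : Ideal R) [IsNoetherian R N] :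
    ∃ k : ℕ, ∀ m ∈ _root_.GrLC.gam I N, ∀ r ∈ I ^ k, r • m = 0 := by
  classical
  obtain ⟨s, hs⟩ := IsNoetherian.noetherian (_root_.GrLC.gam I N)
  have hmem : ∀ m ∈ s, ∃ n : ℕ, ∀ r ∈ I ^ n, r • m = 0 := fun m hm => by
    have : m ∈ _root_.GrLC.gam I N := hs ▸ Submodule.subset_span hm
    exact this
  choose! n hn using hmem
  refine ⟨s.sup n, fun m hm r hr => ?_⟩
  rw [← hs] at hm
  induction hm using Submodule.span_induction with
  | mem y hy => exact hn y hy r (Ideal.pow_le_pow_right (Finset.le_sup hy) hr)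
  | zero => exact smul_zero r
  | add y z _ _ hy hz => rw [smul_add, hy, hz, add_zero]
  | smul c y _ hy => rw [smul_comm, hy, smul_zero]

omit [Module.Finite R N] in
theorem mem_gam_of_smul_mem (I : Ideal R) [IsNoetherian R N] {m : N} {n : ℕ}
    (h : ∀ r ∈ I ^ n, r • m ∈ _root_.GrLC.gam I N) : m ∈ _root_.GrLC.gam I N := by
  obtain ⟨k, hk⟩ := exists_pow_annihilates_gam (N := N) I
  refine ⟨k + n, fun r hr => ?_⟩
  rw [pow_add] at hr
  refine Submodule.mul_induction_on hr (fun p hp q hq => ?_) fun p q hp hq => by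
    rw [add_smul, hp, hq, add_zero]
  rw [mul_smul]
  exact hk _ (h q hq) p hp

theorem eq_zero_of_quotient_gam (I : Ideal R) {q : N ⧸ _root_.GrLC.gam I N} {n : ℕ}
    (h : ∀ r ∈ I ^ n, r • q = 0) : q = 0 := by
  obtain ⟨m, rfl⟩ := Submodule.Quotient.mk_surjective _ q
  rw [Submodule.Quotient.mk_eq_zero]
  exact mem_gam_of_smul_mem I fun r hr => (Submodule.Quotient.mk_eq_zero _).1 (h r hr)

/-- The image of multiplication by an element. -/
abbrev smulRange (x : R) (M : Type u) [AddCommGroup M] [Module R M] : Submodule R M :=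
  LinearMap.range (x • (LinearMap.id : M →ₗ[R] M))

omit [IsNoetherianRing R] in
theorem isHomogeneous_smulRange {X : _root_.GrLC.GMod.{u} 𝒜} {x : R} {d : ℤ} (hx : x ∈ 𝒜 d) :
    (smulRange x X.carrier).IsHomogeneous X.gr := by
  rw [isHomogeneous_iff]
  rintro _ ⟨m, rfl⟩ g
  exact ⟨cpt X.gr (g - d) m, (cpt_smul_left' (𝒜 := 𝒜) X.gr hx m g).symm⟩

include hpos hirr in
/-- Dévissage for finite graded modules over a positively graded ring. -/
theorem gradedInduction (P : _root_.GrLC.GMod.{u} 𝒜 → Prop)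
    (tors : ∀ X : _root_.GrLC.GMod.{u} 𝒜, Module.Finite R X.carrier →
      (∀ m : X.carrier, m ∈ _root_.GrLC.gam a.toIdeal X.carrier) → P X)
    (ext : ∀ (X Y Z : _root_.GrLC.GMod.{u} 𝒜) (f : X.carrier →ₗ[R] Y.carrier)
      (g : Y.carrier →ₗ[R] Z.carrier), Function.Injective f → Function.Exact f g →
      Function.Surjective g → _root_.GrLC.IsGrHom X.gr Y.gr f → _root_.GrLC.IsGrHom Y.gr Z.gr g →
      P X → P Z → P Y)
    (step : ∀ (X : _root_.GrLC.GMod.{u} 𝒜), Module.Finite R X.carrier → ∀ (d : ℤ) (x : R), 0 ≤ d →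
      ∀ (hx : x ∈ 𝒜 d), x ∈ a.toIdeal → Function.Injective (fun m : X.carrier => x • m) →
      P (quoGMod 𝒜 X.gr (isHomogeneous_smulRange hx)) → P X) :
    ∀ X : _root_.GrLC.GMod.{u} 𝒜, Module.Finite R X.carrier → P X := by
  suffices H : ∀ (J : Ideal R) (X : _root_.GrLC.GMod.{u} 𝒜), Module.Finite R X.carrier →
      (∀ r ∈ J, ∀ m : X.carrier, r • m = 0) → P X from
    fun X hX => H ⊥ X hX fun r hr m => by rw [show r = 0 from hr, zero_smul]
  intro J
  induction J using WellFoundedGT.induction with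
  | _ J ihJ =>
  intro M hM hJ
  have hstep : ∀ X : _root_.GrLC.GMod.{u} 𝒜, Module.Finite R X.carrier →
      (∀ r ∈ J, ∀ m : X.carrier, r • m = 0) → ∀ (d : ℤ) (x : R), 0 ≤ d → x ∈ 𝒜 d → x ∈ a.toIdeal →
      Function.Injective (fun m : X.carrier => x • m) → P X := by
    intro X hX hJX d x hd hx hxa hinj
    rcases subsingleton_or_nontrivial X.carrier with hs | hnt
    · exact tors X hX fun m => by rw [Subsingleton.elim m 0]; exact zero_mem _
    haveI := hX
    have hxJ : x ∉ J := fun h => by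
      obtain ⟨m, hm⟩ := exists_ne (0 : X.carrier)
      exact hm (hinj (show x • m = x • (0 : X.carrier) by rw [hJX x h, smul_zero]))
    refine step X hX d x hd hx hxa hinj (ihJ (J ⊔ Ideal.span {x})
      (lt_of_le_of_ne le_sup_left fun h => hxJ (h ▸ Submodule.mem_sup_right
        (Ideal.mem_span_singleton_self x))) _
      (inferInstanceAs (Module.Finite R (X.carrier ⧸ smulRange x X.carrier))) fun r hr q => ?_)
    obtain ⟨m, rfl⟩ := Submodule.mkQ_surjective (smulRange x X.carrier) q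
    obtain ⟨s, hs, t, ht, rfl⟩ := Submodule.mem_sup.1 hr
    obtain ⟨c, rfl⟩ := Ideal.mem_span_singleton'.1 ht
    refine ((map_smul (smulRange x X.carrier).mkQ _ m).symm).trans
      ((Submodule.Quotient.mk_eq_zero _).2 ?_)
    rw [add_smul, hJX s hs, zero_add, mul_comm, mul_smul]
    exact ⟨c • m, rfl⟩
  haveI := hM
  have hΓ := isHomogeneous_gam (ℳ := M.gr) a
  refine ext (subGMod 𝒜 M.gr hΓ) M (quoGMod 𝒜 M.gr hΓ) (_root_.GrLC.gam a.toIdeal M.carrier).subtype
    (_root_.GrLC.gam a.toIdeal M.carrier).mkQ (Submodule.injective_subtype _)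
    (LinearMap.exact_subtype_mkQ _) (Submodule.mkQ_surjective _) (isGrHom_subtype _ _)
    (isGrHom_mkQ _ _) ?_ ?_
  · exact tors _ (inferInstanceAs (Module.Finite R (_root_.GrLC.gam a.toIdeal M.carrier)))
      fun m => m.2.elim fun n hn => ⟨n, fun r hr => Subtype.ext (hn r hr)⟩
  let N : _root_.GrLC.GMod.{u} 𝒜 := quoGMod 𝒜 M.gr hΓ
  haveI hN : Module.Finite R N.carrier :=
    inferInstanceAs (Module.Finite R (M.carrier ⧸ _root_.GrLC.gam a.toIdeal M.carrier))
  have hJN : ∀ r ∈ J, ∀ m : N.carrier, r • m = 0 := fun r hr q => by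
    obtain ⟨m, rfl⟩ := Submodule.mkQ_surjective (_root_.GrLC.gam a.toIdeal M.carrier) q
    exact (map_smul _ r m).symm.trans ((congrArg _ (hJ r hr m)).trans (map_zero _))
  have hNtf : ∀ m : N.carrier, (∀ r ∈ a.toIdeal, r • m = 0) → m = 0 := fun m hm =>
    eq_zero_of_quotient_gam (N := M.carrier) a.toIdeal (q := m) (n := 1)
      (fun r hr => hm r (by simpa using hr))
  let ip : HomogeneousIdeal 𝒜 := _root_.GrSyz.irrel 𝒜
  have hΔ := isHomogeneous_gam (ℳ := N.gr) ip
  refine ext (subGMod 𝒜 N.gr hΔ) N (quoGMod 𝒜 N.gr hΔ) (_root_.GrLC.gam ip.toIdeal N.carrier).subtype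
    (_root_.GrLC.gam ip.toIdeal N.carrier).mkQ (Submodule.injective_subtype _)
    (LinearMap.exact_subtype_mkQ _) (Submodule.mkQ_surjective _) (isGrHom_subtype _ _)
    (isGrHom_mkQ _ _) ?_ ?_
  · haveI : Module.Finite R (_root_.GrLC.gam ip.toIdeal N.carrier) := inferInstance
    obtain ⟨x, hx, hxa, hinj⟩ := exists_nzd_zero hpos a hirr
      (N := _root_.GrLC.gam ip.toIdeal N.carrier)
      (fun n hn z hz m => by
        obtain ⟨k, hk⟩ := m.2
        exact ⟨k, Subtype.ext (hk _ (Ideal.pow_mem_pow (GrSyz.mem_irrel_of_pos hn hz) k))⟩)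
      fun m hm => Subtype.ext (hNtf m.1 fun r hr => congrArg Subtype.val (hm r hr))
    exact hstep _ (inferInstanceAs (Module.Finite R (_root_.GrLC.gam ip.toIdeal N.carrier)))
      (fun r hr m => Subtype.ext (hJN r hr m.1)) 0 x le_rfl hx hxa hinj
  · haveI : Module.Finite R (N.carrier ⧸ _root_.GrLC.gam ip.toIdeal N.carrier) := inferInstance
    obtain ⟨n, hn, x, hx, hinj⟩ := exists_nzd_pos hpos
      (N := N.carrier ⧸ _root_.GrLC.gam ip.toIdeal N.carrier) fun m hm => by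
        refine eq_zero_of_quotient_gam ip.toIdeal (n := 1) fun r hr => ?_
        rw [pow_one] at hr
        change r ∈ Ideal.span {r : R | ∃ n : ℤ, 0 < n ∧ r ∈ 𝒜 n} at hr
        induction hr using Submodule.span_induction with
        | mem z hz => exact hm hz.choose hz.choose_spec.1 z hz.choose_spec.2
        | zero => exact zero_smul R m
        | add y z _ _ hy hz => rw [add_smul, hy, hz, add_zero]
        | smul c y _ hy => rw [smul_eq_mul, mul_smul, hy, smul_zero]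
    refine hstep _ (inferInstanceAs (Module.Finite R (N.carrier ⧸ _root_.GrLC.gam ip.toIdeal N.carrier)))
      (fun r hr q => ?_) n x hn.le hx (hirr n hn x hx) hinj
    obtain ⟨m, rfl⟩ := Submodule.mkQ_surjective (_root_.GrLC.gam ip.toIdeal N.carrier) q
    exact (map_smul _ r m).symm.trans ((congrArg _ (hJN r hr m)).trans (map_zero _))

end Groth.Agent.GrLC
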