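import Groth.Agent.GrLC.GrCohExact
import Groth.Agent.GrLC.Devissage
import Groth.Agent.GrLC.Pieces

/-!
# Vanishing in high degrees and finiteness of the pieces of graded local cohomology

For `R` positively graded Noetherian, `a ⊇ R₊` and `M` finite graded:
* `LC.exists_gr_eq_bot`: `H^i_a(M)_n = 0` for `n ≫ 0`, uniformly in `i`;
* `LC.comp_of_class`: the pieces lie in every suitable class of `R₀`-modules.
-/

set_option autoImplicit false
set_option linter.unusedSectionVars false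
universe u

open DirectSum

namespace Groth.Agent.GrLC.LC

open Groth.Agent.GrLC

variable {R : Type u} [CommRing R] [IsNoetherianRing R]
variable {σ : Type u} [SetLike σ R] [AddSubgroupClass σ R] {𝒜 : ℤ → σ} [GradedRing 𝒜]
variable (hpos : ∀ n : ℤ, n < 0 → ∀ x ∈ 𝒜 n, x = 0)
variable (a : HomogeneousIdeal 𝒜) (hirr : ∀ n : ℤ, 0 < n → ∀ x ∈ 𝒜 n, x ∈ a.toIdeal)

section Smul

variable {M : Type u} [AddCommGroup M] [Module R M] {τ : Type u} [SetLike τ M] [AddSubgroupClass τ M]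
  {ℳ : ℤ → τ} [DirectSum.Decomposition ℳ] [SetLike.GradedSMul 𝒜 ℳ]

theorem isGrHomDeg_smul {x : R} {d : ℤ} (hx : x ∈ 𝒜 d) :
    _root_.GrLC.IsGrHomDeg ℳ ℳ (x • (LinearMap.id : M →ₗ[R] M)) d := fun g m hm => by
  have h := smul_mem_gr (𝒜 := 𝒜) (ℳ := ℳ) hx hm
  rwa [add_comm] at h

theorem gr_zero_eq_bot_of_nzd {x : R} (hxa : x ∈ a.toIdeal)
    (hinj : Function.Injective fun m : M => x • m) (n : ℤ) : gr ℳ a 0 n = ⊥ := by
  refine gr_zero_eq_bot a fun m _ ⟨k, hk⟩ => ?_
  have : ∀ l : ℕ, x ^ l • m = 0 → m = 0 := by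
    intro l
    induction l with
    | zero => intro h; simpa using h
    | succ l ih =>
      intro h
      rw [pow_succ', mul_smul] at h
      exact ih (hinj (h.trans (smul_zero x).symm))
  exact this k (hk _ (Ideal.pow_mem_pow hxa k))

end Smul

section Sequence

variable (X : _root_.GrLC.GMod.{u} 𝒜) {x : R} {d : ℤ} (hx : x ∈ 𝒜 d)
  (hinj : Function.Injective fun m : X.carrier => x • m)

/-- The projection onto the graded quotient. -/
noncomputable def qMap : X.carrier →ₗ[R] (quoGMod 𝒜 X.gr (isHomogeneous_smulRange hx)).carrier :=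
  (smulRange x X.carrier).mkQ

theorem exact_smul_qMap : Function.Exact (x • (LinearMap.id : X.carrier →ₗ[R] X.carrier))
    (qMap X hx) :=
  LinearMap.exact_map_mkQ_range _

theorem qMap_surjective : Function.Surjective (qMap X hx) := Submodule.mkQ_surjective _

theorem qMap_isGrHom :
    _root_.GrLC.IsGrHom X.gr (quoGMod 𝒜 X.gr (isHomogeneous_smulRange hx)).gr (qMap X hx) :=
  isGrHom_mkQ _ _

include hinj in
theorem exists_δ_of_smul_eq_zero (i : ℕ) {n : ℤ} {y : LocCoh.H a.toIdeal (i + 1) X.carrier}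
    (hy : y ∈ gr X.gr a (i + 1) n) (h : x • y = 0) :
    ∃ w ∈ gr (quoGMod 𝒜 X.gr (isHomogeneous_smulRange hx)).gr a i (n + d),
      LocCohElt.δ a.toIdeal i (f := x • (LinearMap.id : X.carrier →ₗ[R] X.carrier)) hinj
        (exact_smul_qMap X hx) (qMap_surjective X hx) w = y :=
  exists_δ_eq_of_map_eq_zero a i hinj (exact_smul_qMap X hx) (qMap_surjective X hx)
    (isGrHomDeg_smul hx) (qMap_isGrHom X hx) hy (by rw [LocCohElt.map_smul_id]; exact h)

include hinj in
theorem gr_succ_eq_bot_of_step (hd : 0 ≤ d) (hxa : x ∈ a.toIdeal) (i : ℕ) {r n : ℤ}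
    (hQ : ∀ m, r ≤ m → gr (quoGMod 𝒜 X.gr (isHomogeneous_smulRange hx)).gr a i m = ⊥) (hn : r ≤ n) :
    gr X.gr a (i + 1) n = ⊥ := by
  refine (AddSubgroup.eq_bot_iff_forall _).2 fun y hy => ?_
  obtain ⟨k, hk⟩ := LocCohElt.exists_pow_smul_eq_zero a.toIdeal (i + 1) y
  have hkill : x ^ k • y = 0 := hk _ (Ideal.pow_mem_pow hxa k)
  clear hk
  induction k generalizing n y with
  | zero => simpa using hkill
  | succ k ih =>
    have hxy : x • y = 0 := ih (n := d + n) (by omega) (x • y) (smul_mem_gr' a (i + 1) hx hy)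
      (by rw [← mul_smul, ← pow_succ]; exact hkill)
    obtain ⟨w, hw, rfl⟩ := exists_δ_of_smul_eq_zero a X hx hinj i hy hxy
    rw [(AddSubgroup.eq_bot_iff_forall _).1 (hQ _ (by omega)) w hw, map_zero]

end Sequence

set_option maxRecDepth 20000 in
include hpos hirr in
/-- Graded local cohomology vanishes in high degrees, uniformly in the cohomological degree. -/
theorem exists_gr_eq_bot (X : _root_.GrLC.GMod.{u} 𝒜) (hX : Module.Finite R X.carrier) :
    ∃ r : ℤ, ∀ (i : ℕ) (n : ℤ), r ≤ n → gr X.gr a i n = ⊥ := by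
  refine gradedInduction hpos a hirr (fun X => ∃ r : ℤ, ∀ (i : ℕ) (n : ℤ), r ≤ n → gr X.gr a i n = ⊥)
    ?_ ?_ ?_ X hX
  · intro X hX htor
    haveI := hX
    obtain ⟨N, hN⟩ := exists_degree_bound_of_torsion (ℳ := X.gr) hpos a.toIdeal hirr htor
    refine ⟨N, fun i n hn => ?_⟩
    rcases i with - | i
    · exact gr_zero_eq_bot a fun m hm _ => hN n hn m hm
    · haveI := LocCohElt.subsingleton_of_powerTorsion a.toIdeal i X.carrier fun m => htor m
      exact (AddSubgroup.eq_bot_iff_forall _).2 fun y _ => Subsingleton.elim y 0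
  · rintro X Y Z f g hf hfg hg hfgr hggr ⟨r, hr⟩ ⟨r', hr'⟩
    refine ⟨max r r', fun i n hn => ?_⟩
    have hf0 : _root_.GrLC.IsGrHomDeg X.gr Y.gr f (0 : ℤ) := fun j m hm => by
      rw [add_zero]; exact hfgr j m hm
    exact gr_eq_bot_of_exact a i hf hfg hg hf0 hggr
      (hr i _ (by rw [sub_zero]; exact le_trans (le_max_left _ _) hn))
      (hr' i n (le_trans (le_max_right _ _) hn))
  · rintro X - d x hd hx hxa hinj ⟨r, hr⟩
    refine ⟨r, fun i n hn => ?_⟩
    rcases i with - | i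
    · exact gr_zero_eq_bot_of_nzd a hxa hinj n
    · exact gr_succ_eq_bot_of_step a X hx hinj hd hxa i (hr i) hn

section Class

variable {M : Type u} [AddCommGroup M] [Module R M] {τ : Type u} [SetLike τ M] [AddSubgroupClass τ M]
  {ℳ : ℤ → τ} [DirectSum.Decomposition ℳ] [SetLike.GradedSMul 𝒜 ℳ]
variable {N : Type u} [AddCommGroup N] [Module R N] {τ' : Type u} [SetLike τ' N] [AddSubgroupClass τ' N]
  {𝒩 : ℤ → τ'} [DirectSum.Decomposition 𝒩] [SetLike.GradedSMul 𝒜 𝒩]

/-- An `R`-linear map restricted to pieces. -/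
noncomputable def restrComp {i j : ℕ} (F : LocCoh.H a.toIdeal i M →ₗ[R] LocCoh.H a.toIdeal j N)
    {g g' : ℤ} (hF : ∀ y ∈ gr ℳ a i g, F y ∈ gr 𝒩 a j g') :
    comp a i ℳ g →ₗ[_root_.GrLC.deg0 𝒜] comp a j 𝒩 g' where
  toFun y := ⟨F y.1, hF y.1 y.2⟩
  map_add' y z := Subtype.ext (F.map_add y.1 z.1)
  map_smul' r y := Subtype.ext (F.map_smul (r : R) y.1)

theorem restrComp_apply {i j : ℕ} (F : LocCoh.H a.toIdeal i M →ₗ[R] LocCoh.H a.toIdeal j N)
    {g g' : ℤ} (hF : ∀ y ∈ gr ℳ a i g, F y ∈ gr 𝒩 a j g') (y : comp a i ℳ g) :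
    (restrComp a F hF y).1 = F y.1 := rfl

end Class

/-- A class of `R₀`-modules containing the pieces of local cohomology. -/
structure PieceClass (Q : ∀ (H : Type u) [AddCommGroup H] [Module (_root_.GrLC.deg0 𝒜) H], Prop) :
    Prop where
  zero : ∀ (H : Type u) [AddCommGroup H] [Module (_root_.GrLC.deg0 𝒜) H], Subsingleton H → Q H
  sub : ∀ (H H' : Type u) [AddCommGroup H] [Module (_root_.GrLC.deg0 𝒜) H] [AddCommGroup H']
    [Module (_root_.GrLC.deg0 𝒜) H'] (f : H →ₗ[_root_.GrLC.deg0 𝒜] H'),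
    Function.Injective f → Q H' → Q H
  quot : ∀ (H H' : Type u) [AddCommGroup H] [Module (_root_.GrLC.deg0 𝒜) H] [AddCommGroup H']
    [Module (_root_.GrLC.deg0 𝒜) H'] (f : H →ₗ[_root_.GrLC.deg0 𝒜] H'),
    Function.Surjective f → Q H → Q H'
  ext : ∀ (H : Type u) [AddCommGroup H] [Module (_root_.GrLC.deg0 𝒜) H]
    (K : Submodule (_root_.GrLC.deg0 𝒜) H), Q K → Q (H ⧸ K) → Q H
  torsion : ∀ X : _root_.GrLC.GMod.{u} 𝒜, Module.Finite R X.carrier →
    (∀ m : X.carrier, m ∈ _root_.GrLC.gam a.toIdeal X.carrier) →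
      ∀ n : ℤ, Q (_root_.GrLC.comp 𝒜 X.gr n)
  crit : ∀ x : _root_.GrLC.deg0 𝒜, (x : R) ∈ a.toIdeal →
    ∀ (H : Type u) [AddCommGroup H] [Module (_root_.GrLC.deg0 𝒜) H],
      (∀ h : H, ∃ k : ℕ, x ^ k • h = 0) →
      Q (LinearMap.ker (x • (LinearMap.id : H →ₗ[_root_.GrLC.deg0 𝒜] H))) → Q H

variable {Q : ∀ (H : Type u) [AddCommGroup H] [Module (_root_.GrLC.deg0 𝒜) H], Prop}

theorem PieceClass.of_ker_range (hQ : PieceClass a Q) {H H' : Type u} [AddCommGroup H]
    [Module (_root_.GrLC.deg0 𝒜) H] [AddCommGroup H'] [Module (_root_.GrLC.deg0 𝒜) H']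
    (g : H →ₗ[_root_.GrLC.deg0 𝒜] H') (hker : Q (LinearMap.ker g)) (h' : Q H') : Q H :=
  hQ.ext H (LinearMap.ker g) hker
    (hQ.sub _ H' ((LinearMap.ker g).liftQ g le_rfl)
      (LinearMap.ker_eq_bot.1 (Submodule.ker_liftQ_eq_bot _ _ _ le_rfl)) h')

theorem PieceClass.of_exact (hQ : PieceClass a Q) {H₁ H H' : Type u} [AddCommGroup H₁]
    [Module (_root_.GrLC.deg0 𝒜) H₁] [AddCommGroup H] [Module (_root_.GrLC.deg0 𝒜) H]
    [AddCommGroup H'] [Module (_root_.GrLC.deg0 𝒜) H'] (f : H₁ →ₗ[_root_.GrLC.deg0 𝒜] H)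
    (g : H →ₗ[_root_.GrLC.deg0 𝒜] H') (hle : LinearMap.ker g ≤ LinearMap.range f) (h₁ : Q H₁)
    (h' : Q H') : Q H :=
  hQ.of_ker_range a g
    (hQ.sub _ (LinearMap.range f) (Submodule.inclusion hle) (Submodule.inclusion_injective hle)
      (hQ.quot _ _ f.rangeRestrict f.surjective_rangeRestrict h₁)) h'

set_option maxRecDepth 20000 in
include hpos hirr in
/-- The pieces of graded local cohomology lie in every piece class. -/
theorem comp_of_class (hQ : PieceClass a Q) (X : _root_.GrLC.GMod.{u} 𝒜)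
    (hX : Module.Finite R X.carrier) :
    ∀ (i : ℕ) (n : ℤ), Q (comp a i X.gr n) := by
  refine gradedInduction hpos a hirr (fun X => ∀ (i : ℕ) (n : ℤ), Q (comp a i X.gr n)) ?_ ?_ ?_ X hX
  · intro X hX htor i n
    rcases i with - | i
    · exact hQ.sub _ _ (zeroToComp a X.gr n) (zeroToComp_injective a n) (hQ.torsion X hX htor n)
    · haveI := LocCohElt.subsingleton_of_powerTorsion a.toIdeal i X.carrier fun m => htor m
      exact hQ.zero _ ⟨fun y z => Subtype.ext (Subsingleton.elim y.1 z.1)⟩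
  · intro X Y Z f g hf hfg hg hfgr hggr hXq hZq i n
    let F := restrComp a (LocCohElt.map a.toIdeal i f) (ℳ := X.gr) (𝒩 := Y.gr) (g := n) (g' := n)
      fun y hy => map_mem_gr a i hfgr hy
    let G := restrComp a (LocCohElt.map a.toIdeal i g) (ℳ := Y.gr) (𝒩 := Z.gr) (g := n) (g' := n)
      fun y hy => map_mem_gr a i hggr hy
    refine hQ.of_exact a F G (fun y hy => ?_) (hXq i n) (hZq i n)
    have hf0 : _root_.GrLC.IsGrHomDeg X.gr Y.gr f (0 : ℤ) := fun j m hm => by
      rw [add_zero]; exact hfgr j m hm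
    obtain ⟨w, hw, hwy⟩ := exists_map_eq_of_map_eq_zero a i hf hfg hg hf0 y.2
      (congrArg Subtype.val (LinearMap.mem_ker.1 hy))
    rw [sub_zero] at hw
    exact ⟨⟨w, hw⟩, Subtype.ext hwy⟩
  · intro X hX d x hd hx hxa hinj hQuot i n
    rcases i with - | i
    · refine hQ.zero _ ⟨fun y z => Subtype.ext ?_⟩
      rw [(AddSubgroup.eq_bot_iff_forall _).1 (gr_zero_eq_bot_of_nzd a hxa hinj n) y.1 y.2,
        (AddSubgroup.eq_bot_iff_forall _).1 (gr_zero_eq_bot_of_nzd a hxa hinj n) z.1 z.2]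
    let D := fun m : ℤ => restrComp a
      (LocCohElt.δ a.toIdeal i (f := x • (LinearMap.id : X.carrier →ₗ[R] X.carrier)) hinj
        (exact_smul_qMap X hx) (qMap_surjective X hx))
      (ℳ := (quoGMod 𝒜 X.gr (isHomogeneous_smulRange hx)).gr) (𝒩 := X.gr) (g := m + d) (g' := m)
      fun y hy => by
        have h := δ_mem_gr_deg (ℳ := X.gr) a i hinj (exact_smul_qMap X hx) (qMap_surjective X hx)
          (isGrHomDeg_smul hx) (qMap_isGrHom X hx) hy
        rwa [add_sub_cancel_right] at h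
    rcases hd.lt_or_eq with hd | hd
    · obtain ⟨r, hr⟩ := exists_gr_eq_bot hpos a hirr X hX
      have key : ∀ (t : ℕ) (m : ℤ), (r - m).toNat = t → Q (comp a (i + 1) X.gr m) := by
        intro t
        induction t using Nat.strong_induction_on with
        | _ t ih =>
          intro m hm
          by_cases hrm : r ≤ m
          · exact hQ.zero _ ⟨fun y z => Subtype.ext (by
              rw [(AddSubgroup.eq_bot_iff_forall _).1 (hr _ m hrm) y.1 y.2,
                (AddSubgroup.eq_bot_iff_forall _).1 (hr _ m hrm) z.1 z.2])⟩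
          · let μ := restrComp a (x • (LinearMap.id : LocCoh.H a.toIdeal (i + 1) X.carrier →ₗ[R] _))
              (ℳ := X.gr) (𝒩 := X.gr) (g := m) (g' := d + m)
              fun y hy => smul_mem_gr' a (i + 1) hx hy
            refine hQ.of_exact a (D m) μ (fun y hy => ?_) (hQuot i _)
              (ih _ (by omega) (d + m) rfl)
            obtain ⟨w, hw, hwy⟩ := exists_δ_of_smul_eq_zero a X hx hinj i y.2
              (congrArg Subtype.val (LinearMap.mem_ker.1 hy))
            exact ⟨⟨w, hw⟩, Subtype.ext hwy⟩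
      exact key _ n rfl
    · subst hd
      refine hQ.crit ⟨x, hx⟩ hxa _ (fun y => ?_) ?_
      · obtain ⟨k, hk⟩ := LocCohElt.exists_pow_smul_eq_zero a.toIdeal (i + 1) y.1
        exact ⟨k, Subtype.ext (hk _ (Ideal.pow_mem_pow hxa k))⟩
      · refine hQ.sub _ (LinearMap.range (D n)) (Submodule.inclusion ?_)
          (Submodule.inclusion_injective _) (hQ.quot _ _ (D n).rangeRestrict
            (D n).surjective_rangeRestrict (hQuot i _))
        intro y hy
        obtain ⟨w, hw, hwy⟩ := exists_δ_of_smul_eq_zero a X hx hinj i y.2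
          (congrArg Subtype.val (LinearMap.mem_ker.1 hy))
        exact ⟨⟨w, hw⟩, Subtype.ext hwy⟩

end Groth.Agent.GrLC.LC
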