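import Groth.Agent.GrLC.Prime
import Mathlib.RingTheory.GradedAlgebra.Radical
import Mathlib.LinearAlgebra.FreeModule.StrongRankCondition
import Mathlib.LinearAlgebra.Dimension.Free
import Mathlib.Algebra.Order.Group.PiLex

/-!
# Summands of *injective modules generated by envelopes of `R ⧸ q`
-/

set_option autoImplicit false
set_option linter.unusedSectionVars false
universe u

open DirectSum

namespace Groth.Agent.GrLC

variable {ι : Type} [AddCommGroup ι] [DecidableEq ι]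
variable {R : Type u} [CommRing R]
variable {σ : Type u} [SetLike σ R] [AddSubgroupClass σ R] {𝒜 : ι → σ} [GradedRing 𝒜]

theorem exists_order (G : Type) [AddCommGroup G] [d : DecidableEq G] [Module.Free ℤ G]
    [Module.Finite ℤ G] :
    ∃ o : LinearOrder G, (letI := o; IsOrderedCancelAddMonoid G) ∧ o.toDecidableEq = d := by
  let b := Module.finBasis ℤ G
  let f : G → Lex (Fin (Module.finrank ℤ G) → ℤ) := fun g => toLex (b.equivFun g)
  have hf : Function.Injective f := fun x y h => b.equivFun.injective (toLex.injective h)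
  refine ⟨LinearOrder.lift' f hf, ?_, Subsingleton.elim _ _⟩
  letI := LinearOrder.lift' f hf
  have hadd : ∀ x y, f (x + y) = f x + f y := fun x y => by simp only [f, map_add, toLex_add]
  haveI : IsOrderedAddMonoid G :=
    { add_le_add_left := fun x y h z => by
        change f (x + z) ≤ f (y + z)
        rw [hadd, hadd]
        exact add_le_add_left (show f x ≤ f y from h) (f z) }
  infer_instance

/-- A homogeneous ideal which is prime on homogeneous elements is prime. -/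
theorem isPrime_of_homogeneous [Module.Free ℤ ι] [Module.Finite ℤ ι] {I : Ideal R}
    (hI : I.IsHomogeneous 𝒜) (htop : I ≠ ⊤)
    (h : ∀ (i j : ι) (x y : R), x ∈ 𝒜 i → y ∈ 𝒜 j → x * y ∈ I → x ∈ I ∨ y ∈ I) : I.IsPrime := by
  obtain ⟨o, ho, hd⟩ := exists_order ι
  subst hd
  letI := o
  haveI := ho
  exact hI.isPrime_of_homogeneous_mem_or_mem htop fun ⟨i, hi⟩ ⟨j, hj⟩ hm => h i j _ _ hi hj hm

variable {M : Type u} [AddCommGroup M] [Module R M] {τ : Type u} [SetLike τ M] [AddSubgroupClass τ M]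
  {ℳ : ι → τ} [DirectSum.Decomposition ℳ] [SetLike.GradedSMul 𝒜 ℳ]

/-- A nonzero graded module over a Noetherian ring has a homogeneous element with prime annihilator. -/
theorem exists_prime_annihilator [Module.Free ℤ ι] [Module.Finite ℤ ι] [IsNoetherianRing R]
    {P : Submodule R M} (hP : P.IsHomogeneous ℳ) (hne : P ≠ ⊥) :
    ∃ (g : ι) (m : M) (q : HomogeneousIdeal 𝒜), m ∈ ℳ g ∧ m ∈ P ∧
      (R ∙ m).annihilator = q.toIdeal ∧ q.toIdeal.IsPrime := by
  obtain ⟨g₀, x₀, hx₀, hx₀P, hx₀0⟩ := exists_hom_mem_ne_zero ℳ hP hne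
  let S : Set (Ideal R) := {I | ∃ (g : ι) (m : M), m ∈ ℳ g ∧ m ∈ P ∧ m ≠ 0 ∧ I = (R ∙ m).annihilator}
  obtain ⟨I, ⟨g, m, hm, hmP, hm0, rfl⟩, hmax⟩ :=
    set_has_maximal_iff_noetherian.2 ‹IsNoetherianRing R› S ⟨_, g₀, x₀, hx₀, hx₀P, hx₀0, rfl⟩
  refine ⟨g, m, ⟨_, isHomogeneous_annihilator hm⟩, hm, hmP, rfl, ?_⟩
  refine isPrime_of_homogeneous (𝒜 := 𝒜) (isHomogeneous_annihilator hm) ?_ fun i j r s hr hs hrs => ?_
  · rw [Ne, Ideal.eq_top_iff_one, Submodule.mem_annihilator_span_singleton, one_smul]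
    exact hm0
  · rw [or_iff_not_imp_left]
    intro hr'
    rw [Submodule.mem_annihilator_span_singleton] at hrs hr' ⊢
    have hle : (R ∙ m).annihilator ≤ (R ∙ (r • m)).annihilator := fun t ht => by
      rw [Submodule.mem_annihilator_span_singleton] at ht ⊢
      rw [smul_comm, ht, smul_zero]
    have hnot := hmax _ ⟨i + g, r • m, smul_mem_gr (ℳ := ℳ) hr hm, P.smul_mem r hmP, hr', rfl⟩
    have heq := (lt_or_eq_of_le hle).resolve_left hnot
    rw [← Submodule.mem_annihilator_span_singleton, heq, Submodule.mem_annihilator_span_singleton,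
      ← mul_smul, mul_comm]
    exact hrs

variable (𝒜) in
theorem isInternal_quotShift (q : HomogeneousIdeal 𝒜) (g₀ : ι) :
    DirectSum.IsInternal (fun j => _root_.GrLC.quotGr 𝒜 q (j - g₀)) := by
  letI := quotDec 𝒜 q
  have h := isInternal_shiftGr (_root_.GrLC.quotGr 𝒜 q) (-g₀)
  have e : (fun j => AddSubgroup.ofClass (_root_.GrLC.quotGr 𝒜 q (j + -g₀))) =
      fun j => _root_.GrLC.quotGr 𝒜 q (j - g₀) := by
    funext j
    rw [← sub_eq_add_neg]
    rfl
  rwa [e] at h

theorem quotShift_gradedSMul (q : HomogeneousIdeal 𝒜) (g₀ : ι) :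
    SetLike.GradedSMul 𝒜 (fun j => _root_.GrLC.quotGr 𝒜 q (j - g₀)) :=
  ⟨fun i j r m hr hm => by
    change r • m ∈ _root_.GrLC.quotGr 𝒜 q (i + j - g₀)
    rw [add_sub_assoc]
    exact (quotGradedSMul q).smul_mem hr hm⟩

/-- A homogeneous element with annihilator `q` gives a summand which is an envelope of `(R ⧸ q)(-g₀)`. -/
theorem exists_summand (hM : _root_.GrLC.IsStarInj 𝒜 ℳ) {q : HomogeneousIdeal 𝒜} {g₀ : ι} {m : M}
    (hm : m ∈ ℳ g₀) (hann : (R ∙ m).annihilator = q.toIdeal) :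
    ∃ (P : Submodule R M) (hP : P.IsHomogeneous ℳ) (f : (R ⧸ q.toIdeal) →ₗ[R] P) (Q : Submodule R M),
      (letI := subDec ℳ hP
       letI := subGr_gradedSMul (𝒜 := 𝒜) ℳ P
       _root_.GrLC.IsStarInjHull 𝒜 (fun j => _root_.GrLC.quotGr 𝒜 q (j - g₀)) (subGr ℳ P) f) ∧
      (f 1 : M) = m ∧ Q.IsHomogeneous ℳ ∧ IsCompl P Q := by
  letI := (isInternal_quotShift 𝒜 q g₀).chooseDecomposition
  letI := quotShift_gradedSMul q g₀
  let f₀ : (R ⧸ q.toIdeal) →ₗ[R] M :=
    Submodule.liftQ q.toIdeal (LinearMap.toSpanSingleton R M m) (fun r hr => by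
      rw [LinearMap.mem_ker, LinearMap.toSpanSingleton_apply]
      rw [← hann, Submodule.mem_annihilator_span_singleton] at hr
      exact hr)
  have hf₀ : ∀ r : R, f₀ (Ideal.Quotient.mk q.toIdeal r) = r • m := fun r => rfl
  have hgr : _root_.GrLC.IsGrHom (fun j => _root_.GrLC.quotGr 𝒜 q (j - g₀)) ℳ f₀ := by
    rintro j _ ⟨r, hr, rfl⟩
    change f₀ (Ideal.Quotient.mk q.toIdeal r) ∈ ℳ j
    rw [hf₀]
    have := smul_mem_gr (ℳ := ℳ) (show r ∈ 𝒜 (j - g₀) from hr) hm
    rwa [sub_add_cancel] at this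
  have hinj : Function.Injective f₀ := by
    rw [← LinearMap.ker_eq_bot, eq_bot_iff]
    intro x hx
    obtain ⟨r, rfl⟩ := Ideal.Quotient.mk_surjective x
    rw [LinearMap.mem_ker, hf₀, ← Submodule.mem_annihilator_span_singleton, hann] at hx
    exact (Submodule.mem_bot R).2 (Ideal.Quotient.eq_zero_iff_mem.2 hx)
  obtain ⟨P, hP, hmem, hull⟩ :=
    exists_hull_in 𝒜 (fun j => _root_.GrLC.quotGr 𝒜 q (j - g₀)) hM hgr hinj
  letI := subDec ℳ hP
  letI := subGr_gradedSMul (𝒜 := 𝒜) ℳ P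
  obtain ⟨p, hp, hpi⟩ :=
    exists_retraction hull.starInj (isGrHom_subtype ℳ P) P.injective_subtype
  refine ⟨P, hP, _, LinearMap.ker p, hull, ?_, isHomogeneous_ker ℳ hp,
    LinearMap.isCompl_of_proj fun x => LinearMap.congr_fun hpi x⟩
  change f₀ (Ideal.Quotient.mk q.toIdeal 1) = m
  rw [hf₀, one_smul]

end Groth.Agent.GrLC
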