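import Groth.Agent.GrLC.Inj
import Mathlib.RingTheory.Noetherian.Basic

/-!
# *Injective envelopes of `R ⧸ p` for a homogeneous prime `p`
-/

set_option autoImplicit false
set_option linter.unusedSectionVars false
universe u

open DirectSum

namespace Groth.Agent.GrLC

variable {ι : Type} [AddCommGroup ι] [DecidableEq ι]
variable {R : Type u} [CommRing R]
variable {σ : Type u} [SetLike σ R] [AddSubgroupClass σ R] {𝒜 : ι → σ} [GradedRing 𝒜]

theorem isHomogeneous_toIdeal (p : HomogeneousIdeal 𝒜) :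
    Submodule.IsHomogeneous p.toIdeal 𝒜 := p.isHomogeneous

theorem quotGr_eq (p : HomogeneousIdeal 𝒜) : _root_.GrLC.quotGr 𝒜 p = quoGr 𝒜 p.toIdeal := rfl

variable (𝒜) in
/-- The decomposition of `R ⧸ p`. -/
@[instance_reducible]
noncomputable def quotDec (p : HomogeneousIdeal 𝒜) :
    DirectSum.Decomposition (_root_.GrLC.quotGr 𝒜 p) :=
  (isInternal_quoGr 𝒜 (isHomogeneous_toIdeal p)).chooseDecomposition

theorem quotGradedSMul (p : HomogeneousIdeal 𝒜) :
    SetLike.GradedSMul 𝒜 (_root_.GrLC.quotGr 𝒜 p) :=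
  ⟨fun _ _ r _ hr hx => by
    obtain ⟨m, hm, rfl⟩ := hx
    exact ⟨r * m, SetLike.mul_mem_graded hr hm, map_mul (Ideal.Quotient.mk p.toIdeal) r m⟩⟩

theorem mk_mem_quotGr {p : HomogeneousIdeal 𝒜} {g : ι} {r : R} (hr : r ∈ 𝒜 g) :
    Ideal.Quotient.mk p.toIdeal r ∈ _root_.GrLC.quotGr 𝒜 p g := ⟨r, hr, rfl⟩

variable {E : Type u} [AddCommGroup E] [Module R E] {τ : Type u} [SetLike τ E] [AddSubgroupClass τ E]
  {𝓔 : ι → τ} [DirectSum.Decomposition 𝓔] [SetLike.GradedSMul 𝒜 𝓔]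
variable {p : HomogeneousIdeal 𝒜} {G : ι → AddSubgroup (R ⧸ p.toIdeal)}
  {e : (R ⧸ p.toIdeal) →ₗ[R] E}

/-- The annihilator of a homogeneous element, as a submodule, is homogeneous. -/
theorem isHomogeneous_annihilator {g : ι} {x : E} (hx : x ∈ 𝓔 g) :
    Ideal.IsHomogeneous 𝒜 ((R ∙ x).annihilator) := by
  intro i r hr
  rw [Submodule.mem_annihilator_span_singleton] at hr ⊢
  rw [← cpt_apply, ← cpt_smul_right (𝒜 := 𝒜) 𝓔 hx r i, hr, map_zero]

theorem nontrivial_of_isStarEss [p.toIdeal.IsPrime] (he : _root_.GrLC.IsStarEss G 𝓔 e) :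
    Nontrivial E := by
  haveI : Nontrivial (R ⧸ p.toIdeal) := Submodule.Quotient.nontrivial_iff.2 Ideal.IsPrime.ne_top'
  exact he.injective.nontrivial

/-- The endomorphism multiplication by `r`. -/
theorem smul_injective_of_notMem [DirectSum.Decomposition G] [SetLike.GradedSMul 𝒜 G]
    [p.toIdeal.IsPrime] (he : _root_.GrLC.IsStarEss G 𝓔 e) {r : R}
    (hrp : r ∉ p.toIdeal) : Function.Injective fun x : E => r • x := by
  apply isStarEss_injective_of_comp (𝒜 := 𝒜) he (j := r • (LinearMap.id : E →ₗ[R] E))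
  intro a b hab
  obtain ⟨a, rfl⟩ := Ideal.Quotient.mk_surjective a
  obtain ⟨b, rfl⟩ := Ideal.Quotient.mk_surjective b
  simp only [LinearMap.comp_apply, LinearMap.smul_apply, LinearMap.id_apply, ← map_smul] at hab
  have h := he.injective hab
  change Ideal.Quotient.mk p.toIdeal (r * a) = Ideal.Quotient.mk p.toIdeal (r * b) at h
  rw [Ideal.Quotient.eq, ← mul_sub] at h
  exact Ideal.Quotient.eq.2 ((Ideal.IsPrime.mem_or_mem ‹_› h).resolve_left hrp)

/-- Multiplication by a homogeneous element outside `p` is bijective on the envelope. -/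
theorem smul_bijective_of_notMem [DirectSum.Decomposition G] [SetLike.GradedSMul 𝒜 G]
    [p.toIdeal.IsPrime] (he : _root_.GrLC.IsStarInjHull 𝒜 G 𝓔 e) {g : ι} {r : R} (hr : r ∈ 𝒜 g)
    (hrp : r ∉ p.toIdeal) : Function.Bijective fun x : E => r • x := by
  have hinj := smul_injective_of_notMem (𝒜 := 𝒜) he.toIsStarEss hrp
  refine ⟨hinj, fun y => ?_⟩
  obtain ⟨h, -, hh⟩ := he.starInj (toGMod 𝒜 𝓔) (shiftGMod 𝒜 𝓔 g)
    (r • LinearMap.id : E →ₗ[R] E) (fun d x hx => by
      change r • x ∈ 𝓔 (d + g)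
      rw [add_comm]
      exact smul_mem_gr (ℳ := 𝓔) hr hx)
    (fun a b hab => hinj hab) (LinearMap.id : E →ₗ[R] E) (fun _ _ hm => hm)
  refine ⟨h y, ?_⟩
  have := LinearMap.congr_fun hh y
  change h (r • y) = y at this
  exact (map_smul h r y).symm.trans this

/-- A homogeneous element of `p` acts nilpotently on each element of an essential extension of `R ⧸ p`. -/
theorem exists_pow_smul_eq_zero [IsNoetherianRing R]
    (he : _root_.GrLC.IsStarEss G 𝓔 e) {g : ι} {r : R} (hr : r ∈ 𝒜 g) (hrp : r ∈ p.toIdeal)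
    (x : E) : ∃ n : ℕ, r ^ n • x = 0 := by
  induction x using homogeneous_induction 𝓔 with
  | zero => exact ⟨0, smul_zero _⟩
  | add a b ha hb =>
    obtain ⟨m, hm⟩ := ha
    obtain ⟨n, hn⟩ := hb
    exact ⟨m + n, by rw [smul_add, pow_add, mul_smul, mul_smul (r ^ m) (r ^ n) b, hn, smul_comm, hm,
      smul_zero, smul_zero, add_zero]⟩
  | hom d x hx =>
    by_contra hne
    push Not at hne
    obtain ⟨N, hN⟩ := monotone_stabilizes_iff_noetherian.2 ‹_›
      ⟨fun n => (R ∙ (r ^ n • x)).annihilator, monotone_nat_of_le_succ fun n s hs => by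
        rw [Submodule.mem_annihilator_span_singleton] at hs ⊢
        rw [pow_succ', mul_smul, smul_comm, hs, smul_zero]⟩
    have hy : r ^ N • x ∈ 𝓔 (N • g + d) := smul_mem_gr (ℳ := 𝓔) (SetLike.pow_mem_graded N hr) hx
    have hne' : (R ∙ (r ^ N • x)) ≠ ⊥ := by simpa using hne N
    obtain ⟨z, ⟨hz, c, hc⟩, hz0⟩ := Submodule.exists_mem_ne_zero_of_ne_bot
      (he.essential _ (isHomogeneous_span (𝒜 := 𝒜) 𝓔 fun w hw => ⟨_, hw ▸ hy⟩) hne')
    obtain ⟨s, hs⟩ := Submodule.mem_span_singleton.1 hz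
    have h1 : s ∈ (R ∙ (r ^ (N + 1) • x)).annihilator := by
      rw [Submodule.mem_annihilator_span_singleton, pow_succ', mul_smul, smul_comm, hs, ← hc,
        ← map_smul]
      obtain ⟨c, rfl⟩ := Ideal.Quotient.mk_surjective c
      change e (Ideal.Quotient.mk p.toIdeal (r * c)) = 0
      rw [Ideal.Quotient.eq_zero_iff_mem.2 (Ideal.mul_mem_right _ _ hrp), map_zero]
    have h2 : s ∈ (R ∙ (r ^ N • x)).annihilator := by
      have := hN (N + 1) (Nat.le_succ N)
      simp only [OrderHom.coe_mk] at this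
      rw [this]; exact h1
    rw [Submodule.mem_annihilator_span_singleton, hs] at h2
    exact hz0 h2

theorem eq_of_equiv [IsNoetherianRing R] [DirectSum.Decomposition G] [SetLike.GradedSMul 𝒜 G]
    [p.toIdeal.IsPrime] (he : _root_.GrLC.IsStarInjHull 𝒜 G 𝓔 e)
    {q : HomogeneousIdeal 𝒜} [q.toIdeal.IsPrime] {H : ι → AddSubgroup (R ⧸ q.toIdeal)}
    [DirectSum.Decomposition H] [SetLike.GradedSMul 𝒜 H]
    {F : Type u} [AddCommGroup F] [Module R F] {τ' : Type u} [SetLike τ' F] [AddSubgroupClass τ' F]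
    {𝓕 : ι → τ'} [DirectSum.Decomposition 𝓕] [SetLike.GradedSMul 𝒜 𝓕]
    {f : (R ⧸ q.toIdeal) →ₗ[R] F} (hf : _root_.GrLC.IsStarInjHull 𝒜 H 𝓕 f) (φ : E ≃ₗ[R] F) :
    p = q := by
  haveI := nontrivial_of_isStarEss he.toIsStarEss
  haveI := nontrivial_of_isStarEss hf.toIsStarEss
  refine HomogeneousIdeal.ext' fun i r hr => ⟨fun h => ?_, fun h => ?_⟩
  · by_contra hq
    obtain ⟨x, hx⟩ := exists_ne (0 : E)
    obtain ⟨n, hn⟩ := exists_pow_smul_eq_zero he.toIsStarEss hr h x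
    refine hx (φ.injective ((smul_bijective_of_notMem hf (SetLike.pow_mem_graded n hr)
      (fun hh => hq (Ideal.IsPrime.mem_of_pow_mem ‹_› n hh))).1 ?_))
    change r ^ n • φ x = r ^ n • φ 0
    rw [← map_smul, hn, map_zero, smul_zero]
  · by_contra hq
    obtain ⟨x, hx⟩ := exists_ne (0 : F)
    obtain ⟨n, hn⟩ := exists_pow_smul_eq_zero hf.toIsStarEss hr h x
    refine hx (φ.symm.injective ((smul_bijective_of_notMem he (SetLike.pow_mem_graded n hr)
      (fun hh => hq (Ideal.IsPrime.mem_of_pow_mem ‹_› n hh))).1 ?_))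
    change r ^ n • φ.symm x = r ^ n • φ.symm 0
    rw [← map_smul, hn, map_zero, smul_zero]

end Groth.Agent.GrLC
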