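import Groth.Agent.GrLC.Devissage
import Groth.Agent.GrLC.Pieces
import Groth.Agent.GrLC.LocCohTors

/-!
# Local cohomology at `R₊` detects finite length in high degrees
-/

set_option autoImplicit false
set_option linter.unusedSectionVars false
universe u

open DirectSum

namespace Groth.Agent.GrLC

variable {R : Type u} [CommRing R] [IsNoetherianRing R]
variable {σ : Type u} [SetLike σ R] [AddSubgroupClass σ R] {𝒜 : ℤ → σ} [GradedRing 𝒜]
variable (hpos : ∀ n : ℤ, n < 0 → ∀ x ∈ 𝒜 n, x = 0)

/-- Graded Nakayama for multiplication by an element of positive degree. -/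
theorem subsingleton_of_smul_surjective {M : Type u} [AddCommGroup M] [Module R M] [Module.Finite R M]
    {τ : Type u} [SetLike τ M] [AddSubgroupClass τ M] {ℳ : ℤ → τ} [DirectSum.Decomposition ℳ]
    [SetLike.GradedSMul 𝒜 ℳ] (hpos : ∀ n : ℤ, n < 0 → ∀ x ∈ 𝒜 n, x = 0) {x : R} {d : ℤ}
    (hd : 0 < d) (hx : x ∈ 𝒜 d) (hsurj : ∀ m : M, ∃ m', x • m' = m) : Subsingleton M := by
  obtain ⟨s, dg, g, hg, hgs⟩ := exists_free_presentation (R := R) ℳ
  let B : ℤ := -∑ j, |dg j|
  have hlow : ∀ n < B, ∀ m ∈ ℳ n, m = 0 := by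
    intro n hn m hm
    obtain ⟨c, hc, rfl⟩ := exists_homogeneous_coeff (𝒜 := 𝒜) hg hm (by
      rw [← Fintype.range_linearCombination, LinearMap.range_eq_top.2 hgs]; trivial)
    refine Finset.sum_eq_zero fun j _ => ?_
    have hj : -dg j ≤ ∑ j, |dg j| := (neg_le_abs _).trans
      (Finset.single_le_sum (f := fun j => |dg j|) (fun j _ => abs_nonneg _) (Finset.mem_univ j))
    rw [hpos (n - dg j) (by omega) _ (hc j), zero_smul]
  have key : ∀ (t : ℕ) (n : ℤ), (n - B + 1).toNat = t → ∀ m ∈ ℳ n, m = 0 := by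
    intro t
    induction t using Nat.strong_induction_on with
    | _ t ih =>
      intro n hn m hm
      by_cases hnB : n < B
      · exact hlow n hnB m hm
      obtain ⟨m', rfl⟩ := hsurj m
      have hc := cpt_smul_left' (𝒜 := 𝒜) ℳ hx m' n
      rw [cpt_of_mem ℳ hm] at hc
      rw [hc, ih _ (by omega) (n - d) rfl _ (cpt_mem ℳ _ _), smul_zero]
  exact subsingleton_of_forall_eq 0 fun m =>
    eq_zero_of_cpt ℳ fun n => key _ n rfl _ (cpt_mem ℳ n m)

include hpos in
/-- A finite graded module with no local cohomology at `R₊` is zero. -/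
theorem subsingleton_of_forall_subsingleton_H (X : _root_.GrLC.GMod.{u} 𝒜)
    (hX : Module.Finite R X.carrier)
    (h : ∀ i, Subsingleton (LocCoh.H (_root_.GrSyz.irrel 𝒜).toIdeal i X.carrier)) :
    Subsingleton X.carrier := by
  suffices H : ∀ (J : Ideal R) (X : _root_.GrLC.GMod.{u} 𝒜), Module.Finite R X.carrier →
      (∀ r ∈ J, ∀ m : X.carrier, r • m = 0) →
      (∀ i, Subsingleton (LocCoh.H (_root_.GrSyz.irrel 𝒜).toIdeal i X.carrier)) →
      Subsingleton X.carrier from
    H ⊥ X hX (fun r hr m => by rw [show r = 0 from hr, zero_smul]) h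
  clear h hX X
  intro J
  induction J using WellFoundedGT.induction with
  | _ J ihJ =>
  intro X hX hJ h
  haveI := hX
  set I := (_root_.GrSyz.irrel 𝒜).toIdeal with hI
  have hgam : ∀ m : X.carrier, (∀ r ∈ I, r • m = 0) → m = 0 := by
    intro m hm
    let f : (R ⧸ I ^ 1) →ₗ[R] X.carrier :=
      Submodule.liftQ (I ^ 1) (LinearMap.toSpanSingleton R _ m) fun r hr => hm r (by simpa using hr)
    haveI := h 0
    have h0 := Subsingleton.elim (LocCohElt.mk I 0 X.carrier 1
      (CategoryTheory.Abelian.Ext.mk₀ (ModuleCat.ofHom f))) 0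
    obtain ⟨k, hk, hk0⟩ := (LocCohElt.mk_eq_zero I 0 X.carrier _).1 h0
    rw [CategoryTheory.Abelian.Ext.mk₀_comp_mk₀] at hk0
    have h1 := (CategoryTheory.Abelian.Ext.mk₀_bijective _ _).1
      (hk0.trans (CategoryTheory.Abelian.Ext.mk₀_zero _ _).symm)
    have h2 := LinearMap.congr_fun (congrArg ModuleCat.Hom.hom h1) (Submodule.Quotient.mk 1)
    change (1 : R) • m = 0 at h2
    simpa using h2
  obtain ⟨d, hd, x, hx, hinj⟩ := exists_nzd_pos hpos (N := X.carrier) fun m hm => hgam m fun r hr => by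
    change r ∈ Ideal.span {r : R | ∃ n : ℤ, 0 < n ∧ r ∈ 𝒜 n} at hr
    induction hr using Submodule.span_induction with
    | mem z hz => exact hm hz.choose hz.choose_spec.1 z hz.choose_spec.2
    | zero => exact zero_smul R m
    | add y z _ _ hy hz => rw [add_smul, hy, hz, add_zero]
    | smul c y _ hy => rw [smul_eq_mul, mul_smul, hy, smul_zero]
  by_contra hns
  haveI : Nontrivial X.carrier := not_subsingleton_iff_nontrivial.1 hns
  have hxJ : x ∉ J := fun hxJ => by
    obtain ⟨m, hm⟩ := exists_ne (0 : X.carrier)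
    exact hm (hinj (show x • m = x • (0 : X.carrier) by rw [hJ x hxJ, smul_zero]))
  have hex : Function.Exact (x • (LinearMap.id : X.carrier →ₗ[R] X.carrier))
      (smulRange x X.carrier).mkQ := LinearMap.exact_map_mkQ_range _
  haveI : Subsingleton (X.carrier ⧸ smulRange x X.carrier) := by
    refine ihJ (J ⊔ Ideal.span {x}) (lt_of_le_of_ne le_sup_left fun e => hxJ (e ▸
      Submodule.mem_sup_right (Ideal.mem_span_singleton_self x)))
      (quoGMod 𝒜 X.gr (isHomogeneous_smulRange hx))
      (inferInstanceAs (Module.Finite R (X.carrier ⧸ smulRange x X.carrier))) (fun r hr q => ?_)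
      fun i => ?_
    · obtain ⟨m, rfl⟩ := Submodule.mkQ_surjective (smulRange x X.carrier) q
      obtain ⟨s, hs, t, ht, rfl⟩ := Submodule.mem_sup.1 hr
      obtain ⟨c, rfl⟩ := Ideal.mem_span_singleton'.1 ht
      refine ((map_smul (smulRange x X.carrier).mkQ _ m).symm).trans
        ((Submodule.Quotient.mk_eq_zero _).2 ?_)
      rw [add_smul, hJ s hs, zero_add, mul_comm, mul_smul]
      exact ⟨c • m, rfl⟩
    · refine subsingleton_of_forall_eq 0 fun y => ?_
      haveI := h (i + 1)
      haveI := h i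
      obtain ⟨z, rfl⟩ := (LocCohElt.exact_map_δ I i hinj hex (Submodule.mkQ_surjective _) y).1
        (Subsingleton.elim _ _)
      rw [Subsingleton.elim z 0, map_zero]
      rfl
  refine hns (subsingleton_of_smul_surjective (ℳ := X.gr) hpos hd hx fun m => ?_)
  have : m ∈ smulRange x X.carrier :=
    (Submodule.Quotient.mk_eq_zero _).1 (Subsingleton.elim (Submodule.Quotient.mk m) 0)
  exact this

include hpos in
/-- Powers of `R₊` have no components in low degrees. -/
theorem cpt_eq_zero_of_mem_pow {k : ℕ} {r : R} (hr : r ∈ (_root_.GrSyz.irrel 𝒜).toIdeal ^ k)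
    {g : ℤ} (hg : g < k) : cpt 𝒜 g r = 0 := by
  induction k generalizing r g with
  | zero => exact hpos g (by simpa using hg) _ (cpt_mem 𝒜 g r)
  | succ k ih =>
    rw [pow_succ] at hr
    refine Submodule.mul_induction_on hr (fun y hy z hz => ?_) fun y z hy hz => by
      rw [map_add, hy, hz, add_zero]
    rw [← sum_cpt 𝒜 z, Finset.mul_sum, map_sum]
    refine Finset.sum_eq_zero fun e _ => ?_
    rw [mul_comm, GrSyz.cpt_mul_of_mem (cpt_mem 𝒜 e z)]
    rcases lt_trichotomy e 0 with he | he | he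
    · rw [hpos e he _ (cpt_mem 𝒜 e z), zero_mul]
    · subst he; rw [(GrSyz.mem_irrel_iff hpos).1 hz, zero_mul]
    · rw [ih hy (g := g - e) (by push_cast at hg; omega), mul_zero]

end Groth.Agent.GrLC
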