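import Groth.Agent.GrLC.Diagonal
import Groth.Agent.GrLC.Pieces

/-!
# Generation in degrees bounded by the regularity

`mem_span_of_reg`: if `H^i_I(M)_n = 0` whenever `n + i > r` (`I` generated in degree one), then `M`
is generated in degrees `≤ r`.
-/

set_option autoImplicit false
set_option linter.unusedSectionVars false
set_option linter.style.haveILetI false
universe u

open DirectSum

namespace Groth.Agent.GrLC

variable {R : Type u} [CommRing R] [IsNoetherianRing R]
variable {σ : Type u} [SetLike σ R] [AddSubgroupClass σ R] {𝒜 : ℤ → σ} [GradedRing 𝒜]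
variable (a : HomogeneousIdeal 𝒜) {zs : List R} {X : _root_.GrLC.GMod.{u} 𝒜}

theorem KoszulLike.smul_mem_range (K : KoszulLike a zs X) (hspan : a.toIdeal = Ideal.ofList zs)
    (j : ℕ) (y : (K.C (j + 1)).carrier) (hy : K.d j y = 0) {w : R} (hw : w ∈ a.toIdeal) :
    w • y ∈ LinearMap.range (K.d (j + 1)) := by
  rw [hspan] at hw
  induction hw using Submodule.span_induction with
  | mem w hw =>
    obtain ⟨h, -, hs⟩ := K.homotopy w hw
    exact ⟨h (j + 1) y, by rw [← hs j y, hy, map_zero, add_zero]⟩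
  | zero => rw [zero_smul]; exact zero_mem _
  | add u v _ _ hu hv => rw [add_smul]; exact add_mem hu hv
  | smul c u _ hu => rw [smul_eq_mul, mul_smul]; exact Submodule.smul_mem _ c hu

theorem KoszulLike.smul_mem_range_zero (K : KoszulLike a zs X) (hspan : a.toIdeal = Ideal.ofList zs)
    (y : (K.C 0).carrier) {w : R} (hw : w ∈ a.toIdeal) : w • y ∈ LinearMap.range (K.d 0) := by
  rw [hspan] at hw
  induction hw using Submodule.span_induction with
  | mem w hw =>
    obtain ⟨h, h0, -⟩ := K.homotopy w hw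
    exact ⟨h 0 y, h0 y⟩
  | zero => rw [zero_smul]; exact zero_mem _
  | add u v _ _ hu hv => rw [add_smul]; exact add_mem hu hv
  | smul c u _ hu => rw [smul_eq_mul, mul_smul]; exact Submodule.smul_mem _ c hu

theorem KoszulLike.cycles_eq_bot (K : KoszulLike a zs X) (hspan : a.toIdeal = Ideal.ofList zs)
    {q : ℕ} {n : ℤ} (hC : ∀ j, LC.gr (K.C (j + 1 + 1)).gr a (q + 1 + j + 1) n = ⊥) :
    ∀ j, LC.gr (subGMod 𝒜 (K.C (j + 1)).gr
        (isHomogeneous_ker (𝒩 := (K.C j).gr) _ (K.d_grHom j))).gr a (q + 1 + j + 1) n = ⊥ := by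
  suffices H : ∀ (t j : ℕ), zs.length ≤ j + t →
      LC.gr (subGMod 𝒜 (K.C (j + 1)).gr
        (isHomogeneous_ker (𝒩 := (K.C j).gr) _ (K.d_grHom j))).gr a (q + 1 + j + 1) n = ⊥ from
    fun j => H zs.length j (by omega)
  intro t
  induction t with
  | zero =>
    intro j hj
    haveI := K.len (j + 1) (by omega)
    haveI : Subsingleton (subGMod 𝒜 (K.C (j + 1)).gr
        (isHomogeneous_ker (𝒩 := (K.C j).gr) _ (K.d_grHom j))).carrier :=
      inferInstanceAs (Subsingleton (LinearMap.ker (K.d j)))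
    exact gr_zero_eq_bot' a _ _ _
  | succ t ih =>
    intro j hj
    let Z := subGMod 𝒜 (K.C (j + 1)).gr (isHomogeneous_ker (𝒩 := (K.C j).gr) _ (K.d_grHom j))
    let f : (K.C (j + 1 + 1)).carrier →ₗ[R] Z.carrier :=
      (K.d (j + 1)).codRestrict (LinearMap.ker (K.d j)) fun y => K.d_d j y
    have hf : _root_.GrLC.IsGrHom (K.C (j + 1 + 1)).gr Z.gr f :=
      fun g m hm => K.d_grHom (j + 1) g m hm
    have hker : LinearMap.ker f = LinearMap.ker (K.d (j + 1)) := LinearMap.ker_codRestrict _ _ _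
    refine gr_eq_bot_of_torsion_coker a hf (fun b w hw => ?_) (q := q + 1 + j) (hC j) ?_
    · obtain ⟨y, hy⟩ := K.smul_mem_range a hspan j b.1 b.2 hw
      exact ⟨y, Subtype.ext hy⟩
    · have h := ih (j + 1) (by omega)
      have e : q + 1 + j + 1 + 1 = q + 1 + (j + 1) + 1 := by omega
      rw [e]
      exact gr_subGMod_congr a (K.C (j + 1 + 1)) hker _ _ h

set_option maxRecDepth 20000 in
/-- In degrees above the regularity every element comes from the first Koszul term. -/
theorem KoszulLike.mem_range_of_reg (K : KoszulLike a zs X) (hspan : a.toIdeal = Ideal.ofList zs)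
    {r n : ℤ} (hreg : ∀ (i : ℕ) (m : ℤ), r < m + (i : ℤ) → LC.gr X.gr a i m = ⊥) (hn : r < n)
    {y : (K.C 0).carrier} (hy : y ∈ (K.C 0).gr n) : y ∈ LinearMap.range (K.d 0) := by
  have hr := isHomogeneous_range (𝒩 := (K.C 0).gr) _ (K.d_grHom 0)
  let B := subGMod 𝒜 (K.C 0).gr hr
  let Q := quoGMod 𝒜 (K.C 0).gr hr
  let ι : B.carrier →ₗ[R] (K.C 0).carrier := (LinearMap.range (K.d 0)).subtype
  let g : (K.C 0).carrier →ₗ[R] Q.carrier := (LinearMap.range (K.d 0)).mkQ
  have hι : _root_.GrLC.IsGrHom B.gr (K.C 0).gr ι := fun _ _ hm => hm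
  have hg : _root_.GrLC.IsGrHom (K.C 0).gr Q.gr g := isGrHom_mkQ _ _
  have hC : ∀ j, LC.gr (K.C (j + 1 + 1)).gr a (0 + 1 + j + 1) n = ⊥ := fun j =>
    K.van (j + 1 + 1) _ n (hreg _ _ (by push_cast; omega))
  -- `H^1` of the boundaries vanishes in degree `n`
  have hB : LC.gr B.gr a 1 n = ⊥ := by
    let f' : (K.C 1).carrier →ₗ[R] B.carrier := (K.d 0).rangeRestrict
    let i' : (subGMod 𝒜 (K.C 1).gr (isHomogeneous_ker (𝒩 := (K.C 0).gr) _ (K.d_grHom 0))).carrier
        →ₗ[R] (K.C 1).carrier := (LinearMap.ker (K.d 0)).subtype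
    refine (AddSubgroup.eq_bot_iff_forall _).2 fun x hx => ?_
    have hi : _root_.GrLC.IsGrHom
        (subGMod 𝒜 (K.C 1).gr (isHomogeneous_ker (𝒩 := (K.C 0).gr) _ (K.d_grHom 0))).gr
        (K.C 1).gr i' := fun _ _ hm => hm
    have hf' : _root_.GrLC.IsGrHom (K.C 1).gr B.gr f' := fun d m hm => K.d_grHom 0 d m hm
    have hinj : Function.Injective i' := Submodule.injective_subtype _
    have hex : Function.Exact i' f' := by
      intro z
      constructor
      · intro hz; exact ⟨⟨z, congrArg Subtype.val hz⟩, rfl⟩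
      · rintro ⟨z, rfl⟩; exact Subtype.ext z.2
    have hsurj : Function.Surjective f' := (K.d 0).surjective_rangeRestrict
    obtain ⟨z, hz, rfl⟩ := LC.exists_map_eq_of_δ_eq_zero a 1 hinj hex hsurj hf' hx
      ((AddSubgroup.eq_bot_iff_forall _).1 (K.cycles_eq_bot a hspan hC 0) _
        (LC.δ_mem_gr a 1 hinj hex hsurj hi hf' hx))
    rw [(AddSubgroup.eq_bot_iff_forall _).1 (K.van 1 1 n (hreg 1 _ (by push_cast; omega))) z hz,
      map_zero]
  have hC0 : LC.gr (K.C 0).gr a 0 n = ⊥ := K.van 0 0 n (hreg 0 _ (by push_cast; omega))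
  have hQ : LC.gr Q.gr a 0 n = ⊥ := by
    refine (AddSubgroup.eq_bot_iff_forall _).2 fun x hx => ?_
    obtain ⟨z, hz, rfl⟩ := LC.exists_map_eq_of_δ_eq_zero a 0 (f := ι) (g := g)
      (Submodule.injective_subtype _) (LinearMap.exact_subtype_mkQ _) (Submodule.mkQ_surjective _)
      hg hx ((AddSubgroup.eq_bot_iff_forall _).1 hB _
        (LC.δ_mem_gr a 0 (f := ι) (g := g) (Submodule.injective_subtype _)
          (LinearMap.exact_subtype_mkQ _) (Submodule.mkQ_surjective _) hι hg hx))
    rw [(AddSubgroup.eq_bot_iff_forall _).1 hC0 z hz, map_zero]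
  by_contra hne
  refine LC.exists_mem_gr_zero_ne a (m := g y) (hg n y hy) ⟨1, fun w hw => ?_⟩
    (fun h => hne ((Submodule.Quotient.mk_eq_zero _).1 h)) hQ
  rw [pow_one] at hw
  exact ((map_smul g w y).symm).trans
    ((Submodule.Quotient.mk_eq_zero _).2 (K.smul_mem_range_zero a hspan y hw))

/-- The Koszul complex can be chosen with first differential landing in `I • X`. -/
theorem exists_koszulLike_range (zs : List R) (hzs : ∀ z ∈ zs, z ∈ 𝒜 1) (hmem : ∀ z ∈ zs, z ∈ a.toIdeal)
    (X : _root_.GrLC.GMod.{u} 𝒜) :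
    ∃ (K : KoszulLike a zs X) (e : (K.C 0).carrier ≃ₗ[R] X.carrier),
      (∀ g m, m ∈ X.gr g → e.symm m ∈ (K.C 0).gr g) ∧
        ∀ y, e (K.d 0 y) ∈ a.toIdeal • (⊤ : Submodule R X.carrier) := by
  induction zs with
  | nil =>
    refine ⟨{
      C := fun j => match j with | 0 => X | _ + 1 => zeroGMod 𝒜
      d := fun _ => 0
      d_grHom := fun _ _ _ _ => zero_mem _
      d_d := fun _ _ => rfl
      homotopy := fun z hz => absurd hz List.not_mem_nil
      van := fun j i n h => by
        rcases j with - | j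
        · simpa using h
        · haveI : Subsingleton (zeroGMod 𝒜).carrier := inferInstanceAs (Subsingleton PUnit)
          exact gr_zero_eq_bot' a (zeroGMod 𝒜) i n
      back := fun _ _ h => h
      len := fun j hj => by
        rcases j with - | j
        · simp at hj
        · exact inferInstanceAs (Subsingleton PUnit) }, LinearEquiv.refl R X.carrier,
      fun g m hm => hm, fun y => zero_mem _⟩
  | cons z zs ih =>
    obtain ⟨K, e, he, hd⟩ := ih (fun w hw => hzs w (List.mem_cons_of_mem _ hw))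
      (fun w hw => hmem w (List.mem_cons_of_mem _ hw))
    refine ⟨cone a K (hzs z List.mem_cons_self), e, he, ?_⟩
    intro y
    change e (K.d 0 y.1 + z • y.2) ∈ _
    rw [map_add, map_smul]
    exact add_mem (hd y.1) (Submodule.smul_mem_smul (hmem z List.mem_cons_self) trivial)

variable {M : Type u} [AddCommGroup M] [Module R M] {τ : Type u} [SetLike τ M] [AddSubgroupClass τ M]
  {ℳ : ℤ → τ} [DirectSum.Decomposition ℳ] [SetLike.GradedSMul 𝒜 ℳ]

/-- Generation in degrees `≤ r`. -/
theorem mem_span_of_reg (hlin : a.toIdeal = Ideal.span ((𝒜 1 : σ) : Set R))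
    {r : ℤ} (hreg : ∀ (i : ℕ) (m : ℤ), r < m + (i : ℤ) → LC.gr (toGMod 𝒜 ℳ).gr a i m = ⊥)
    (n : ℤ) (m : M) (hm : m ∈ ℳ n) : m ∈ Submodule.span R {x : M | ∃ j, j ≤ r ∧ x ∈ ℳ j} := by
  obtain ⟨t, hts, ht⟩ := (Submodule.fg_span_iff_fg_span_finset_subset (R := R) ((𝒜 1 : σ) : Set R)).1
    (IsNoetherian.noetherian _)
  have hspan : a.toIdeal = Ideal.ofList t.toList := by
    rw [hlin, Ideal.ofList]
    refine Eq.trans ht ?_
    congr 1
    ext x
    simp
  obtain ⟨K, e, he, hd⟩ := exists_koszulLike_range a t.toList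
    (fun z hz => hts (Finset.mem_toList.1 hz))
    (fun z hz => by rw [hspan]; exact Ideal.subset_span hz) (toGMod 𝒜 ℳ)
  generalize hk : (n - r).toNat = k
  induction k generalizing n m with
  | zero => exact Submodule.subset_span ⟨n, by omega, hm⟩
  | succ k ih =>
    obtain ⟨y, hy⟩ := K.mem_range_of_reg a hspan hreg (n := n) (by omega) (he n m hm)
    have hI : m ∈ a.toIdeal • (⊤ : Submodule R M) := by
      have := hd y
      rw [hy] at this
      exact (e.apply_symm_apply m).subst (motive := fun z => z ∈ a.toIdeal • (⊤ : Submodule R M)) this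
    rw [← cpt_of_mem ℳ hm]
    refine Submodule.smul_induction_on hI (fun c hc v _ => ?_) fun u v hu hv => by
      rw [map_add]; exact add_mem hu hv
    rw [hlin] at hc
    induction hc using Submodule.span_induction generalizing v with
    | mem c hc =>
      rw [cpt_smul_left' (𝒜 := 𝒜) ℳ hc]
      exact Submodule.smul_mem _ _ (ih (n - 1) _ (cpt_mem ℳ _ _) (by omega))
    | zero => rw [zero_smul, map_zero]; exact zero_mem _
    | add u w _ _ hu hw => rw [add_smul, map_add]; exact add_mem (hu v trivial) (hw v trivial)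
    | smul d u _ hu => rw [smul_eq_mul, mul_comm, mul_smul]; exact hu (d • v) trivial

end Groth.Agent.GrLC
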