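import Groth.Agent.GrLC.Vanish

/-!
# Linearity of `LocCohElt.map` in the map, and free modules

* `LocCohElt.map_add_hom`, `map_sum_hom`, `map_smul_hom`;
* `LC.gr_eq_bot_iff_of_bijective`, `LC.gr_eq_bot_of_forall_proj`, `LC.gr_free_eq_bot`;
* `freeGMod`, `freeInj`, `freeProj`.
-/

set_option autoImplicit false
set_option linter.unusedSectionVars false
set_option maxRecDepth 20000
universe u

open CategoryTheory CategoryTheory.Abelian DirectSum

namespace Groth.Agent.GrLC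

namespace LocCohElt

variable {R : Type u} [CommRing R] (I : Ideal R) (i : ℕ)
variable {M N P : Type u} [AddCommGroup M] [Module R M] [AddCommGroup N] [Module R N]
  [AddCommGroup P] [Module R P]

theorem map_add_hom (f g : M →ₗ[R] N) (x : LocCoh.H I i M) :
    map I i (f + g) x = map I i f x + map I i g x := by
  obtain ⟨n, e, rfl⟩ := exists_mk I i M x
  rw [map_mk, map_mk, map_mk, ← map_add, ← Ext.comp_add, ← Ext.mk₀_add]
  rfl

theorem map_smul_hom (r : R) (f : M →ₗ[R] N) (x : LocCoh.H I i M) :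
    map I i (r • f) x = r • map I i f x := by
  rw [← map_smul_id, map_comp]
  rfl

theorem map_zero_hom (x : LocCoh.H I i M) : map I i (0 : M →ₗ[R] N) x = 0 := by
  have h := map_smul_hom I i (0 : R) (0 : M →ₗ[R] N) x
  rwa [zero_smul, zero_smul] at h

theorem map_sum_hom {α : Type*} (s : Finset α) (f : α → M →ₗ[R] N) (x : LocCoh.H I i M) :
    map I i (∑ a ∈ s, f a) x = ∑ a ∈ s, map I i (f a) x := by
  classical
  induction s using Finset.induction_on with
  | empty => rw [Finset.sum_empty, Finset.sum_empty, map_zero_hom]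
  | insert a s ha ih => rw [Finset.sum_insert ha, Finset.sum_insert ha, map_add_hom, ih]

end LocCohElt

variable {R : Type u} [CommRing R]
variable {σ : Type u} [SetLike σ R] [AddSubgroupClass σ R] {𝒜 : ℤ → σ} [GradedRing 𝒜]

section Free

variable (𝒜) {n : ℕ} (dg : Fin n → ℤ)

/-- A free graded module with generators in the given degrees. -/
noncomputable def freeGMod : _root_.GrLC.GMod.{u} 𝒜 :=
  { carrier := Fin n → R
    gr := freeGr 𝒜 dg
    dec := (isInternal_freeGr 𝒜 dg).chooseDecomposition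
    gsmul := freeGr_gradedSMul 𝒜 dg }

/-- The inclusion of a summand. -/
noncomputable def freeInj (b : Fin n) : R →ₗ[R] (freeGMod 𝒜 dg).carrier :=
  LinearMap.single R (fun _ : Fin n => R) b

/-- The projection to a summand. -/
noncomputable def freeProj (b : Fin n) : (freeGMod 𝒜 dg).carrier →ₗ[R] R :=
  LinearMap.proj (φ := fun _ : Fin n => R) b

theorem freeInj_isGrHomDeg (b : Fin n) :
    _root_.GrLC.IsGrHomDeg 𝒜 (freeGMod 𝒜 dg).gr (freeInj 𝒜 dg b) (dg b) := fun g m hm => by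
  refine (mem_freeGr (𝒜 := 𝒜) dg).2 fun a => ?_
  change Pi.single (M := fun _ => R) b m a ∈ 𝒜 (g + dg b - dg a)
  rcases eq_or_ne a b with rfl | h
  · rwa [Pi.single_eq_same, add_sub_cancel_right]
  · rw [Pi.single_eq_of_ne h]; exact zero_mem _

theorem freeProj_isGrHomDeg (b : Fin n) :
    _root_.GrLC.IsGrHomDeg (freeGMod 𝒜 dg).gr 𝒜 (freeProj 𝒜 dg b) (-dg b) := fun g m hm => by
  have h := (mem_freeGr (𝒜 := 𝒜) dg).1 hm b
  rw [← sub_eq_add_neg]
  exact h

theorem freeProj_freeInj (b : Fin n) : (freeProj 𝒜 dg b) ∘ₗ (freeInj 𝒜 dg b) = LinearMap.id :=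
  LinearMap.ext fun x => Pi.single_eq_same (M := fun _ => R) b x

theorem freeProj_freeInj_ne {a b : Fin n} (h : a ≠ b) :
    (freeProj 𝒜 dg a) ∘ₗ (freeInj 𝒜 dg b) = 0 :=
  LinearMap.ext fun x => Pi.single_eq_of_ne (M := fun _ => R) h x

theorem sum_freeInj_freeProj :
    ∑ b, (freeInj 𝒜 dg b) ∘ₗ (freeProj 𝒜 dg b) = LinearMap.id := by
  refine LinearMap.ext fun v => ?_
  rw [LinearMap.sum_apply]
  exact Finset.univ_sum_single (M := fun _ : Fin n => R) v

end Free

namespace LC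

variable [IsNoetherianRing R] (a : HomogeneousIdeal 𝒜) (i : ℕ)
variable {M : Type u} [AddCommGroup M] [Module R M] {τ : Type u} [SetLike τ M] [AddSubgroupClass τ M]
  {ℳ : ℤ → τ} [DirectSum.Decomposition ℳ] [SetLike.GradedSMul 𝒜 ℳ]
variable {N : Type u} [AddCommGroup N] [Module R N] {τ' : Type u} [SetLike τ' N] [AddSubgroupClass τ' N]
  {𝒩 : ℤ → τ'} [DirectSum.Decomposition 𝒩] [SetLike.GradedSMul 𝒜 𝒩]

theorem gr_eq_bot_iff_of_bijective {f : M →ₗ[R] N} (hf : Function.Bijective f)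
    (hfgr : _root_.GrLC.IsGrHom ℳ 𝒩 f) (g : ℤ) : gr ℳ a i g = ⊥ ↔ gr 𝒩 a i g = ⊥ := by
  let e := LocCohElt.mapEquiv a.toIdeal i (LinearEquiv.ofBijective f hf)
  have he : ∀ x, e x = LocCohElt.map a.toIdeal i f x := fun x => rfl
  constructor
  · intro h
    refine (AddSubgroup.eq_bot_iff_forall _).2 fun y hy => ?_
    obtain ⟨x, hx, rfl⟩ := exists_preimage a i (LocCohElt.map a.toIdeal i f) 0
      (fun j x hx => by rw [add_zero]; exact map_mem_gr a i hfgr hx) (by rwa [add_zero])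
      ⟨e.symm y, by rw [← he, LinearEquiv.apply_symm_apply]⟩
    rw [(AddSubgroup.eq_bot_iff_forall _).1 h x hx, map_zero]
  · intro h
    refine (AddSubgroup.eq_bot_iff_forall _).2 fun x hx => e.map_eq_zero_iff.1 ?_
    rw [he]
    exact (AddSubgroup.eq_bot_iff_forall _).1 h _ (map_mem_gr a i hfgr hx)

theorem eq_sum_map_free {n : ℕ} (dg : Fin n → ℤ)
    (x : LocCoh.H a.toIdeal i (freeGMod 𝒜 dg).carrier) :
    x = ∑ b, LocCohElt.map a.toIdeal i (freeInj 𝒜 dg b)
      (LocCohElt.map a.toIdeal i (freeProj 𝒜 dg b) x) := by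
  conv_lhs => rw [← LocCohElt.map_id a.toIdeal i x, ← sum_freeInj_freeProj 𝒜 dg,
    LocCohElt.map_sum_hom]
  exact Finset.sum_congr rfl fun b _ => (LocCohElt.map_comp ..).symm

theorem freeProj_mem_gr {n : ℕ} (dg : Fin n → ℤ) (b : Fin n) {g : ℤ}
    {x : LocCoh.H a.toIdeal i (freeGMod 𝒜 dg).carrier} (hx : x ∈ gr (freeGMod 𝒜 dg).gr a i g) :
    LocCohElt.map a.toIdeal i (freeProj 𝒜 dg b) x ∈ gr 𝒜 a i (g - dg b) := by
  rw [sub_eq_add_neg]
  exact map_mem_gr_deg a i (freeProj_isGrHomDeg 𝒜 dg b) hx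

theorem gr_free_eq_bot {n : ℕ} (dg : Fin n → ℤ) {g : ℤ}
    (h : ∀ b, gr 𝒜 a i (g - dg b) = ⊥) : gr (freeGMod 𝒜 dg).gr a i g = ⊥ := by
  refine (AddSubgroup.eq_bot_iff_forall _).2 fun x hx => ?_
  rw [eq_sum_map_free a i dg x]
  refine Finset.sum_eq_zero fun b _ => ?_
  rw [(AddSubgroup.eq_bot_iff_forall _).1 (h b) _ (freeProj_mem_gr a i dg b hx), map_zero]

section Step

variable (X : _root_.GrLC.GMod.{u} 𝒜) {x : R} {d : ℤ} (hx : x ∈ 𝒜 d)
  (hinj : Function.Injective fun m : X.carrier => x • m)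

include hinj in
/-- Injectivity of `x` on `H^{i+1}` in high degrees gives vanishing there. -/
theorem gr_succ_eq_bot_of_quot (hd : 0 ≤ d) (hxa : x ∈ a.toIdeal) {r n : ℤ}
    (hQ : ∀ m, r ≤ m → gr (quoGMod 𝒜 X.gr (isHomogeneous_smulRange hx)).gr a i m = ⊥)
    (hn : r ≤ n + d) : gr X.gr a (i + 1) n = ⊥ := by
  refine (AddSubgroup.eq_bot_iff_forall _).2 fun y hy => ?_
  obtain ⟨k, hk⟩ := LocCohElt.exists_pow_smul_eq_zero a.toIdeal (i + 1) y
  have hkill : x ^ k • y = 0 := hk _ (Ideal.pow_mem_pow hxa k)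
  clear hk
  induction k generalizing n y with
  | zero => simpa using hkill
  | succ k ih =>
    have hxy : x • y = 0 := ih (n := d + n) (by omega) (x • y) (smul_mem_gr' a (i + 1) hx hy)
      (by rw [← mul_smul, ← pow_succ]; exact hkill)
    obtain ⟨w, hw, rfl⟩ := exists_δ_of_smul_eq_zero a X hx hinj i hy hxy
    rw [(AddSubgroup.eq_bot_iff_forall _).1 (hQ _ hn) w hw, map_zero]

include hinj in
/-- A nonzero class on the quotient survives when the middle term has nothing in its degree. -/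
theorem gr_succ_ne_bot_of_quot {n : ℤ}
    (hX : gr X.gr a i (n + d) = ⊥)
    (hQ : gr (quoGMod 𝒜 X.gr (isHomogeneous_smulRange hx)).gr a i (n + d) ≠ ⊥) :
    gr X.gr a (i + 1) n ≠ ⊥ := by
  intro h
  refine hQ ((AddSubgroup.eq_bot_iff_forall _).2 fun w hw => ?_)
  have hδ := δ_mem_gr_deg (f := x • (LinearMap.id : X.carrier →ₗ[R] X.carrier)) a i hinj
    (exact_smul_qMap X hx) (qMap_surjective X hx) (isGrHomDeg_smul hx) (qMap_isGrHom X hx) hw
  rw [add_sub_cancel_right] at hδ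
  obtain ⟨y, hy, rfl⟩ := exists_map_eq_of_δ_eq_zero a i hinj (exact_smul_qMap X hx)
    (qMap_surjective X hx) (qMap_isGrHom X hx) hw ((AddSubgroup.eq_bot_iff_forall _).1 h _ hδ)
  rw [(AddSubgroup.eq_bot_iff_forall _).1 hX y hy, map_zero]

end Step

end LC

end Groth.Agent.GrLC
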