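import Groth.Agent.GrLC.StarCM
import Groth.Agent.GrLC.RadCongr
import Groth.Agent.GrLC.Generation
import Groth.Agent.GrLC.MapLin
import Groth.Agent.GrLC.Acyclicity
import Mathlib.RingTheory.Artinian.Ring

/-!
# Standard graded rings with Artinian degree-zero part

* `starLocal_pow_le_irrel`, `gr_starLocal_iff`;
* `exists_top_ne_bot` (`a(R) ≥ -dim R` for CM rings);
* `gr_top_succ_eq_bot` (vanishing of the top cohomology propagates upwards).
-/

set_option autoImplicit false
set_option linter.unusedSectionVars false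
set_option linter.style.haveILetI false
set_option maxRecDepth 20000
universe u

open DirectSum

namespace Groth.Agent.GrLC

variable {R : Type u} [CommRing R]
variable {σ : Type u} [SetLike σ R] [AddSubgroupClass σ R] {𝒜 : ℤ → σ} [GradedRing 𝒜]
variable [IsNoetherianRing R] (hpos : ∀ n : ℤ, n < 0 → ∀ x ∈ 𝒜 n, x = 0) (m : HomogeneousIdeal 𝒜)
  (hm : _root_.GrLC.IsStarLocal 𝒜 m)

include hpos hm in
theorem irrel_le_starLocal : (_root_.GrSyz.irrel 𝒜).toIdeal ≤ m.toIdeal :=
  Ideal.span_le.2 fun x ⟨n, hn, hx⟩ => (starLocal_spec hpos m hm).1 n hn x hx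

include hpos hm in
theorem starLocal_pow_le_irrel [IsArtinianRing (_root_.GrLC.deg0 𝒜)] :
    ∃ N, m.toIdeal ^ N ≤ (_root_.GrSyz.irrel 𝒜).toIdeal := by
  refine Ideal.exists_pow_le_of_le_radical_of_fg (fun x hx => ?_) (IsNoetherian.noetherian _)
  have h0 : x - cpt 𝒜 0 x ∈ (_root_.GrSyz.irrel 𝒜).toIdeal := by
    refine (GrSyz.mem_irrel_iff hpos).2 ?_
    rw [map_sub, cpt_of_mem 𝒜 (cpt_mem 𝒜 0 x), sub_self]
  have hmem : cpt 𝒜 0 x ∈ m.toIdeal := (isHomogeneous_iff 𝒜).1 m.isHomogeneous x hx 0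
  let y : _root_.GrLC.deg0 𝒜 := ⟨cpt 𝒜 0 x, cpt_mem 𝒜 0 x⟩
  obtain ⟨n, z, hz⟩ := IsArtinian.exists_pow_succ_smul_dvd y (1 : _root_.GrLC.deg0 𝒜)
  have hu : IsUnit (1 - (z : R) * cpt 𝒜 0 x) := by
    by_contra hc
    have hdeg : 1 - (z : R) * cpt 𝒜 0 x ∈ 𝒜 0 :=
      sub_mem (SetLike.one_mem_graded 𝒜) ((z * y).2)
    let J : HomogeneousIdeal 𝒜 := ⟨Ideal.span {1 - (z : R) * cpt 𝒜 0 x},
      Ideal.homogeneous_span 𝒜 _ (fun _ h => h ▸ ⟨0, hdeg⟩)⟩
    have hJ : J.toIdeal ≠ ⊤ := fun h => hc (Ideal.span_singleton_eq_top.1 h)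
    have h1 := m.toIdeal.add_mem (starLocal_le m hm J hJ (Ideal.subset_span rfl))
      (m.toIdeal.mul_mem_left (z : R) hmem)
    rw [sub_add_cancel] at h1
    exact (starLocal_isMaximal hpos m hm).ne_top ((Ideal.eq_top_iff_one _).2 h1)
  have hpow : cpt 𝒜 0 x ^ n = 0 := by
    have h := congrArg Subtype.val hz
    simp only [smul_eq_mul, mul_one, Subring.coe_mul, Subring.coe_pow] at h
    refine hu.mul_right_eq_zero.1 ?_
    change _ * (y : R) ^ n = 0
    rw [sub_mul, one_mul, sub_eq_zero]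
    calc (y : R) ^ n = (y : R) ^ n.succ * z := h.symm
      _ = z * (y : R) * (y : R) ^ n := by rw [Nat.succ_eq_add_one, pow_succ]; ring
  have hr : cpt 𝒜 0 x ∈ (_root_.GrSyz.irrel 𝒜).toIdeal.radical := ⟨n, by rw [hpow]; exact zero_mem _⟩
  have := Ideal.add_mem _ (Ideal.le_radical h0) hr
  rwa [sub_add_cancel] at this

include hpos hm in
theorem gr_starLocal_iff [IsArtinianRing (_root_.GrLC.deg0 𝒜)]
    {M : Type u} [AddCommGroup M] [Module R M] {τ : Type u} [SetLike τ M] [AddSubgroupClass τ M]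
    {ℳ : ℤ → τ} [DirectSum.Decomposition ℳ] [SetLike.GradedSMul 𝒜 ℳ] (i : ℕ) (n : ℤ) :
    LC.gr ℳ m i n = ⊥ ↔ LC.gr ℳ (_root_.GrSyz.irrel 𝒜) i n = ⊥ := by
  obtain ⟨N, hN⟩ := starLocal_pow_le_irrel hpos m hm
  exact LC.gr_eq_bot_congr_ideal (fun X _ _ => gam_eq_of_pow_le hN
    (by rw [pow_one]; exact irrel_le_starLocal hpos m hm) X) i n

theorem irrel_eq_span_one (hstd : Ideal.span (⋃ n ∈ Set.Ioi (0 : ℤ), (𝒜 n : Set R)) =
    Ideal.span ((𝒜 1 : σ) : Set R)) :
    (_root_.GrSyz.irrel 𝒜).toIdeal = Ideal.span ((𝒜 1 : σ) : Set R) := by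
  rw [← hstd]
  refine congrArg Ideal.span (Set.ext fun r => ?_)
  exact ⟨fun ⟨n, hn, hr⟩ => Set.mem_iUnion₂.2 ⟨n, hn, hr⟩,
    fun h => (Set.mem_iUnion₂.1 h).elim fun n hn => hn.elim fun hn hr => ⟨n, hn, hr⟩⟩

include hpos hm in
/-- `a(R) ≥ -dim R`. -/
theorem exists_top_ne_bot [IsArtinianRing (_root_.GrLC.deg0 𝒜)] [LocCoh.IsCohenMacaulayRing R]
    (hlin : (_root_.GrSyz.irrel 𝒜).toIdeal = Ideal.span ((𝒜 1 : σ) : Set R)) {d : ℕ}
    (hd : ringKrullDim R = d) : ∃ n : ℤ, -(d : ℤ) ≤ n ∧ LC.gr 𝒜 m d n ≠ ⊥ := by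
  by_contra hc
  push Not at hc
  haveI : Nontrivial R := by
    by_contra hs
    rw [not_nontrivial_iff_subsingleton] at hs
    haveI := hs
    simp [ringKrullDim_eq_bot_of_subsingleton] at hd
  let T := toGMod 𝒜 𝒜
  let f : R →ₗ[R] T.carrier := LinearMap.id
  have hf : _root_.GrLC.IsGrHom 𝒜 T.gr f := fun _ _ h => h
  have hreg : ∀ (i : ℕ) (n : ℤ), (-1 : ℤ) < n + (i : ℤ) →
      LC.gr T.gr (_root_.GrSyz.irrel 𝒜) i n = ⊥ := by
    intro i n hn
    refine (LC.gr_eq_bot_iff_of_bijective (f := f) _ i Function.bijective_id hf n).1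
      ((gr_starLocal_iff hpos m hm i n).1 ?_)
    by_cases hi : i = d
    · subst hi; exact hc n (by omega)
    · haveI := subsingleton_H_of_ne_dim hpos m hm hd hi
      exact (AddSubgroup.eq_bot_iff_forall _).2 fun y _ => Subsingleton.elim y 0
  have h1 := mem_span_of_reg (ℳ := 𝒜) (_root_.GrSyz.irrel 𝒜) hlin hreg 0 1 (SetLike.one_mem_graded 𝒜)
  have hbot : Submodule.span R {x : R | ∃ j, j ≤ (-1 : ℤ) ∧ x ∈ 𝒜 j} = ⊥ := by
    refine Submodule.span_eq_bot.2 ?_
    rintro x ⟨j, hj, hx⟩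
    exact hpos j (by omega) x hx
  rw [hbot, Submodule.mem_bot] at h1
  exact one_ne_zero h1

include hpos hm in
/-- The top local cohomology is generated from below by `R_1`. -/
theorem gr_top_succ_eq_bot [IsArtinianRing (_root_.GrLC.deg0 𝒜)]
    (hlin : (_root_.GrSyz.irrel 𝒜).toIdeal = Ideal.span ((𝒜 1 : σ) : Set R)) {d : ℕ}
    (hd : ringKrullDim R = d) (hd1 : 1 ≤ d) {n : ℤ} (h : LC.gr 𝒜 m d n = ⊥) :
    LC.gr 𝒜 m d (n + 1) = ⊥ := by
  rw [gr_starLocal_iff hpos m hm] at h ⊢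
  set a := _root_.GrSyz.irrel 𝒜
  obtain ⟨s, hs1, hs⟩ := (Submodule.fg_span_iff_fg_span_finset_subset (R := R) ((𝒜 1 : σ) : Set R)).1
    (IsNoetherian.noetherian _)
  have hs' : Ideal.span ((𝒜 1 : σ) : Set R) = Submodule.span R (s : Set R) := hs
  let w : Fin s.card → R := fun b => (s.equivFin.symm b : R)
  let F := freeGMod 𝒜 fun _ : Fin s.card => (1 : ℤ)
  let g : F.carrier →ₗ[R] R := Fintype.linearCombination R w
  have hw : ∀ b, w b ∈ 𝒜 1 := fun b => hs1 (s.equivFin.symm b).2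
  have hg : _root_.GrLC.IsGrHom F.gr 𝒜 g := linearCombination_isGrHom (𝒜 := 𝒜) _ hw
  have hrange : LinearMap.range g = a.toIdeal := by
    rw [hlin, hs']
    refine (Fintype.range_linearCombination R w).trans (congrArg (Submodule.span R) ?_)
    ext x
    constructor
    · rintro ⟨b, rfl⟩; exact (s.equivFin.symm b).2
    · intro hx
      exact ⟨s.equivFin ⟨x, hx⟩, congrArg Subtype.val (s.equivFin.symm_apply_apply ⟨x, hx⟩)⟩
  have hr := isHomogeneous_range (𝒩 := 𝒜) F.gr hg
  let B := subGMod 𝒜 𝒜 hr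
  let Q := quoGMod 𝒜 𝒜 hr
  let g' : F.carrier →ₗ[R] B.carrier := g.rangeRestrict
  let Z := subGMod 𝒜 F.gr (isHomogeneous_ker (𝒩 := 𝒜) F.gr hg)
  let i' : Z.carrier →ₗ[R] F.carrier := (LinearMap.ker g).subtype
  let j' : B.carrier →ₗ[R] R := (LinearMap.range g).subtype
  let q' : R →ₗ[R] Q.carrier := (LinearMap.range g).mkQ
  have hi : _root_.GrLC.IsGrHom Z.gr F.gr i' := fun _ _ hx => hx
  have hg' : _root_.GrLC.IsGrHom F.gr B.gr g' := fun e x hx => hg e x hx
  have hj : _root_.GrLC.IsGrHom B.gr 𝒜 j' := fun _ _ hx => hx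
  have hj0 : _root_.GrLC.IsGrHomDeg B.gr 𝒜 j' 0 := fun e x hx => by rw [add_zero]; exact hj e x hx
  have hq : _root_.GrLC.IsGrHom 𝒜 Q.gr q' := isGrHom_mkQ _ _
  haveI : Module.Finite R F.carrier := inferInstanceAs (Module.Finite R (Fin s.card → R))
  haveI : Module.Finite R Z.carrier := inferInstanceAs (Module.Finite R (LinearMap.ker g))
  haveI : Subsingleton (LocCoh.H a.toIdeal (d + 1) Z.carrier) :=
    LocCoh.cdLE_of_ringKrullDim_le a.toIdeal d hd.le Z.carrier (d + 1) (Nat.lt_succ_self d)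
  have hF : LC.gr F.gr a d (n + 1) = ⊥ :=
    LC.gr_free_eq_bot a d _ fun b => by rwa [add_sub_cancel_right]
  have hinj : Function.Injective i' := Submodule.injective_subtype _
  have hex : Function.Exact i' g' := by
    intro z
    constructor
    · intro hz; exact ⟨⟨z, congrArg Subtype.val hz⟩, rfl⟩
    · rintro ⟨z, rfl⟩; exact Subtype.ext z.2
  have hB : LC.gr B.gr a d (n + 1) = ⊥ := by
    refine (AddSubgroup.eq_bot_iff_forall _).2 fun y hy => ?_
    obtain ⟨z, hz, rfl⟩ := LC.exists_map_eq_of_δ_eq_zero a d hinj hex g.surjective_rangeRestrict hg'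
      hy (Subsingleton.elim _ _)
    rw [(AddSubgroup.eq_bot_iff_forall _).1 hF z hz, map_zero]
  have hQ : LC.gr Q.gr a d (n + 1) = ⊥ := by
    obtain ⟨c, rfl⟩ : ∃ c, d = c + 1 := ⟨d - 1, by omega⟩
    haveI : Subsingleton (LocCoh.H a.toIdeal (c + 1) Q.carrier) :=
      LocCohElt.subsingleton_of_powerTorsion a.toIdeal c Q.carrier fun x => ⟨1, fun r hr1 => by
        obtain ⟨b, rfl⟩ := Submodule.mkQ_surjective (LinearMap.range g) x
        rw [pow_one] at hr1
        exact ((map_smul (LinearMap.range g).mkQ r b).symm).trans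
          ((Submodule.Quotient.mk_eq_zero _).2 (by rw [hrange]; exact Ideal.mul_mem_right b _ hr1))⟩
    exact (AddSubgroup.eq_bot_iff_forall _).2 fun y _ => Subsingleton.elim y 0
  exact LC.gr_eq_bot_of_exact a d (f := j') (g := q') (Submodule.injective_subtype _)
    (LinearMap.exact_subtype_mkQ _) (Submodule.mkQ_surjective _) hj0 hq (by rwa [sub_zero]) hQ

end Groth.Agent.GrLC

namespace Groth.Agent.GrLC

variable {R : Type u} [CommRing R]
variable {σ : Type u} [SetLike σ R] [AddSubgroupClass σ R] {𝒜 : ℤ → σ} [GradedRing 𝒜]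
variable (hpos : ∀ n : ℤ, n < 0 → ∀ x ∈ 𝒜 n, x = 0) (h0 : IsField (_root_.GrLC.deg0 𝒜))

include hpos h0 in
/-- Over a field the irrelevant ideal is the *maximal ideal. -/
theorem isStarLocal_irrel : _root_.GrLC.IsStarLocal 𝒜 (_root_.GrSyz.irrel 𝒜) := by
  obtain ⟨x0, y0, hxy⟩ := h0.exists_pair_ne
  haveI : Nontrivial R := ⟨⟨x0, y0, fun h => hxy (Subtype.ext h)⟩⟩
  have key : ∀ J : HomogeneousIdeal 𝒜, J.toIdeal ≠ ⊤ → J ≤ _root_.GrSyz.irrel 𝒜 := by
    intro J hJ x hx
    refine (GrSyz.mem_irrel_iff hpos).2 ?_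
    by_contra hne
    have hmem : cpt 𝒜 0 x ∈ J.toIdeal := (isHomogeneous_iff 𝒜).1 J.isHomogeneous x hx 0
    obtain ⟨z, hz⟩ := h0.mul_inv_cancel (a := ⟨cpt 𝒜 0 x, cpt_mem 𝒜 0 x⟩)
      fun h => hne (congrArg Subtype.val h)
    exact hJ (Ideal.eq_top_of_isUnit_mem _ hmem (IsUnit.of_mul_eq_one _ (congrArg Subtype.val hz)))
  have hne : _root_.GrSyz.irrel 𝒜 ≠ ⊤ := fun h =>
    GrSyz.one_notMem_irrel hpos (h ▸ (Submodule.mem_top : (1 : R) ∈ (⊤ : Ideal R)))
  refine ⟨⟨hne, fun L hL => ?_⟩, fun J hJ => ?_⟩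
  · by_contra hc
    exact hL.not_ge (key L fun h => hc (HomogeneousIdeal.toIdeal_injective h))
  · by_contra hc
    exact hne (hJ.2 _ (lt_of_le_of_ne (key J fun h => hJ.1 (HomogeneousIdeal.toIdeal_injective h)) hc))

include hpos h0 in
theorem exists_dim_eq [IsNoetherianRing R] : ∃ d : ℕ, ringKrullDim R = d := by
  have hm := isStarLocal_irrel hpos h0
  haveI := starLocal_isMaximal hpos _ hm
  obtain ⟨d, hd⟩ := ENat.ne_top_iff_exists.1
    ((_root_.GrSyz.irrel 𝒜).toIdeal.height_ne_top (Ideal.IsPrime.ne_top inferInstance))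
  refine ⟨d, ?_⟩
  rw [← height_starLocal_eq_ringKrullDim hpos _ hm, ← hd]
  rfl

include hpos h0 in
/-- A Cohen–Macaulay standard graded ring of positive dimension has monotone Hilbert function. -/
theorem finrank_le_finrank_succ [LocCoh.IsCohenMacaulayRing R]
    (hlin : (_root_.GrSyz.irrel 𝒜).toIdeal = Ideal.span ((𝒜 1 : σ) : Set R))
    (h1 : 1 ≤ ringKrullDim R) (n : ℤ) :
    Module.finrank (_root_.GrLC.deg0 𝒜) (_root_.GrLC.comp 𝒜 𝒜 n) ≤
      Module.finrank (_root_.GrLC.deg0 𝒜) (_root_.GrLC.comp 𝒜 𝒜 (n + 1)) := by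
  letI := h0.toField
  let A := _root_.GrLC.deg0 𝒜
  haveI := finite_comp hpos 𝒜 n
  haveI := finite_comp hpos 𝒜 (n + 1)
  have hm := isStarLocal_irrel hpos h0
  obtain ⟨d, hd⟩ := exists_dim_eq hpos h0
  have hd0 : 0 ≠ d := fun h => by
    rw [hd, ← h] at h1
    exact absurd h1 (by simp)
  haveI := subsingleton_H_of_ne_dim hpos _ hm hd hd0
  obtain ⟨e, -⟩ := LC.exists_zero_equiv (_root_.GrSyz.irrel 𝒜) 𝒜
  have hgam : ∀ r : R, (∀ z ∈ (𝒜 1 : σ), z * r = 0) → r = 0 := by
    intro r hr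
    have hmem : r ∈ _root_.GrLC.gam (_root_.GrSyz.irrel 𝒜).toIdeal R := by
      refine ⟨1, fun z hz => ?_⟩
      rw [pow_one, hlin] at hz
      induction hz using Submodule.span_induction with
      | mem z hz => exact hr z hz
      | zero => exact zero_smul R r
      | add u v _ _ hu hv => rw [add_smul, hu, hv, add_zero]
      | smul c u _ hu => simp only [smul_eq_mul] at hu ⊢; rw [mul_assoc, hu, mul_zero]
    have h := congrArg Subtype.val (e.injective (Subsingleton.elim (e ⟨r, hmem⟩) (e 0)))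
    exact h
  obtain ⟨t, hts, ht⟩ := (Submodule.fg_span_iff_fg_span_finset_subset (R := R) ((𝒜 1 : σ) : Set R)).1
    (IsNoetherian.noetherian _)
  let w : Fin t.card → R := fun b => (t.equivFin.symm b : R)
  let f : Polynomial R := ∑ i : Fin t.card, Polynomial.monomial (i : ℕ) (w i)
  have hfc : ∀ i : Fin t.card, f.coeff (i : ℕ) = w i := by
    intro i
    simp only [f, Polynomial.finsetSum_coeff, Polynomial.coeff_monomial, Fin.val_inj]
    rw [Finset.sum_ite_eq' Finset.univ i w, if_pos (Finset.mem_univ i)]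
  have hfdeg : ∀ j, t.card ≤ j → f.coeff j = 0 := by
    intro j hj
    simp only [f, Polynomial.finsetSum_coeff, Polynomial.coeff_monomial]
    exact Finset.sum_eq_zero fun i _ => if_neg (by omega)
  have hfgr : ∀ j, f.coeff j ∈ 𝒜 1 := by
    intro j
    by_cases hj : j < t.card
    · rw [hfc ⟨j, hj⟩]; exact hts (t.equivFin.symm _).2
    · rw [hfdeg j (by omega)]; exact zero_mem _
  have hf : f ∈ nonZeroDivisors (Polynomial R) := by
    by_contra hc
    obtain ⟨r, hr, hrf⟩ := Polynomial.notMem_nonZeroDivisors_iff.1 hc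
    refine hr (hgam r fun z hz => ?_)
    have hspan : z ∈ Submodule.span R (t : Set R) := ht ▸ Submodule.subset_span hz
    clear hz
    induction hspan using Submodule.span_induction with
    | mem z hz =>
      have h := congrArg (fun p => Polynomial.coeff p ((t.equivFin ⟨z, hz⟩ : Fin t.card) : ℕ)) hrf
      simp only [Polynomial.coeff_smul, smul_eq_mul, Polynomial.coeff_zero, hfc, w,
        Equiv.symm_apply_apply] at h
      rwa [mul_comm] at h
    | zero => rw [zero_mul]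
    | add u v _ _ hu hv => rw [add_mul, hu, hv, add_zero]
    | smul c u _ hu => rw [smul_eq_mul, mul_assoc, hu, mul_zero]
  have key : ∀ D : ℕ, D * Module.finrank A (_root_.GrLC.comp 𝒜 𝒜 n) ≤
      (D + t.card) * Module.finrank A (_root_.GrLC.comp 𝒜 𝒜 (n + 1)) := by
    intro D
    let q : (Fin D → _root_.GrLC.comp 𝒜 𝒜 n) → Polynomial R := fun v =>
      ∑ i : Fin D, Polynomial.monomial (i : ℕ) (v i : R)
    have hq : ∀ v j, (f * q v).coeff j ∈ 𝒜 (n + 1) := fun v j => by
      rw [Polynomial.coeff_mul]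
      refine sum_mem fun p _ => ?_
      have h2 : (q v).coeff p.2 ∈ 𝒜 n := by
        simp only [q, Polynomial.finsetSum_coeff, Polynomial.coeff_monomial]
        refine sum_mem fun i _ => ?_
        split_ifs
        · exact (v i).2
        · exact zero_mem _
      have h := SetLike.mul_mem_graded (hfgr p.1) h2
      rwa [add_comm 1 n] at h
    have hadd : ∀ u v, q (u + v) = q u + q v := fun u v => by
      simp only [q, ← Finset.sum_add_distrib, ← map_add]
      rfl
    have hsmul : ∀ (c : A) v, q (c • v) = Polynomial.C (c : R) * q v := fun c v => by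
      simp only [q, Finset.mul_sum, Polynomial.C_mul_monomial]
      rfl
    let L : (Fin D → _root_.GrLC.comp 𝒜 𝒜 n) →ₗ[A] (Fin (D + t.card) → _root_.GrLC.comp 𝒜 𝒜 (n + 1)) :=
      { toFun := fun v j => ⟨(f * q v).coeff j, hq v j⟩
        map_add' := fun u v => funext fun j => Subtype.ext (by
          change (f * q (u + v)).coeff j = (f * q u).coeff j + (f * q v).coeff j
          rw [hadd, mul_add, Polynomial.coeff_add])
        map_smul' := fun c v => funext fun j => Subtype.ext (by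
          change (f * q (c • v)).coeff j = (c : R) * (f * q v).coeff j
          rw [hsmul, mul_left_comm, Polynomial.coeff_C_mul]) }
    have hL : Function.Injective L := by
      refine LinearMap.ker_eq_bot.1 ((Submodule.eq_bot_iff _).2 fun v hv => ?_)
      have hzero : f * q v = 0 := by
        ext j
        rw [Polynomial.coeff_zero]
        by_cases hj : j < D + t.card
        · exact congrArg (fun x : Fin (D + t.card) → _root_.GrLC.comp 𝒜 𝒜 (n + 1) =>
            ((x ⟨j, hj⟩ : _root_.GrLC.comp 𝒜 𝒜 (n + 1)) : R)) (LinearMap.mem_ker.1 hv)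
        · rw [Polynomial.coeff_mul]
          refine Finset.sum_eq_zero fun p hp => ?_
          rw [Finset.mem_antidiagonal] at hp
          by_cases hp1 : t.card ≤ p.1
          · rw [hfdeg _ hp1, zero_mul]
          · have h2 : (q v).coeff p.2 = 0 := by
              simp only [q, Polynomial.finsetSum_coeff, Polynomial.coeff_monomial]
              exact Finset.sum_eq_zero fun i _ => if_neg (by omega)
            rw [h2, mul_zero]
      have hqv : q v = 0 := hf.1 (q v) hzero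
      funext i
      refine Subtype.ext ?_
      have h := congrArg (fun p => Polynomial.coeff p (i : ℕ)) hqv
      simp only [q, Polynomial.finsetSum_coeff, Polynomial.coeff_monomial, Polynomial.coeff_zero,
        Fin.val_inj] at h
      rw [Finset.sum_ite_eq' Finset.univ i (fun i => (v i : R)), if_pos (Finset.mem_univ i)] at h
      exact h
    have hle := LinearMap.finrank_le_finrank_of_injective hL
    rwa [Module.finrank_pi_fintype, Finset.sum_const, Finset.card_univ, Fintype.card_fin, smul_eq_mul,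
      Module.finrank_pi_fintype, Finset.sum_const, Finset.card_univ, Fintype.card_fin, smul_eq_mul] at hle
  by_contra hc
  push Not at hc
  generalize Module.finrank A (_root_.GrLC.comp 𝒜 𝒜 n) = a at key hc
  generalize Module.finrank A (_root_.GrLC.comp 𝒜 𝒜 (n + 1)) = b at key hc
  have h := key (t.card * b + 1)
  nlinarith [Nat.mul_le_mul_left (t.card * b + 1) (Nat.succ_le_of_lt hc)]

end Groth.Agent.GrLC
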