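import Groth.Agent.GrLC.Core
import Groth.Agent.Depth.CM
import Groth.Agent.LocCoh.DepthVanishing
import Groth.Agent.LocCoh.CohDim

/-!
# Cohen–Macaulay *local rings: local cohomology is concentrated in degree `dim R`

`idealDepth_starLocal`, `subsingleton_H_of_ne_dim`, `nontrivial_H_dim`.
-/

set_option autoImplicit false
set_option linter.unusedSectionVars false
set_option linter.style.haveILetI false
universe u

namespace Groth.Agent.GrLC

variable {R : Type u} [CommRing R]
variable {σ : Type u} [SetLike σ R] [AddSubgroupClass σ R] {𝒜 : ℤ → σ} [GradedRing 𝒜]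
variable [LocCoh.IsCohenMacaulayRing R] (hpos : ∀ n : ℤ, n < 0 → ∀ x ∈ 𝒜 n, x = 0)
  (m : HomogeneousIdeal 𝒜) (hm : _root_.GrLC.IsStarLocal 𝒜 m) {d : ℕ} (hd : ringKrullDim R = d)

include hpos hm hd in
theorem idealDepth_starLocal : LocCoh.idealDepth m.toIdeal R = d := by
  haveI hmax := starLocal_isMaximal hpos m hm
  haveI := hmax.isPrime
  haveI := LocCoh.IsCohenMacaulayRing.isCohenMacaulayLocalRing_localization (R := R) m.toIdeal
  have hdim : ringKrullDim (Localization.AtPrime m.toIdeal) = d := by
    rw [IsLocalization.AtPrime.ringKrullDim_eq_height m.toIdeal (Localization.AtPrime m.toIdeal),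
      height_starLocal_eq_ringKrullDim hpos m hm, hd]
  have hdep : LocCoh.depth (Localization.AtPrime m.toIdeal) (LocalizedModule m.toIdeal.primeCompl R) = d := by
    have h := LocCoh.IsCohenMacaulayLocalRing.supportDim_eq_depth (R := Localization.AtPrime m.toIdeal)
    rw [Module.supportDim_self_eq_ringKrullDim, hdim] at h
    have h' : LocCoh.depth (Localization.AtPrime m.toIdeal) (Localization.AtPrime m.toIdeal) = d :=
      (WithBot.coe_injective h).symm
    refine Eq.trans ?_ h'
    exact Depth.idealDepth_congr (Depth.localizedModuleSelfEquiv m.toIdeal.primeCompl)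
  refine le_antisymm ?_ ?_
  · exact (Depth.idealDepth_le_depth_localizedModule m.toIdeal le_rfl).trans hdep.le
  · rw [Depth.idealDepth_eq_iInf_depth]
    refine le_iInf₂ fun p hp => ?_
    obtain rfl : p = ⟨m.toIdeal, inferInstance⟩ :=
      PrimeSpectrum.ext (hmax.eq_of_le p.2.ne_top hp).symm
    exact hdep.ge

include hpos hm hd in
theorem subsingleton_H_of_ne_dim {i : ℕ} (hi : i ≠ d) :
    Subsingleton (LocCoh.H m.toIdeal i R) := by
  rcases Nat.lt_or_gt_of_ne hi with h | h
  · exact (LocCoh.H_of_idealDepth_eq m.toIdeal d R (idealDepth_starLocal hpos m hm hd)).1 i h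
  · exact LocCoh.cdLE_of_ringKrullDim_le m.toIdeal d hd.le R i h

include hpos hm hd in
theorem nontrivial_H_dim : Nontrivial (LocCoh.H m.toIdeal d R) :=
  (LocCoh.H_of_idealDepth_eq m.toIdeal d R (idealDepth_starLocal hpos m hm hd)).2

end Groth.Agent.GrLC
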