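import Groth.Agent.GrLC.Basic
import Mathlib.Algebra.Category.ModuleCat.EnoughInjectives
import Mathlib.Algebra.Category.ModuleCat.Injective
import Mathlib.Data.Finsupp.SMul
import Mathlib.Order.Zorn

/-!
# *Injective graded modules: the cofree graded module, enough *injectives, *injective envelopes

`Cofree 𝒜 I` is `⊕_{g} I` with `r_h` moving the copy of degree `g` to degree `h + g`; it is the right adjoint of
forgetting the grading, so it is *injective when `I` is injective.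
-/

set_option autoImplicit false
set_option linter.unusedSectionVars false
universe u

open DirectSum

namespace Groth.Agent.GrLC

variable {ι : Type} [AddCommGroup ι] [DecidableEq ι]
variable {R : Type u} [CommRing R]
variable {σ : Type u} [SetLike σ R] [AddSubgroupClass σ R] (𝒜 : ι → σ) [GradedRing 𝒜]

/-- The cofree graded module on a module `I`. -/
def Cofree (_𝒜 : ι → σ) (I : Type u) [AddCommGroup I] : Type u := ι →₀ I

section Cofree

variable (I : Type u) [AddCommGroup I]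

noncomputable instance : AddCommGroup (Cofree 𝒜 I) := inferInstanceAs (AddCommGroup (ι →₀ I))

variable {I} in
/-- The copy of `x` in degree `g`. -/
noncomputable def single (g : ι) : I →+ Cofree 𝒜 I := Finsupp.singleAddHom g

variable {I} in
theorem cofree_induction {p : Cofree 𝒜 I → Prop} (zero : p 0) (sgl : ∀ g x, p (single 𝒜 g x))
    (add : ∀ a b, p a → p b → p (a + b)) (x : Cofree 𝒜 I) : p x :=
  Finsupp.induction_linear (motive := p) x zero add sgl

variable {I} in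
/-- The coordinate of degree `g`. -/
noncomputable def coord (g : ι) : Cofree 𝒜 I →+ I := Finsupp.applyAddHom g

variable {I} in
theorem coord_single (g h : ι) (x : I) : coord 𝒜 h (single 𝒜 g x) = if g = h then x else 0 :=
  Finsupp.single_apply

variable [Module R I]

/-- Move the copy of degree `g` to degree `h + g`, multiplying by `r`. -/
noncomputable def shiftMul (h : ι) (r : R) : (ι →₀ I) →+ (ι →₀ I) :=
  Finsupp.liftAddHom fun g => (Finsupp.singleAddHom (h + g)).comp (DistribSMul.toAddMonoidHom I r)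

theorem shiftMul_single (h g : ι) (r : R) (x : I) :
    shiftMul I h r (Finsupp.single g x) = Finsupp.single (h + g) (r • x) := by
  simp [shiftMul]

/-- The action of a homogeneous element of degree `h`. -/
noncomputable def hAct (h : ι) : 𝒜 h →+ AddMonoid.End (Cofree 𝒜 I) :=
  AddMonoidHom.mk' (fun r => shiftMul I h (r : R)) (fun r s => Finsupp.addHom_ext fun g x => by
    change shiftMul I h _ (Finsupp.single g x) =
      shiftMul I h (r : R) (Finsupp.single g x) + shiftMul I h (s : R) (Finsupp.single g x)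
    simp [shiftMul_single, add_smul])

theorem hAct_single (h g : ι) (r : 𝒜 h) (x : I) :
    hAct 𝒜 I h r (single 𝒜 g x) = single 𝒜 (h + g) ((r : R) • x) :=
  shiftMul_single I h g _ x

/-- The action of `R`. -/
noncomputable def act : R →+* AddMonoid.End (Cofree 𝒜 I) :=
  (DirectSum.toSemiring (fun h => hAct 𝒜 I h)
    (by
      refine Finsupp.addHom_ext fun g x => ?_
      change hAct 𝒜 I 0 _ (single 𝒜 g x) = single 𝒜 g x
      rw [hAct_single, zero_add]
      exact congrArg _ (one_smul R x))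
    (by
      intro i j a b
      refine Finsupp.addHom_ext fun g x => ?_
      change hAct 𝒜 I (i + j) _ (single 𝒜 g x) = hAct 𝒜 I i a (hAct 𝒜 I j b (single 𝒜 g x))
      rw [hAct_single, hAct_single, hAct_single, add_assoc]
      exact congrArg _ (mul_smul _ _ x))).comp (DirectSum.decomposeRingEquiv 𝒜).toRingHom

noncomputable instance : Module R (Cofree 𝒜 I) := Module.compHom _ (act 𝒜 I)

theorem smul_single {h : ι} {r : R} (hr : r ∈ 𝒜 h) (g : ι) (x : I) :
    r • single 𝒜 g x = single 𝒜 (h + g) (r • x) := by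
  change (act 𝒜 I r) (single 𝒜 g x) = _
  simp only [act, RingHom.coe_comp, Function.comp_apply, RingEquiv.toRingHom_eq_coe, RingHom.coe_coe]
  rw [show DirectSum.decomposeRingEquiv 𝒜 r = decompose 𝒜 r from rfl]
  rw [decompose_of_mem 𝒜 hr, DirectSum.toSemiring_of, hAct_single]

/-- The pieces of the cofree module. -/
noncomputable def cofreeGr : ι → AddSubgroup (Cofree 𝒜 I) := fun g => (single 𝒜 g).range

theorem single_mem (g : ι) (x : I) : single 𝒜 g x ∈ cofreeGr 𝒜 I g := ⟨x, rfl⟩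

theorem isInternal_cofreeGr : DirectSum.IsInternal (cofreeGr 𝒜 I) := by
  refine isInternal_of_proj _ (fun g => (single 𝒜 g).comp (coord 𝒜 g)) ?_ ?_ ?_
  · rintro g _ ⟨x, rfl⟩; simp [coord_single]
  · rintro g h _ ⟨x, rfl⟩ hne; simp [coord_single, hne]
  · intro x
    induction x using cofree_induction 𝒜 with
    | zero => exact zero_mem _
    | sgl g x => exact AddSubgroup.mem_iSup_of_mem g (single_mem 𝒜 I g x)
    | add a b ha hb => exact add_mem ha hb

noncomputable instance : DirectSum.Decomposition (cofreeGr 𝒜 I) :=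
  (isInternal_cofreeGr 𝒜 I).chooseDecomposition

instance : SetLike.GradedSMul 𝒜 (cofreeGr 𝒜 I) :=
  ⟨fun h g r _ hr hx => by
    obtain ⟨x, rfl⟩ := hx
    rw [smul_single 𝒜 I hr, vadd_eq_add]
    exact single_mem 𝒜 I _ _⟩

/-- The sum of the coordinates, as an additive map. -/
noncomputable def counitAdd : Cofree 𝒜 I →+ I := Finsupp.liftAddHom (fun _ : ι => AddMonoidHom.id I)

theorem counitAdd_single (g : ι) (x : I) : counitAdd 𝒜 I (single 𝒜 g x) = x := by
  change Finsupp.liftAddHom _ (Finsupp.single g x) = x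
  simp

/-- The sum of the coordinates, the counit. -/
noncomputable def counit : Cofree 𝒜 I →ₗ[R] I where
  toFun := counitAdd 𝒜 I
  map_add' := map_add _
  map_smul' r x := by
    simp only [RingHom.id_apply]
    induction x using cofree_induction 𝒜 with
    | zero => simp
    | sgl g x =>
      induction r using homogeneous_induction 𝒜 with
      | zero => simp
      | hom h r hr => rw [smul_single 𝒜 I hr, counitAdd_single, counitAdd_single]
      | add a b ha hb => rw [add_smul, map_add, ha, hb, add_smul]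
    | add a b ha hb => rw [smul_add, map_add, map_add, ha, hb, smul_add]

theorem counit_single (g : ι) (x : I) : counit 𝒜 I (single 𝒜 g x) = x :=
  counitAdd_single 𝒜 I g x

variable {I}
variable {M : Type u} [AddCommGroup M] [Module R M] {τ : Type u} [SetLike τ M] [AddSubgroupClass τ M]
  (ℳ : ι → τ) [DirectSum.Decomposition ℳ] [SetLike.GradedSMul 𝒜 ℳ]

/-- The homogeneous map to the cofree module given by a linear map. -/
noncomputable def toCofreeAdd (f : M →ₗ[R] I) : M →+ Cofree 𝒜 I :=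
  (DirectSum.toAddMonoid fun g => ((single 𝒜 g).comp f.toAddMonoidHom).comp
    (AddSubmonoidClass.subtype (ℳ g))).comp (DirectSum.decomposeAddEquiv ℳ).toAddMonoidHom

theorem toCofreeAdd_of_mem (f : M →ₗ[R] I) {g : ι} {m : M} (hm : m ∈ ℳ g) :
    toCofreeAdd 𝒜 ℳ f m = single 𝒜 g (f m) := by
  change DirectSum.toAddMonoid _ (decompose ℳ m) = _
  rw [decompose_of_mem ℳ hm, DirectSum.toAddMonoid_of]
  rfl

/-- The homogeneous linear map to the cofree module given by a linear map. -/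
noncomputable def toCofree (f : M →ₗ[R] I) : M →ₗ[R] Cofree 𝒜 I where
  toFun := toCofreeAdd 𝒜 ℳ f
  map_add' := map_add _
  map_smul' r m := by
    simp only [RingHom.id_apply]
    induction m using homogeneous_induction ℳ with
    | zero => simp
    | hom g m hm =>
      induction r using homogeneous_induction 𝒜 with
      | zero => simp
      | hom h r hr =>
        rw [toCofreeAdd_of_mem 𝒜 ℳ f (smul_mem_gr (ℳ := ℳ) hr hm),
          toCofreeAdd_of_mem 𝒜 ℳ f hm, smul_single 𝒜 I hr, map_smul]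
      | add a b ha hb => rw [add_smul, map_add, ha, hb, add_smul]
    | add a b ha hb => rw [smul_add, map_add, map_add, ha, hb, smul_add]

theorem toCofree_of_mem (f : M →ₗ[R] I) {g : ι} {m : M} (hm : m ∈ ℳ g) :
    toCofree 𝒜 ℳ f m = single 𝒜 g (f m) :=
  toCofreeAdd_of_mem 𝒜 ℳ f hm

theorem toCofree_isGrHom (f : M →ₗ[R] I) :
    _root_.GrLC.IsGrHom ℳ (cofreeGr 𝒜 I) (toCofree 𝒜 ℳ f) := fun g m hm => by
  rw [toCofree_of_mem 𝒜 ℳ f hm]; exact single_mem 𝒜 I g _

theorem counit_toCofree (f : M →ₗ[R] I) : counit 𝒜 I ∘ₗ toCofree 𝒜 ℳ f = f :=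
  linearMap_ext ℳ fun g m hm => by
    simp [toCofree_of_mem 𝒜 ℳ f hm, counit_single]

theorem toCofree_injective (f : M →ₗ[R] I) (hf : Function.Injective f) :
    Function.Injective (toCofree 𝒜 ℳ f) :=
  Function.Injective.of_comp (f := counit 𝒜 I) (by
    rw [← LinearMap.coe_comp, counit_toCofree]; exact hf)

theorem toCofree_counit_comp (φ : M →ₗ[R] Cofree 𝒜 I)
    (hφ : _root_.GrLC.IsGrHom ℳ (cofreeGr 𝒜 I) φ) :
    toCofree 𝒜 ℳ (counit 𝒜 I ∘ₗ φ) = φ :=
  linearMap_ext ℳ fun g m hm => by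
    obtain ⟨x, hx⟩ := hφ g m hm
    rw [toCofree_of_mem 𝒜 ℳ _ hm, LinearMap.comp_apply, ← hx, counit_single]

/-- The cofree module on an injective module is *injective. -/
theorem cofree_starInj [Module.Injective R I] :
    _root_.GrLC.IsStarInj 𝒜 (cofreeGr 𝒜 I) := by
  intro A B f hf hinj g hg
  obtain ⟨h₀, hh₀⟩ := Module.Injective.out f hinj (counit 𝒜 I ∘ₗ g)
  refine ⟨toCofree 𝒜 B.gr h₀, toCofree_isGrHom 𝒜 _ _, linearMap_ext A.gr fun d a ha => ?_⟩
  rw [LinearMap.comp_apply, toCofree_of_mem 𝒜 B.gr _ (hf d a ha), hh₀]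
  obtain ⟨x, hx⟩ := hg d a ha
  rw [LinearMap.comp_apply, ← hx, counit_single]

end Cofree

variable {𝒜}
variable {M : Type u} [AddCommGroup M] [Module R M] {τ : Type u} [SetLike τ M] [AddSubgroupClass τ M]
  {ℳ : ι → τ} [DirectSum.Decomposition ℳ] [SetLike.GradedSMul 𝒜 ℳ]
variable {N : Type u} [AddCommGroup N] [Module R N] {τ' : Type u} [SetLike τ' N] [AddSubgroupClass τ' N]
  {𝒩 : ι → τ'} [DirectSum.Decomposition 𝒩] [SetLike.GradedSMul 𝒜 𝒩]

/-- Every module embeds in an injective module. -/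
theorem exists_injective_embedding (M : Type u) [AddCommGroup M] [Module R M] :
    ∃ (I : ModuleCat.{u} R) (f : M →ₗ[R] I), Module.Injective R I ∧ Function.Injective f := by
  refine ⟨CategoryTheory.Injective.under (ModuleCat.of R M),
    (CategoryTheory.Injective.ι (ModuleCat.of R M)).hom, ?_, ?_⟩
  · haveI h : CategoryTheory.Injective (CategoryTheory.Injective.under (ModuleCat.of R M)) := inferInstance
    exact (Module.injective_iff_injective_object _ _).2 h
  · exact (ModuleCat.mono_iff_injective _).1 inferInstance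

variable (𝒜 ℳ) in
/-- The graded category has enough *injectives. -/
theorem exists_starInj_embedding : ∃ (X : _root_.GrLC.GMod.{u} 𝒜) (f : M →ₗ[R] X.carrier),
    _root_.GrLC.IsStarInj 𝒜 X.gr ∧ Function.Injective f ∧ _root_.GrLC.IsGrHom ℳ X.gr f := by
  obtain ⟨I, f, hI, hf⟩ := exists_injective_embedding (R := R) M
  exact ⟨_root_.GrLC.GMod.of 𝒜 (Cofree 𝒜 I) (cofreeGr 𝒜 I), toCofree 𝒜 ℳ f, cofree_starInj 𝒜,
    toCofree_injective 𝒜 ℳ f hf, toCofree_isGrHom 𝒜 ℳ f⟩

/-- The extension property against unbundled graded modules. -/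
theorem starInj_extend (hN : _root_.GrLC.IsStarInj 𝒜 𝒩)
    {A : Type u} [AddCommGroup A] [Module R A] {τA : Type u} [SetLike τA A] [AddSubgroupClass τA A]
    {𝓐 : ι → τA} [DirectSum.Decomposition 𝓐] [SetLike.GradedSMul 𝒜 𝓐]
    {B : Type u} [AddCommGroup B] [Module R B] {τB : Type u} [SetLike τB B] [AddSubgroupClass τB B]
    {𝓑 : ι → τB} [DirectSum.Decomposition 𝓑] [SetLike.GradedSMul 𝒜 𝓑]
    {f : A →ₗ[R] B} (hf : _root_.GrLC.IsGrHom 𝓐 𝓑 f) (hinj : Function.Injective f)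
    {g : A →ₗ[R] N} (hg : _root_.GrLC.IsGrHom 𝓐 𝒩 g) :
    ∃ h : B →ₗ[R] N, _root_.GrLC.IsGrHom 𝓑 𝒩 h ∧ h ∘ₗ f = g :=
  hN (toGMod 𝒜 𝓐) (toGMod 𝒜 𝓑) f hf hinj g hg

/-- A retract of a *injective module is *injective. -/
theorem starInj_of_retract (hN : _root_.GrLC.IsStarInj 𝒜 𝒩) {i : M →ₗ[R] N} {p : N →ₗ[R] M}
    (hi : _root_.GrLC.IsGrHom ℳ 𝒩 i) (hp : _root_.GrLC.IsGrHom 𝒩 ℳ p)
    (hpi : p ∘ₗ i = LinearMap.id) : _root_.GrLC.IsStarInj 𝒜 ℳ := by
  intro A B f hf hinj g hg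
  obtain ⟨h, hh, hhf⟩ := hN A B f hf hinj (i ∘ₗ g) (isGrHom_comp hi hg)
  exact ⟨p ∘ₗ h, isGrHom_comp hp hh, by
    rw [LinearMap.comp_assoc, hhf, ← LinearMap.comp_assoc, hpi, LinearMap.id_comp]⟩

/-- A *injective module is a retract of every graded module containing it. -/
theorem exists_retraction (hM : _root_.GrLC.IsStarInj 𝒜 ℳ) {f : M →ₗ[R] N}
    (hf : _root_.GrLC.IsGrHom ℳ 𝒩 f) (hinj : Function.Injective f) :
    ∃ h : N →ₗ[R] M, _root_.GrLC.IsGrHom 𝒩 ℳ h ∧ h ∘ₗ f = LinearMap.id :=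
  starInj_extend hM hf hinj (g := LinearMap.id) (fun _ _ hm => hm)

section Ess

variable {f : M →ₗ[R] N}

include 𝒜 in
theorem isStarEss_exists_mul (hf : _root_.GrLC.IsStarEss ℳ 𝒩 f) (x : N) (hx : x ≠ 0) :
    ∃ (i : ι) (r : R), r ∈ 𝒜 i ∧ r • x ≠ 0 ∧ r • x ∈ LinearMap.range f := by
  suffices H : ∀ (n : ℕ) (x : N), (degs 𝒩 x).card ≤ n → x ≠ 0 →
      ∃ (i : ι) (r : R), r ∈ 𝒜 i ∧ r • x ≠ 0 ∧ r • x ∈ LinearMap.range f from H _ x le_rfl hx
  clear hx x
  have hrange : (LinearMap.range f).IsHomogeneous 𝒩 := isHomogeneous_range ℳ hf.grHom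
  intro n
  induction n with
  | zero =>
    intro x hc hx
    obtain ⟨g, hg⟩ := exists_cpt_ne_zero 𝒩 hx
    exact absurd (Finset.card_pos.2 ⟨g, (mem_degs 𝒩).2 hg⟩) (by omega)
  | succ n ih =>
    intro x hc hx
    obtain ⟨g, hg⟩ := exists_cpt_ne_zero 𝒩 hx
    have hne : Submodule.span R {cpt 𝒩 g x} ≠ ⊥ := by simpa using hg
    have hhom : (Submodule.span R {cpt 𝒩 g x}).IsHomogeneous 𝒩 :=
      isHomogeneous_span (𝒜 := 𝒜) 𝒩 fun y hy => ⟨g, hy ▸ cpt_mem 𝒩 g x⟩
    obtain ⟨d, y, hyd, hy, hy0⟩ :=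
      exists_hom_mem_ne_zero 𝒩 (isHomogeneous_inf 𝒩 hhom hrange) (hf.essential _ hhom hne)
    obtain ⟨r, hr⟩ := Submodule.mem_span_singleton.1 hy.1
    obtain ⟨i, s, hs, hsy⟩ : ∃ (i : ι) (s : R), s ∈ 𝒜 i ∧ s • cpt 𝒩 g x = y := by
      refine ⟨d - g, cpt 𝒜 (d - g) r, cpt_mem 𝒜 _ r, ?_⟩
      rw [← cpt_smul_right' (𝒜 := 𝒜) 𝒩 (cpt_mem 𝒩 g x) r d, hr, cpt_of_mem 𝒩 hyd]
    have hcy : cpt 𝒩 (i + g) (s • x) = y := by rw [cpt_smul_left 𝒩 hs, hsy]
    have hsx : s • x ≠ 0 := by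
      intro h; apply hy0; rw [← hcy, h, map_zero]
    by_cases hin : s • x ∈ LinearMap.range f
    · exact ⟨i, s, hs, hsx, hin⟩
    have hz : s • x - y ≠ 0 := fun h => hin (sub_eq_zero.1 h ▸ hy.2)
    have hsub : degs 𝒩 (s • x - y) ⊆ ((degs 𝒩 x).erase g).image fun j => i + j := by
      intro e he
      rw [mem_degs] at he
      rw [Finset.mem_image]
      refine ⟨e - i, Finset.mem_erase.2 ⟨?_, (mem_degs 𝒩).2 ?_⟩, by abel⟩
      · intro h
        apply he
        have hey : e = i + g := by rw [← h]; abel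
        rw [hey, map_sub, hcy, ← hsy, cpt_of_mem 𝒩 (smul_mem_gr (ℳ := 𝒩) hs (cpt_mem 𝒩 g x)),
          sub_self]
      · intro h
        apply he
        have : y ∈ 𝒩 (i + g) := hcy ▸ cpt_mem 𝒩 _ _
        rw [map_sub, cpt_smul_left' 𝒩 hs, h, smul_zero, zero_sub, neg_eq_zero,
          cpt_of_mem_ite 𝒩 _ this]
        split_ifs with hh
        · subst hh
          rw [add_sub_cancel_left] at h
          exact absurd h hg
        · rfl
    have hcard : (degs 𝒩 (s • x - y)).card ≤ n := by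
      refine (Finset.card_le_card hsub).trans (Finset.card_image_le.trans ?_)
      have hgm := (mem_degs 𝒩).2 hg
      rw [Finset.card_erase_of_mem hgm]
      omega
    obtain ⟨j, t, ht, htz, htm⟩ := ih _ hcard hz
    refine ⟨j + i, t * s, SetLike.mul_mem_graded ht hs, ?_, ?_⟩
    · intro h
      apply htz
      rw [mul_smul] at h
      have hty : t • y = 0 := by rw [← hcy, ← cpt_smul_left 𝒩 ht, h, map_zero]
      rw [smul_sub, h, hty, sub_zero]
    · rw [mul_smul, show t • s • x = t • (s • x - y) + t • y by rw [smul_sub, sub_add_cancel]]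
      exact add_mem htm (Submodule.smul_mem _ t hy.2)

include 𝒜 in
/-- A *essential extension is essential. -/
theorem isStarEss_inf_ne_bot (hf : _root_.GrLC.IsStarEss ℳ 𝒩 f) {P : Submodule R N} (hP : P ≠ ⊥) :
    P ⊓ LinearMap.range f ≠ ⊥ := by
  obtain ⟨x, hx, hx0⟩ := Submodule.exists_mem_ne_zero_of_ne_bot hP
  obtain ⟨i, r, -, hrx, hrf⟩ := isStarEss_exists_mul (𝒜 := 𝒜) hf x hx0
  exact fun h => hrx ((Submodule.eq_bot_iff _).1 h _ ⟨P.smul_mem r hx, hrf⟩)

include 𝒜 in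
/-- A homogeneous map injective on the source of a *essential extension is injective. -/
theorem isStarEss_injective_of_comp (hf : _root_.GrLC.IsStarEss ℳ 𝒩 f)
    {P : Type u} [AddCommGroup P] [Module R P] {j : N →ₗ[R] P}
    (h : Function.Injective (j ∘ₗ f)) : Function.Injective j := by
  rw [← LinearMap.ker_eq_bot]
  by_contra hk
  refine isStarEss_inf_ne_bot (𝒜 := 𝒜) hf hk ((Submodule.eq_bot_iff _).2 ?_)
  rintro _ ⟨hx, m, rfl⟩
  rw [SetLike.mem_coe, LinearMap.mem_ker] at hx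
  rw [h (a₁ := m) (a₂ := 0) (by simpa using hx), map_zero]

end Ess

/-- A maximal homogeneous submodule meeting `L` trivially gives a *essential extension `L → N ⧸ C`. -/
theorem exists_maximal_disjoint {L : Submodule R N} :
    ∃ C : Submodule R N, C.IsHomogeneous 𝒩 ∧ C ⊓ L = ⊥ ∧
      ∀ D : Submodule R N, D.IsHomogeneous 𝒩 → C ≤ D → D ⊓ L = ⊥ → D = C := by
  obtain ⟨C, hC⟩ := zorn_le₀ {C : Submodule R N | C.IsHomogeneous 𝒩 ∧ C ⊓ L = ⊥} (fun c hc hchain => by
    refine ⟨sSup c, ⟨isHomogeneous_sSup 𝒩 fun P hP => (hc hP).1, ?_⟩, fun P hP => le_sSup hP⟩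
    rcases c.eq_empty_or_nonempty with rfl | hne
    · simp
    rw [eq_bot_iff]
    rintro x ⟨hx, hxL⟩
    obtain ⟨P, hP, hxP⟩ := (Submodule.mem_sSup_of_directed hne hchain.directedOn).1 hx
    exact (hc hP).2.le ⟨hxP, hxL⟩)
  exact ⟨C, hC.prop.1, hC.prop.2, fun D hD hle h => le_antisymm (hC.le_of_ge ⟨hD, h⟩ hle) hle⟩

theorem isStarEss_mkQ_comp {f : M →ₗ[R] N} (hf : _root_.GrLC.IsGrHom ℳ 𝒩 f)
    (hinj : Function.Injective f) {C : Submodule R N} (hC : C.IsHomogeneous 𝒩)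
    (hCd : C ⊓ LinearMap.range f = ⊥)
    (hmax : ∀ D : Submodule R N, D.IsHomogeneous 𝒩 → C ≤ D → D ⊓ LinearMap.range f = ⊥ → D = C) :
    letI := quoDec 𝒩 hC
    _root_.GrLC.IsStarEss ℳ (quoGr 𝒩 C) (C.mkQ ∘ₗ f) := by
  letI := quoDec 𝒩 hC
  refine ⟨?_, fun g m hm => ⟨f m, hf g m hm, rfl⟩, fun P hP hne => ?_⟩
  · rw [← LinearMap.ker_eq_bot, eq_bot_iff]
    intro m hm
    rw [LinearMap.mem_ker, LinearMap.comp_apply, Submodule.mkQ_apply,
      Submodule.Quotient.mk_eq_zero] at hm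
    have : f m ∈ C ⊓ LinearMap.range f := ⟨hm, m, rfl⟩
    rw [hCd, Submodule.mem_bot] at this
    exact (Submodule.mem_bot R).2 (hinj (by rw [this, map_zero]))
  · have hD : (P.comap C.mkQ).IsHomogeneous 𝒩 := isHomogeneous_comap 𝒩 (isGrHom_mkQ 𝒩 C) hP
    intro hbot
    apply hne
    have hle : C ≤ P.comap C.mkQ := fun x hx => by
      rw [Submodule.mem_comap, Submodule.mkQ_apply, (Submodule.Quotient.mk_eq_zero C).2 hx]
      exact zero_mem _
    have hd : P.comap C.mkQ ⊓ LinearMap.range f = ⊥ := by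
      rw [eq_bot_iff]
      rintro _ ⟨hx, m, rfl⟩
      have h0 : C.mkQ (f m) ∈ P ⊓ LinearMap.range (C.mkQ ∘ₗ f) := ⟨hx, m, rfl⟩
      rw [hbot, Submodule.mem_bot, Submodule.mkQ_apply, Submodule.Quotient.mk_eq_zero] at h0
      exact hCd.le ⟨h0, m, rfl⟩
    have := congrArg (Submodule.map C.mkQ) (hmax _ hD hle hd)
    rw [Submodule.map_comap_eq_of_surjective C.mkQ_surjective, Submodule.mkQ_map_self] at this
    exact this

/-- A module with no proper *essential extension is *injective. -/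
theorem starInj_of_forall_ess (h : ∀ (N : _root_.GrLC.GMod.{u} 𝒜) (f : M →ₗ[R] N.carrier),
    _root_.GrLC.IsStarEss ℳ N.gr f → Function.Surjective f) : _root_.GrLC.IsStarInj 𝒜 ℳ := by
  obtain ⟨X, f, hX, hinj, hf⟩ := exists_starInj_embedding 𝒜 ℳ
  obtain ⟨C, hC, hCd, hmax⟩ := exists_maximal_disjoint (𝒩 := X.gr) (L := LinearMap.range f)
  letI := quoDec X.gr hC
  have hess := isStarEss_mkQ_comp hf hinj hC hCd hmax
  let e := LinearEquiv.ofBijective (C.mkQ ∘ₗ f) ⟨hess.injective, h (quoGMod 𝒜 X.gr hC) _ hess⟩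
  refine starInj_of_retract hX hf (p := e.symm.toLinearMap ∘ₗ C.mkQ)
    (isGrHom_comp (isGrHom_symm (e := e) hess.grHom) (isGrHom_mkQ X.gr C)) ?_
  ext m
  exact e.symm_apply_apply m

variable (𝒜 ℳ) in
/-- Inside any *injective module there is a *injective envelope. -/
theorem exists_hull_in {Q : Type u} [AddCommGroup Q] [Module R Q] {τQ : Type u} [SetLike τQ Q]
    [AddSubgroupClass τQ Q] {𝒬 : ι → τQ} [DirectSum.Decomposition 𝒬] [SetLike.GradedSMul 𝒜 𝒬]
    (hQ : _root_.GrLC.IsStarInj 𝒜 𝒬) {f : M →ₗ[R] Q} (hf : _root_.GrLC.IsGrHom ℳ 𝒬 f)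
    (hinj : Function.Injective f) :
    ∃ (E : Submodule R Q) (hE : E.IsHomogeneous 𝒬) (hmem : ∀ m, f m ∈ E),
      letI := subDec 𝒬 hE
      letI := subGr_gradedSMul (𝒜 := 𝒜) 𝒬 E
      _root_.GrLC.IsStarInjHull 𝒜 ℳ (subGr 𝒬 E) (f.codRestrict E hmem) := by
  -- maximal homogeneous *essential extension of the image inside `Q`
  let S : Set (Submodule R Q) := {E | E.IsHomogeneous 𝒬 ∧ LinearMap.range f ≤ E ∧
    ∀ P : Submodule R Q, P.IsHomogeneous 𝒬 → P ≤ E → P ≠ ⊥ → P ⊓ LinearMap.range f ≠ ⊥}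
  have h0 : LinearMap.range f ∈ S :=
    ⟨isHomogeneous_range ℳ hf, le_rfl, fun P _ hle hne => by rwa [inf_eq_left.2 hle]⟩
  obtain ⟨E, -, hEmax⟩ := zorn_le_nonempty₀ S (fun c hc hchain E0 hE0 => by
    refine ⟨sSup c, ⟨isHomogeneous_sSup 𝒬 fun P hP => (hc hP).1, (hc hE0).2.1.trans (le_sSup hE0), ?_⟩,
      fun P hP => le_sSup hP⟩
    intro P hP hle hne
    obtain ⟨g, x, hxg, hxP, hx0⟩ := exists_hom_mem_ne_zero 𝒬 hP hne
    obtain ⟨E1, hE1, hxE⟩ := (Submodule.mem_sSup_of_directed ⟨E0, hE0⟩ hchain.directedOn).1 (hle hxP)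
    have := (hc hE1).2.2 (Submodule.span R {x})
      (isHomogeneous_span (𝒜 := 𝒜) 𝒬 fun y hy => ⟨g, hy ▸ hxg⟩)
      ((Submodule.span_singleton_le_iff_mem _ _).2 hxE) (by simpa using hx0)
    exact fun hb => this (eq_bot_iff.2 ((inf_le_inf_right _
      ((Submodule.span_singleton_le_iff_mem _ _).2 hxP)).trans hb.le)))
    (LinearMap.range f) h0
  obtain ⟨hE, hfE, hEss⟩ := hEmax.prop
  refine ⟨E, hE, fun m => hfE ⟨m, rfl⟩, ?_⟩
  letI := subDec 𝒬 hE
  letI := subGr_gradedSMul (𝒜 := 𝒜) 𝒬 E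
  refine ⟨⟨fun a b hab => hinj (congrArg Subtype.val hab), fun g m hm => hf g m hm, ?_⟩, ?_⟩
  · intro P hP hne hb
    refine hEss (P.map E.subtype) (isHomogeneous_map _ (isGrHom_subtype 𝒬 E) hP)
      (Submodule.map_subtype_le E P) (fun h => hne ?_) ((Submodule.eq_bot_iff _).2 ?_)
    · rw [← Submodule.comap_map_eq_of_injective E.injective_subtype P, h, Submodule.comap_bot,
        Submodule.ker_subtype]
    · rintro _ ⟨⟨p, hp, rfl⟩, m, hm⟩
      have : p ∈ P ⊓ LinearMap.range (f.codRestrict E fun m => hfE ⟨m, rfl⟩) :=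
        ⟨hp, m, Subtype.ext hm⟩
      rw [hb, Submodule.mem_bot] at this
      simp [this]
  -- the complement
  obtain ⟨C, hC, hCd, hmax⟩ := exists_maximal_disjoint (𝒩 := 𝒬) (L := E)
  letI := quoDec 𝒬 hC
  letI := quoGr_gradedSMul (𝒜 := 𝒜) 𝒬 C
  have hess := isStarEss_mkQ_comp (f := E.subtype) (isGrHom_subtype 𝒬 E) E.injective_subtype hC
    (by rwa [Submodule.range_subtype]) (by simpa [Submodule.range_subtype] using hmax)
  obtain ⟨ψ, hψ, hψE⟩ := starInj_extend hQ hess.grHom hess.injective (isGrHom_subtype 𝒬 E)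
  have hψinj : Function.Injective ψ :=
    isStarEss_injective_of_comp (𝒜 := 𝒜) hess (by rw [hψE]; exact E.injective_subtype)
  have hψS : LinearMap.range ψ ∈ S := by
    refine ⟨isHomogeneous_range _ hψ, fun x hx => ?_, fun P hP hle hne => ?_⟩
    · exact ⟨C.mkQ x, congrArg (fun φ : E →ₗ[R] Q => φ ⟨x, hfE hx⟩) hψE⟩
    · have hPc : (P.comap ψ).IsHomogeneous (quoGr 𝒬 C) := isHomogeneous_comap _ hψ hP
      obtain ⟨p, hp, hp0⟩ := Submodule.exists_mem_ne_zero_of_ne_bot hne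
      obtain ⟨q, hq⟩ := hle hp
      have hne' : P.comap ψ ≠ ⊥ := by
        intro h
        apply hp0
        have hmem : q ∈ P.comap ψ := by rw [Submodule.mem_comap, hq]; exact hp
        rw [h, Submodule.mem_bot] at hmem
        rw [← hq, hmem, map_zero]
      obtain ⟨z, ⟨hz, e, he⟩, hz0⟩ :=
        Submodule.exists_mem_ne_zero_of_ne_bot (hess.essential _ hPc hne')
      have hψz : (e : Q) = ψ z := by rw [← he]; exact (congrArg (fun φ : E →ₗ[R] Q => φ e) hψE).symm
      have hne2 : P ⊓ E ≠ ⊥ := by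
        intro h
        apply hz0
        have hmem : (e : Q) ∈ P ⊓ E := ⟨hψz ▸ hz, e.2⟩
        rw [h, Submodule.mem_bot] at hmem
        exact hψinj (by rw [map_zero, ← hψz, hmem])
      intro h
      exact hEss (P ⊓ E) (isHomogeneous_inf 𝒬 hP hE) inf_le_right hne2
        (eq_bot_iff.2 ((inf_le_inf_right _ inf_le_left).trans h.le))
  have hle : E ≤ LinearMap.range ψ := fun x hx =>
    ⟨C.mkQ x, congrArg (fun φ : E →ₗ[R] Q => φ ⟨x, hx⟩) hψE⟩
  have hrange : ∀ z, ψ z ∈ E := fun z => hEmax.le_of_ge hψS hle ⟨z, rfl⟩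
  refine starInj_of_retract hQ (isGrHom_subtype 𝒬 E) (p := (ψ.codRestrict E hrange) ∘ₗ C.mkQ)
    (fun g x hx => hψ g _ ⟨x, hx, rfl⟩) ?_
  ext e
  exact congrArg (fun φ : E →ₗ[R] Q => φ e) hψE

variable (𝒜 ℳ) in
/-- Every graded module has a *injective envelope. -/
theorem exists_hull : ∃ (E : _root_.GrLC.GMod.{u} 𝒜) (f : M →ₗ[R] E.carrier),
    _root_.GrLC.IsStarInjHull 𝒜 ℳ E.gr f := by
  obtain ⟨X, f, hX, hinj, hf⟩ := exists_starInj_embedding 𝒜 ℳ
  obtain ⟨E, hE, hmem, h⟩ := exists_hull_in 𝒜 ℳ hX hf hinj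
  exact ⟨subGMod 𝒜 X.gr hE, _, h⟩

end Groth.Agent.GrLC
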