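import Groth.Agent.GrLC.Pieces
import Mathlib.RingTheory.GradedAlgebra.Radical
import Mathlib.RingTheory.Ideal.Height
import Mathlib.RingTheory.Ideal.KrullsHeightTheorem

/-!
# Primes and their homogeneous cores in a `ℤ`-graded ring

* `eq_core_of_lt`: strictly between a prime and its core there is no prime;
* `height_le_height_core_add_one`;
* `starLocal_le`, `starLocal_isMaximal`, `height_starLocal_eq_ringKrullDim`.
-/

set_option autoImplicit false
set_option linter.unusedSectionVars false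
universe u

open DirectSum

namespace Groth.Agent.GrLC

variable {R : Type u} [CommRing R]
variable {σ : Type u} [SetLike σ R] [AddSubgroupClass σ R] {𝒜 : ℤ → σ} [GradedRing 𝒜]

section Width

variable {C : Ideal R} (hC : C.IsHomogeneous 𝒜)

/-- All components outside `[lo, lo + n]` lie in `C`. -/
def InWindow (𝒜 : ℤ → σ) [GradedRing 𝒜] (C : Ideal R) (x : R) (lo : ℤ) (n : ℕ) : Prop :=
  ∀ i : ℤ, cpt 𝒜 i x ∉ C → lo ≤ i ∧ i ≤ lo + n

theorem exists_inWindow (C : Ideal R) (x : R) : ∃ lo n, InWindow 𝒜 C x lo n := by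
  classical
  let s := degs 𝒜 x
  refine ⟨-∑ i ∈ s, |i|, (2 * ∑ i ∈ s, |i|).toNat, fun i hi => ?_⟩
  have his : i ∈ s := (mem_degs 𝒜).2 fun h => hi (by rw [h]; exact zero_mem C)
  have hle : |i| ≤ ∑ j ∈ s, |j| :=
    Finset.single_le_sum (f := fun j => |j|) (fun j _ => abs_nonneg j) his
  have h0 : 0 ≤ ∑ j ∈ s, |j| := le_trans (abs_nonneg i) hle
  have h1 := le_abs_self i
  have h2 := neg_le_abs i
  omega

include hC in
theorem mem_iff_forall_cpt {x : R} : x ∈ C ↔ ∀ i, cpt 𝒜 i x ∈ C := by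
  refine ⟨fun h i => (isHomogeneous_iff 𝒜).1 hC x h i, fun h => ?_⟩
  rw [← sum_cpt 𝒜 x]
  exact sum_mem fun i _ => h i

theorem cpt_mul_left {i : ℤ} {r : R} (hr : r ∈ 𝒜 i) (x : R) (j : ℤ) :
    cpt 𝒜 j (r * x) = r * cpt 𝒜 (j - i) x :=
  cpt_smul_left' (𝒜 := 𝒜) 𝒜 hr x j

theorem cpt_mul_window {p q : R} {pl ql : ℤ} {n u : ℕ} (hp : InWindow 𝒜 C p pl n)
    (hq : InWindow 𝒜 C q ql u) (j : ℤ) (hout : j < pl + ql ∨ pl + n + (ql + u) < j) :
    cpt 𝒜 j (p * q) ∈ C := by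
  rw [← sum_cpt 𝒜 p, Finset.sum_mul, map_sum]
  refine sum_mem fun i _ => ?_
  rw [cpt_mul_left (cpt_mem 𝒜 i p) q j]
  by_cases h1 : cpt 𝒜 i p ∈ C
  · exact Ideal.mul_mem_right _ _ h1
  by_cases h2 : cpt 𝒜 (j - i) q ∈ C
  · exact Ideal.mul_mem_left _ _ h2
  have := hp i h1
  have := hq _ h2
  omega

theorem cpt_mul_corner {p q : R} {pl ql : ℤ} {n u : ℕ} (hp : InWindow 𝒜 C p pl n)
    (hq : InWindow 𝒜 C q ql u) (a b : ℤ)
    (hab : (a = pl ∧ b = ql) ∨ (a = pl + n ∧ b = ql + u)) :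
    cpt 𝒜 (a + b) (p * q) - cpt 𝒜 a p * cpt 𝒜 b q ∈ C := by
  classical
  let s := insert a (degs 𝒜 p)
  have hsum : ∑ i ∈ s, cpt 𝒜 i p = p := sum_cpt_of_subset 𝒜 (Finset.subset_insert a _)
  conv => arg 2; arg 1; rw [← hsum, Finset.sum_mul, map_sum]
  rw [← Finset.add_sum_erase s _ (Finset.mem_insert_self a _), cpt_mul_left (cpt_mem 𝒜 a p),
    add_sub_cancel_left a b, add_sub_cancel_left]
  refine sum_mem fun i hi => ?_
  have hia := (Finset.mem_erase.1 hi).1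
  rw [cpt_mul_left (cpt_mem 𝒜 i p)]
  by_cases h1 : cpt 𝒜 i p ∈ C
  · exact Ideal.mul_mem_right _ _ h1
  by_cases h2 : cpt 𝒜 (a + b - i) q ∈ C
  · exact Ideal.mul_mem_left _ _ h2
  have := hp i h1
  have := hq _ h2
  omega

include hC in
theorem exists_exact_window {x : R} (hx : x ∉ C) :
    ∃ lo n, InWindow 𝒜 C x lo n ∧ cpt 𝒜 lo x ∉ C ∧ cpt 𝒜 (lo + n) x ∉ C ∧
      ∀ lo' n', InWindow 𝒜 C x lo' n' → n ≤ n' := by
  classical
  have hex : ∃ n lo, InWindow 𝒜 C x lo n := by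
    obtain ⟨lo, n, h⟩ := exists_inWindow (𝒜 := 𝒜) C x
    exact ⟨n, lo, h⟩
  obtain ⟨lo, hlo⟩ := Nat.find_spec hex
  refine ⟨lo, Nat.find hex, hlo, ?_, ?_, fun lo' n' h => Nat.find_min' hex ⟨lo', h⟩⟩
  · intro hmem
    obtain ⟨i, hi⟩ : ∃ i, cpt 𝒜 i x ∉ C := by
      by_contra hc
      push Not at hc
      exact hx ((mem_iff_forall_cpt hC).2 hc)
    have := hlo i hi
    have hne : i ≠ lo := fun e => hi (e ▸ hmem)
    refine Nat.find_min hex (Nat.sub_lt (by omega) zero_lt_one) ⟨lo + 1, fun j hj => ?_⟩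
    have := hlo j hj
    have : j ≠ lo := fun e => hj (e ▸ hmem)
    omega
  · intro hmem
    obtain ⟨i, hi⟩ : ∃ i, cpt 𝒜 i x ∉ C := by
      by_contra hc
      push Not at hc
      exact hx ((mem_iff_forall_cpt hC).2 hc)
    have := hlo i hi
    have hne : i ≠ lo + Nat.find hex := fun e => hi (e ▸ hmem)
    refine Nat.find_min hex (Nat.sub_lt (by omega) zero_lt_one) ⟨lo, fun j hj => ?_⟩
    have := hlo j hj
    have : j ≠ lo + Nat.find hex := fun e => hj (e ▸ hmem)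
    omega

variable [hCp : C.IsPrime]

include hC in
/-- No prime fits strictly between a homogeneous prime `C` and a prime `P` whose homogeneous
elements lie in `C`. -/
theorem eq_of_homogeneous_le {P Q : Ideal R} [P.IsPrime] [Q.IsPrime] (hCQ : C ≤ Q) (hQP : Q < P)
    (hP : ∀ i, ∀ x ∈ 𝒜 i, x ∈ P → x ∈ C) : Q = C := by
  classical
  by_contra hne
  have hQC : ∃ f ∈ Q, f ∉ C := by
    by_contra hc
    push Not at hc
    exact hne (le_antisymm hc hCQ)
  -- minimal widths in `P` and `Q`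
  have hexP : ∃ n x lo, x ∈ P ∧ x ∉ C ∧ InWindow 𝒜 C x lo n := by
    obtain ⟨f, hf, hfC⟩ := hQC
    obtain ⟨lo, n, h⟩ := exists_inWindow (𝒜 := 𝒜) C f
    exact ⟨n, f, lo, hQP.le hf, hfC, h⟩
  have hexQ : ∃ n x lo, x ∈ Q ∧ x ∉ C ∧ InWindow 𝒜 C x lo n := by
    obtain ⟨f, hf, hfC⟩ := hQC
    obtain ⟨lo, n, h⟩ := exists_inWindow (𝒜 := 𝒜) C f
    exact ⟨n, f, lo, hf, hfC, h⟩
  set u := Nat.find hexP with hu
  obtain ⟨g, gl, hgP, hgC, hgw⟩ := Nat.find_spec hexP
  obtain ⟨gl', u', hgw', hgbot, hgtop, hmin⟩ := exists_exact_window hC hgC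
  have huu : u' = u := le_antisymm (hmin gl u hgw) (Nat.find_min' hexP ⟨g, gl', hgP, hgC, hgw'⟩)
  subst huu
  clear hgw gl
  have hupos : 0 < u := by
    by_contra h0
    have hu0 : u = 0 := by omega
    refine hgbot ((hP gl' _ (cpt_mem 𝒜 gl' g)) ?_)
    have hdiff : g - cpt 𝒜 gl' g ∈ C := by
      refine (mem_iff_forall_cpt hC).2 fun i => ?_
      rw [map_sub]
      by_cases hi : i = gl'
      · rw [hi, cpt_of_mem 𝒜 (cpt_mem 𝒜 gl' g), sub_self]; exact zero_mem _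
      · rw [cpt_of_mem_ne 𝒜 (cpt_mem 𝒜 gl' g) (Ne.symm hi), sub_zero]
        by_contra hiC
        have := hgw' i hiC
        omega
    have h2 := hCQ.trans hQP.le hdiff
    have h3 := P.sub_mem hgP h2
    rwa [sub_sub_cancel] at h3
  -- division by `g`
  have hdiv : ∀ (n : ℕ) (p : R) (lo : ℤ), p ∈ P → InWindow 𝒜 C p lo n →
      ∃ (e : ℤ) (c q : R), c ∈ 𝒜 e ∧ c ∉ C ∧ c * p - q * g ∈ C := by
    intro n
    induction n using Nat.strong_induction_on with
    | _ n ih =>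
      intro p lo hp hw
      by_cases hpC : p ∈ C
      · refine ⟨0, 1, 0, SetLike.one_mem_graded 𝒜, fun h => hCp.ne_top ((Ideal.eq_top_iff_one C).2 h), ?_⟩
        rwa [one_mul, zero_mul, sub_zero]
      have hun : u ≤ n := Nat.find_min' hexP ⟨p, lo, hp, hpC, hw⟩
      set gt := cpt 𝒜 (gl' + u) g with hgt
      set pt := cpt 𝒜 (lo + n) p with hpt
      let p' := gt * p - pt * g
      have hp' : InWindow 𝒜 C p' (gl' + u + lo) (n - 1) := by
        intro i hi
        by_contra hc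
        refine hi ?_
        change cpt 𝒜 i (gt * p - pt * g) ∈ C
        rw [map_sub, cpt_mul_left (cpt_mem 𝒜 _ g), cpt_mul_left (cpt_mem 𝒜 _ p)]
        by_cases htop : i = gl' + u + (lo + n)
        · rw [htop, show gl' + u + (lo + n) - (gl' + u) = lo + n by ring,
            show gl' + u + (lo + n) - (lo + n) = gl' + u by ring, ← hgt, ← hpt, mul_comm, sub_self]
          exact zero_mem _
        refine sub_mem (Ideal.mul_mem_left _ _ ?_) (Ideal.mul_mem_left _ _ ?_)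
        · by_contra h'
          have := hw _ h'
          omega
        · by_contra h'
          have := hgw' _ h'
          omega
      obtain ⟨e, c, q, hc, hcC, hq⟩ := ih (n - 1) (by omega) p' (gl' + u + lo)
        (P.sub_mem (P.mul_mem_left _ hp) (P.mul_mem_left _ hgP)) hp'
      refine ⟨e + (gl' + u), c * gt, q + c * pt, SetLike.mul_mem_graded hc (cpt_mem 𝒜 _ g),
        fun h => (hCp.mem_or_mem h).elim hcC hgtop, ?_⟩
      convert hq using 1
      change c * gt * p - (q + c * pt) * g = c * (gt * p - pt * g) - q * g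
      ring
  have hgQ : g ∉ Q := by
    intro hgQ
    obtain ⟨p, hpP, hpQ⟩ := Set.exists_of_ssubset hQP
    obtain ⟨lo, n, hw⟩ := exists_inWindow (𝒜 := 𝒜) C p
    obtain ⟨e, c, q, hc, hcC, hq⟩ := hdiv n p lo hpP hw
    have : c * p ∈ Q := by
      have := Q.add_mem (hCQ hq) (Q.mul_mem_left q hgQ)
      rwa [sub_add_cancel] at this
    refine ((Ideal.IsPrime.mem_or_mem inferInstance this).elim (fun h => hcC (hP e c hc (hQP.le h))) hpQ)
  obtain ⟨f, fl, hfQ, hfC, hfw⟩ := Nat.find_spec hexQ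
  obtain ⟨e, c, q, hc, hcC, hq⟩ := hdiv _ f fl (hQP.le hfQ) hfw
  have hqQ : q ∈ Q := by
    have h1 := Q.sub_mem (Q.mul_mem_left c hfQ) (hCQ hq)
    rw [sub_sub_cancel] at h1
    exact (Ideal.IsPrime.mem_or_mem inferInstance h1).resolve_right hgQ
  have hqC : q ∉ C := fun hqC => by
    have h1 := C.add_mem hq (C.mul_mem_right g hqC)
    rw [sub_add_cancel] at h1
    exact (hCp.mem_or_mem h1).elim hcC hfC
  obtain ⟨ql, v, hqw, hqbot, hqtop, -⟩ := exists_exact_window hC hqC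
  have hwin : ∀ j, cpt 𝒜 j (q * g) ∉ C → e + fl ≤ j ∧ j ≤ e + fl + Nat.find hexQ := by
    intro j hj
    have h1 : cpt 𝒜 j (c * f) ∉ C := fun h => hj (by
      have h2 := (mem_iff_forall_cpt hC).1 hq j
      rw [map_sub] at h2
      have h3 := C.sub_mem h h2
      rwa [sub_sub_cancel] at h3)
    rw [cpt_mul_left hc] at h1
    have := hfw _ (fun h => h1 (Ideal.mul_mem_left _ _ h))
    omega
  have hb := hwin (ql + gl') fun h => by
    have h2 := C.sub_mem h (cpt_mul_corner hqw hgw' ql gl' (Or.inl ⟨rfl, rfl⟩))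
    rw [sub_sub_cancel] at h2
    exact (hCp.mem_or_mem h2).elim hqbot hgbot
  have ht := hwin (ql + v + (gl' + u)) fun h => by
    have h2 := C.sub_mem h (cpt_mul_corner hqw hgw' (ql + v) (gl' + u) (Or.inr ⟨rfl, rfl⟩))
    rw [sub_sub_cancel] at h2
    exact (hCp.mem_or_mem h2).elim hqtop hgtop
  have := Nat.find_min' hexQ ⟨q, ql, hqQ, hqC, hqw⟩
  omega

end Width

theorem core_mono {P Q : Ideal R} (h : Q ≤ P) :
    (Q.homogeneousCore 𝒜).toIdeal ≤ (P.homogeneousCore 𝒜).toIdeal :=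
  Ideal.span_mono (Set.image_mono (Set.preimage_mono h))

theorem eq_core_of_lt {P Q : Ideal R} [P.IsPrime] [Q.IsPrime] (hQP : Q < P)
    (h : (P.homogeneousCore 𝒜).toIdeal ≤ Q) : Q = (P.homogeneousCore 𝒜).toIdeal := by
  haveI := Ideal.IsPrime.homogeneousCore (𝒜 := 𝒜) (I := P) inferInstance
  exact eq_of_homogeneous_le (P.homogeneousCore 𝒜).isHomogeneous h hQP
    fun i x hx hxP => Ideal.mem_homogeneousCore_of_homogeneous_of_mem ⟨i, hx⟩ hxP

/-- `ht P ≤ ht P* + 1`. -/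
theorem height_le_height_core_add_one [IsNoetherianRing R] (P : Ideal R) [hP : P.IsPrime] :
    P.height ≤ (P.homogeneousCore 𝒜).toIdeal.height + 1 := by
  suffices H : ∀ (n : ℕ) (P : PrimeSpectrum R), P.asIdeal.height ≤ n →
      P.asIdeal.height ≤ (P.asIdeal.homogeneousCore 𝒜).toIdeal.height + 1 by
    obtain ⟨n, hn⟩ := ENat.ne_top_iff_exists.1 (P.height_ne_top hP.ne_top)
    exact H n ⟨P, hP⟩ hn.ge
  intro n
  induction n using Nat.strong_induction_on with
  | _ n ih =>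
    intro P hn
    haveI := P.2
    haveI hCp := Ideal.IsPrime.homogeneousCore (𝒜 := 𝒜) (I := P.asIdeal) inferInstance
    set C := (P.asIdeal.homogeneousCore 𝒜).toIdeal with hC
    obtain ⟨c, hc⟩ := ENat.ne_top_iff_exists.1 (C.height_ne_top hCp.ne_top)
    rw [← hc, show (c : ℕ∞) + 1 = ((c + 1 : ℕ) : ℕ∞) by push_cast; rfl,
      PrimeSpectrum.height_eq_orderHeight, Order.height_le_coe_iff]
    intro Q hQ
    haveI := Q.2
    have hQn := Ideal.height_add_one_le_of_lt_of_isPrime (I := Q.asIdeal) (J := P.asIdeal) hQ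
    haveI hQp := Ideal.IsPrime.homogeneousCore (𝒜 := 𝒜) (I := Q.asIdeal) inferInstance
    rw [← PrimeSpectrum.height_eq_orderHeight]
    rcases eq_or_lt_of_le (core_mono (𝒜 := 𝒜) (le_of_lt hQ : Q.asIdeal ≤ P.asIdeal)) with he | hlt
    · have hQC : Q.asIdeal = C := eq_core_of_lt (𝒜 := 𝒜) hQ
        (he ▸ Ideal.toIdeal_homogeneousCore_le 𝒜 Q.asIdeal)
      rw [hQC, ← hc]
      exact_mod_cast Nat.lt_succ_self c
    · obtain ⟨q, hq⟩ := ENat.ne_top_iff_exists.1 (Q.asIdeal.height_ne_top Q.2.ne_top)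
      have h1 := hQn.trans hn
      rw [← hq] at h1
      have hqn : q < n := by
        have : q + 1 ≤ n := by exact_mod_cast h1
        omega
      have h2 := ih q hqn Q hq.ge
      have h3 := Ideal.height_add_one_le_of_lt_of_isPrime hlt
      rw [← hq] at h2 ⊢
      have h4 : (q : ℕ∞) ≤ c := hc ▸ h2.trans h3
      exact_mod_cast Nat.lt_succ_of_le (ENat.coe_le_coe.1 h4)

section StarLocal

variable [IsNoetherianRing R] (hpos : ∀ n : ℤ, n < 0 → ∀ x ∈ 𝒜 n, x = 0) (m : HomogeneousIdeal 𝒜)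
  (hm : _root_.GrLC.IsStarLocal 𝒜 m)

include hm in
theorem starLocal_le (J : HomogeneousIdeal 𝒜) (hJ : J.toIdeal ≠ ⊤) : J.toIdeal ≤ m.toIdeal := by
  obtain ⟨K, ⟨hJK, hK⟩, hmax⟩ := WellFounded.has_min
    (InvImage.wf (fun K : HomogeneousIdeal 𝒜 => K.toIdeal)
      (wellFounded_gt (α := Ideal R))) {K | J ≤ K ∧ K.toIdeal ≠ ⊤} ⟨J, le_rfl, hJ⟩
  have hco : IsCoatom K := by
    refine ⟨fun h => hK (by rw [h]; rfl), fun L hL => ?_⟩
    by_contra hc
    refine hmax L ⟨hJK.trans hL.le, fun h => hc (HomogeneousIdeal.toIdeal_injective h)⟩ ?_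
    exact lt_of_le_of_ne hL.le fun e => hL.ne (HomogeneousIdeal.toIdeal_injective e)
  exact hm.2 K hco ▸ hJK

include hpos hm in
theorem starLocal_isMaximal : m.toIdeal.IsMaximal := by
  obtain ⟨hirr, h0⟩ := starLocal_spec hpos m hm
  refine Ideal.isMaximal_iff.2 ⟨fun h => hm.1.1 (HomogeneousIdeal.toIdeal_injective
    ((Ideal.eq_top_iff_one _).2 h)), ?_⟩
  intro J x hJ hx hxJ
  have key : ∀ z : R, z - cpt 𝒜 0 z ∈ m.toIdeal := by
    intro z
    refine (mem_iff_forall_cpt m.isHomogeneous).2 fun i => ?_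
    rw [map_sub]
    rcases lt_trichotomy i 0 with hi | rfl | hi
    · rw [hpos i hi _ (cpt_mem 𝒜 i z), cpt_of_mem_ne 𝒜 (cpt_mem 𝒜 0 z) hi.ne', sub_zero]
      exact zero_mem _
    · rw [cpt_of_mem 𝒜 (cpt_mem 𝒜 0 z), sub_self]; exact zero_mem _
    · rw [cpt_of_mem_ne 𝒜 (cpt_mem 𝒜 0 z) hi.ne, sub_zero]
      exact hirr i hi _ (cpt_mem 𝒜 i z)
  obtain ⟨-, hmax⟩ := Ideal.isMaximal_iff.1 h0
  refine hmax (J.comap (_root_.GrLC.deg0 𝒜).subtype) ⟨cpt 𝒜 0 x, cpt_mem 𝒜 0 x⟩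
    (Ideal.comap_mono hJ) (fun h => hx ?_) ?_
  · have h' : cpt 𝒜 0 x ∈ m.toIdeal := h
    have := m.toIdeal.add_mem (key x) h'
    rwa [sub_add_cancel] at this
  · change cpt 𝒜 0 x ∈ J
    have := J.sub_mem hxJ (hJ (key x))
    rwa [sub_sub_cancel] at this

include hpos hm in
theorem height_starLocal_eq_ringKrullDim : (m.toIdeal.height : WithBot ℕ∞) = ringKrullDim R := by
  haveI hmax := starLocal_isMaximal hpos m hm
  refine le_antisymm (Ideal.height_le_ringKrullDim_of_ne_top hmax.ne_top) ?_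
  refine iSup_le fun l => ?_
  have h1 : (l.length : ℕ∞) ≤ l.last.asIdeal.height := by
    rw [PrimeSpectrum.height_eq_orderHeight]
    exact Order.length_le_height (p := l) le_rfl
  refine WithBot.coe_le_coe.2 (h1.trans ?_)
  haveI := l.last.2
  set P := l.last.asIdeal
  haveI hCp := Ideal.IsPrime.homogeneousCore (𝒜 := 𝒜) (I := P) inferInstance
  rcases eq_or_lt_of_le (starLocal_le m hm (P.homogeneousCore 𝒜) hCp.ne_top) with he | hlt
  · have hmP : m.toIdeal ≤ P := he ▸ Ideal.toIdeal_homogeneousCore_le 𝒜 P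
    rw [← hmax.eq_of_le (Ideal.IsPrime.ne_top inferInstance) hmP]
  · exact (height_le_height_core_add_one (𝒜 := 𝒜) P).trans (Ideal.height_add_one_le_of_lt_of_isPrime hlt)

end StarLocal

end Groth.Agent.GrLC
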