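import Groth.Agent.GrLC.GrCoh
import Groth.Agent.GrLC.LocCohTors

/-!
# Graded long exact sequences of local cohomology, degree zero

* `LC.map_mem_gr_deg`, `LC.δ_mem_gr_deg`, `LC.exists_preimage`;
* `LC.exists_map_eq_of_map_eq_zero`, `LC.exists_δ_eq_of_map_eq_zero`, `LC.exists_map_eq_of_δ_eq_zero`;
* `LC.exists_zero_equiv`: `*H^0` is the torsion submodule;
* `LC.zeroToComp`, `LC.gr_zero_eq_bot`;
* `LC.quotient_torsion_equiv`.
-/

set_option autoImplicit false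
set_option linter.unusedSectionVars false
universe u

open DirectSum

namespace Groth.Agent.GrLC.LC

open Groth.Agent.GrLC

variable {ι : Type} [AddCommGroup ι] [DecidableEq ι]
variable {R : Type u} [CommRing R] [IsNoetherianRing R]
variable {σ : Type u} [SetLike σ R] [AddSubgroupClass σ R] {𝒜 : ι → σ} [GradedRing 𝒜]
variable {M : Type u} [AddCommGroup M] [Module R M] {τ : Type u} [SetLike τ M] [AddSubgroupClass τ M]
  {ℳ : ι → τ} [DirectSum.Decomposition ℳ] [SetLike.GradedSMul 𝒜 ℳ]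
variable {N : Type u} [AddCommGroup N] [Module R N] {τ' : Type u} [SetLike τ' N] [AddSubgroupClass τ' N]
  {𝒩 : ι → τ'} [DirectSum.Decomposition 𝒩] [SetLike.GradedSMul 𝒜 𝒩]
variable {P : Type u} [AddCommGroup P] [Module R P] {τ'' : Type u} [SetLike τ'' P]
  [AddSubgroupClass τ'' P] {𝒬 : ι → τ''} [DirectSum.Decomposition 𝒬] [SetLike.GradedSMul 𝒜 𝒬]
variable (a : HomogeneousIdeal 𝒜) (i : ℕ)

theorem map_mem_gr_deg {f : M →ₗ[R] N} {d : ι} (hf : _root_.GrLC.IsGrHomDeg ℳ 𝒩 f d) {g : ι}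
    {x : LocCoh.H a.toIdeal i M} (hx : x ∈ gr ℳ a i g) :
    LocCohElt.map a.toIdeal i f x ∈ gr 𝒩 a i (g + d) := by
  let f' : M →ₗ[R] (shiftGMod 𝒜 𝒩 d).carrier := f
  have hf' : _root_.GrLC.IsGrHom ℳ (shiftGMod 𝒜 𝒩 d).gr f' := fun e m hm => hf e m hm
  have h : LocCohElt.map a.toIdeal i f' x ∈ gr (shiftGMod 𝒜 𝒩 d).gr a i g :=
    map_mem_gr (f := f') a i hf' hx
  exact (SetLike.ext_iff.1 (gr_shift (ℳ := 𝒩) a i d g) _).1 h

theorem δ_mem_gr_deg {f : M →ₗ[R] N} {g : N →ₗ[R] P} (hf : Function.Injective f)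
    (hfg : Function.Exact f g) (hg : Function.Surjective g) {d : ι}
    (hfgr : _root_.GrLC.IsGrHomDeg ℳ 𝒩 f d) (hggr : _root_.GrLC.IsGrHom 𝒩 𝒬 g) {j : ι}
    {x : LocCoh.H a.toIdeal i P} (hx : x ∈ gr 𝒬 a i j) :
    LocCohElt.δ a.toIdeal i hf hfg hg x ∈ gr ℳ a (i + 1) (j - d) := by
  let f' : (shiftGMod 𝒜 ℳ (-d)).carrier →ₗ[R] N := f
  have hf' : _root_.GrLC.IsGrHom (shiftGMod 𝒜 ℳ (-d)).gr 𝒩 f' := fun e m hm => by
    have := hfgr (e + -d) m hm
    rwa [neg_add_cancel_right] at this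
  have h : LocCohElt.δ a.toIdeal i (f := f') hf hfg hg x ∈ gr (shiftGMod 𝒜 ℳ (-d)).gr a (i + 1) j :=
    δ_mem_gr (f := f') a i hf hfg hg hf' hggr hx
  rw [gr_shift, ← sub_eq_add_neg] at h
  exact h

/-- A homogeneous element in the image of a homogeneous map has a homogeneous preimage. -/
theorem exists_preimage {j : ℕ} (F : LocCoh.H a.toIdeal i M →ₗ[R] LocCoh.H a.toIdeal j N) (e : ι)
    (hF : ∀ g, ∀ x ∈ gr ℳ a i g, F x ∈ gr 𝒩 a j (g + e)) {g : ι} {y : LocCoh.H a.toIdeal j N}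
    (hy : y ∈ gr 𝒩 a j (g + e)) (h : y ∈ LinearMap.range F) : ∃ x ∈ gr ℳ a i g, F x = y := by
  letI := dec (ℳ := ℳ) a i
  letI := dec (ℳ := 𝒩) a j
  obtain ⟨x, rfl⟩ := h
  refine ⟨cpt (gr ℳ a i) g x, cpt_mem _ g x, ?_⟩
  rw [map_cptDeg hF, cpt_of_mem (gr 𝒩 a j) hy]

section LES

variable {f : M →ₗ[R] N} {g : N →ₗ[R] P} (hf : Function.Injective f) (hfg : Function.Exact f g)
  (hg : Function.Surjective g) {d : ι}

include hf hfg hg

/-- Exactness at the middle term in degree `j`. -/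
theorem exists_map_eq_of_map_eq_zero (hfgr : _root_.GrLC.IsGrHomDeg ℳ 𝒩 f d) {j : ι}
    {x : LocCoh.H a.toIdeal i N} (hx : x ∈ gr 𝒩 a i j) (h : LocCohElt.map a.toIdeal i g x = 0) :
    ∃ y ∈ gr ℳ a i (j - d), LocCohElt.map a.toIdeal i f y = x := by
  refine exists_preimage a i (LocCohElt.map a.toIdeal i f) d
    (fun _ _ hy => map_mem_gr_deg a i hfgr hy) (by rwa [sub_add_cancel]) ?_
  exact (LocCohElt.exact_map_map a.toIdeal i hf hfg hg x).1 h

/-- Exactness at the quotient term in degree `j`. -/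
theorem exists_map_eq_of_δ_eq_zero (hggr : _root_.GrLC.IsGrHom 𝒩 𝒬 g) {j : ι}
    {x : LocCoh.H a.toIdeal i P} (hx : x ∈ gr 𝒬 a i j)
    (h : LocCohElt.δ a.toIdeal i hf hfg hg x = 0) :
    ∃ y ∈ gr 𝒩 a i j, LocCohElt.map a.toIdeal i g y = x := by
  refine exists_preimage a i (LocCohElt.map a.toIdeal i g) 0
    (fun e y hy => ?_) (by rwa [add_zero]) ?_
  · rw [add_zero]; exact map_mem_gr a i hggr hy
  · exact (LocCohElt.exact_map_δ a.toIdeal i hf hfg hg x).1 h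

/-- Exactness at the sub term in degree `j`. -/
theorem exists_δ_eq_of_map_eq_zero (hfgr : _root_.GrLC.IsGrHomDeg ℳ 𝒩 f d)
    (hggr : _root_.GrLC.IsGrHom 𝒩 𝒬 g) {j : ι} {x : LocCoh.H a.toIdeal (i + 1) M}
    (hx : x ∈ gr ℳ a (i + 1) j) (h : LocCohElt.map a.toIdeal (i + 1) f x = 0) :
    ∃ y ∈ gr 𝒬 a i (j + d), LocCohElt.δ a.toIdeal i hf hfg hg y = x := by
  refine exists_preimage a i (LocCohElt.δ a.toIdeal i hf hfg hg) (-d) (fun e y hy => ?_)
    (by rwa [add_neg_cancel_right]) ?_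
  · rw [← sub_eq_add_neg]; exact δ_mem_gr_deg a i hf hfg hg hfgr hggr hy
  · exact (LocCohElt.exact_δ_map a.toIdeal i hf hfg hg x).1 h

theorem gr_eq_bot_of_exact (hfgr : _root_.GrLC.IsGrHomDeg ℳ 𝒩 f d)
    (hggr : _root_.GrLC.IsGrHom 𝒩 𝒬 g) {j : ι} (h₁ : gr ℳ a i (j - d) = ⊥) (h₂ : gr 𝒬 a i j = ⊥) :
    gr 𝒩 a i j = ⊥ := by
  refine (AddSubgroup.eq_bot_iff_forall _).2 fun x hx => ?_
  obtain ⟨y, hy, rfl⟩ := exists_map_eq_of_map_eq_zero a i hf hfg hg hfgr hx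
    ((AddSubgroup.eq_bot_iff_forall _).1 h₂ _ (map_mem_gr a i hggr hx))
  rw [(AddSubgroup.eq_bot_iff_forall _).1 h₁ y hy, map_zero]

end LES

section Zero

/-- `*H^0` is the torsion submodule, with its degrees. -/
theorem exists_zero_equiv (ℳ : ι → τ) [DirectSum.Decomposition ℳ] [SetLike.GradedSMul 𝒜 ℳ] :
    ∃ e : _root_.GrLC.gam a.toIdeal M ≃ₗ[R] LocCoh.H a.toIdeal 0 M,
      ∀ (g : ι) (m : _root_.GrLC.gam a.toIdeal M), (m : M) ∈ ℳ g ↔ e m ∈ gr ℳ a 0 g := by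
  obtain ⟨E⟩ := exists_res 𝒜 ℳ
  let ψ : _root_.GrLC.gam a.toIdeal M →ₗ[R] E.cocyc a 0 :=
    (E.ε ∘ₗ (_root_.GrLC.gam a.toIdeal M).subtype).codRestrict _ fun m => by
      refine ⟨?_, ?_⟩
      · obtain ⟨n, hn⟩ := m.2
        exact ⟨n, fun r hr => by
          rw [LinearMap.comp_apply, Submodule.subtype_apply, ← map_smul, hn r hr, map_zero]⟩
      · exact E.exact_zero.ge ⟨m.1, rfl⟩
  have hψ : Function.Bijective ψ := by
    refine ⟨fun x y h => Subtype.ext (E.ε_injective (congrArg Subtype.val h)), fun z => ?_⟩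
    obtain ⟨m, hm⟩ : z.1 ∈ LinearMap.range E.ε := E.exact_zero.le z.2.2
    obtain ⟨n, hn⟩ := z.2.1
    refine ⟨⟨m, n, fun r hr => E.ε_injective ?_⟩, Subtype.ext hm⟩
    rw [map_smul, hm, hn r hr, map_zero]
  have hbot : (E.cobdy a 0).comap (E.cocyc a 0).subtype = ⊥ :=
    (Submodule.eq_bot_iff _).2 fun z hz => Subtype.ext hz
  refine ⟨((LinearEquiv.ofBijective ψ hψ).trans (Submodule.quotEquivOfEqBot _ hbot).symm).trans
    (Hequiv E a 0), fun g m => ?_⟩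
  rw [mem_gr_iff a 0 E]
  constructor
  · intro hm
    exact ⟨ψ m, E.ε_grHom g _ hm, rfl⟩
  · rintro ⟨z, hz, he⟩
    have hz' : z = ψ m := (Submodule.quotEquivOfEqBot _ hbot).symm.injective ((Hequiv E a 0).injective he)
    subst hz'
    have hc : E.ε (cpt ℳ g m.1) = E.ε m.1 := by rw [map_cpt E.ε_grHom]; exact cpt_of_mem (E.X 0).gr hz
    rw [← E.ε_injective hc]
    exact cpt_mem ℳ g m.1

/-- The piece of `*H^0` inside the piece of the module. -/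
noncomputable def zeroToComp (ℳ : ι → τ) [DirectSum.Decomposition ℳ] [SetLike.GradedSMul 𝒜 ℳ]
    (g : ι) : comp a 0 ℳ g →ₗ[_root_.GrLC.deg0 𝒜] _root_.GrLC.comp 𝒜 ℳ g where
  toFun x := ⟨((exists_zero_equiv a ℳ).choose.symm x.1).1,
    ((exists_zero_equiv a ℳ).choose_spec g _).2 (by rw [LinearEquiv.apply_symm_apply]; exact x.2)⟩
  map_add' x y := by
    apply Subtype.ext
    have h := congrArg Subtype.val ((exists_zero_equiv a ℳ).choose.symm.map_add x.1 y.1)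
    exact h
  map_smul' r x := by
    apply Subtype.ext
    have h := congrArg Subtype.val ((exists_zero_equiv a ℳ).choose.symm.map_smul (r : R) x.1)
    exact h

theorem zeroToComp_injective (g : ι) : Function.Injective (zeroToComp a ℳ g) := fun _ _ h =>
  Subtype.ext ((exists_zero_equiv a ℳ).choose.symm.injective
    (Subtype.ext (congrArg (fun w : _root_.GrLC.comp 𝒜 ℳ g => (w : M)) h)))

theorem gr_zero_eq_bot {g : ι} (h : ∀ m ∈ ℳ g, m ∈ _root_.GrLC.gam a.toIdeal M → m = 0) :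
    gr ℳ a 0 g = ⊥ := by
  obtain ⟨e, he⟩ := exists_zero_equiv a ℳ
  refine (AddSubgroup.eq_bot_iff_forall _).2 fun x hx => ?_
  obtain ⟨m, rfl⟩ := e.surjective x
  rw [show m = 0 from Subtype.ext (h m.1 ((he g m).2 hx) m.2), map_zero]

theorem exists_mem_gr_zero_ne {g : ι} {m : M} (hm : m ∈ ℳ g)
    (htor : m ∈ _root_.GrLC.gam a.toIdeal M) (hne : m ≠ 0) : gr ℳ a 0 g ≠ ⊥ := by
  obtain ⟨e, he⟩ := exists_zero_equiv a ℳ
  intro h
  have h0 := (AddSubgroup.eq_bot_iff_forall _).1 h _ ((he g ⟨m, htor⟩).1 hm)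
  exact hne (congrArg Subtype.val (e.map_eq_zero_iff.1 h0))

end Zero

end Groth.Agent.GrLC.LC
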