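import Groth.Prelude.Def_GrLC
import Mathlib.LinearAlgebra.Quotient.Basic
import Mathlib.Algebra.DirectSum.Decomposition
import Mathlib.RingTheory.GradedAlgebra.Basic

/-!
# Graded modules: homogeneous components, homogeneous maps and submodules, induced gradings
-/

set_option autoImplicit false
set_option linter.unusedSectionVars false
set_option linter.unusedVariables false
universe u

open DirectSum

namespace Groth.Agent.GrLC

variable {ι : Type} [AddCommGroup ι] [DecidableEq ι]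
variable {R : Type u} [CommRing R]
variable {σ : Type u} [SetLike σ R] [AddSubgroupClass σ R] {𝒜 : ι → σ} [GradedRing 𝒜]

section Comp

variable {M : Type u} [AddCommGroup M] {τ : Type u} [SetLike τ M] [AddSubgroupClass τ M]
  (ℳ : ι → τ) [DirectSum.Decomposition ℳ]

/-- The homogeneous component of degree `g` as an additive map. -/
def cpt (g : ι) : M →+ M where
  toFun m := (decompose ℳ m g : M)
  map_zero' := by simp
  map_add' x y := by simp

theorem cpt_apply (g : ι) (m : M) : cpt ℳ g m = (decompose ℳ m g : M) := rfl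

theorem cpt_mem (g : ι) (m : M) : cpt ℳ g m ∈ ℳ g := (decompose ℳ m g).2

theorem cpt_of_mem {g : ι} {m : M} (h : m ∈ ℳ g) : cpt ℳ g m = m :=
  decompose_of_mem_same ℳ h

theorem cpt_of_mem_ne {g h : ι} {m : M} (hm : m ∈ ℳ g) (hne : g ≠ h) : cpt ℳ h m = 0 :=
  decompose_of_mem_ne ℳ hm hne

theorem cpt_of_mem_ite {g : ι} (h : ι) {m : M} (hm : m ∈ ℳ g) :
    cpt ℳ h m = if g = h then m else 0 := by
  split_ifs with e
  · subst e; exact cpt_of_mem ℳ hm
  · exact cpt_of_mem_ne ℳ hm e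

theorem cpt_cpt (g h : ι) (m : M) : cpt ℳ h (cpt ℳ g m) = if g = h then cpt ℳ g m else 0 :=
  cpt_of_mem_ite ℳ h (cpt_mem ℳ g m)

open Classical in
theorem finite_cpt (m : M) : (Function.support fun g => cpt ℳ g m).Finite :=
  (decompose ℳ m).support.finite_toSet.subset fun g hg => by
    simp only [Function.mem_support, cpt_apply] at hg
    simp only [Finset.mem_coe, DFinsupp.mem_support_toFun]
    intro h; exact hg (by rw [h]; rfl)

open Classical in
/-- The finite set of degrees of nonzero components. -/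
noncomputable def degs (m : M) : Finset ι := (finite_cpt ℳ m).toFinset

theorem mem_degs {m : M} {g : ι} : g ∈ degs ℳ m ↔ cpt ℳ g m ≠ 0 := by
  simp [degs]

theorem sum_cpt (m : M) : ∑ g ∈ degs ℳ m, cpt ℳ g m = m := by
  classical
  have h : degs ℳ m = (decompose ℳ m).support := by
    ext g
    rw [mem_degs, cpt_apply, DFinsupp.mem_support_toFun]
    exact ⟨fun h e => h (by rw [e]; rfl), fun h e => h (Subtype.ext e)⟩
  rw [h]
  exact DirectSum.sum_support_decompose ℳ m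

theorem sum_cpt_of_subset {m : M} {s : Finset ι} (hs : degs ℳ m ⊆ s) :
    ∑ g ∈ s, cpt ℳ g m = m := by
  conv_rhs => rw [← sum_cpt ℳ m]
  refine (Finset.sum_subset hs fun g _ hg => ?_).symm
  simpa [mem_degs] using hg

theorem eq_zero_of_cpt {m : M} (h : ∀ g, cpt ℳ g m = 0) : m = 0 := by
  rw [← sum_cpt ℳ m]; exact Finset.sum_eq_zero fun g _ => h g

theorem ext_cpt {m n : M} (h : ∀ g, cpt ℳ g m = cpt ℳ g n) : m = n := by
  rw [← sub_eq_zero]; exact eq_zero_of_cpt ℳ fun g => by rw [map_sub, h g, sub_self]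

theorem exists_cpt_ne_zero {m : M} (h : m ≠ 0) : ∃ g, cpt ℳ g m ≠ 0 := by
  by_contra hh; push Not at hh; exact h (eq_zero_of_cpt ℳ hh)

/-- Induction on homogeneous elements. -/
theorem homogeneous_induction {p : M → Prop} (zero : p 0) (hom : ∀ (g : ι) (m : M), m ∈ ℳ g → p m)
    (add : ∀ a b, p a → p b → p (a + b)) (m : M) : p m :=
  Decomposition.inductionOn ℳ zero (fun {i} x => hom i x.1 x.2) add m

theorem addMonoidHom_ext {N : Type*} [AddCommGroup N] {f f' : M →+ N}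
    (h : ∀ (g : ι), ∀ m ∈ ℳ g, f m = f' m) : f = f' := by
  ext m
  induction m using homogeneous_induction ℳ with
  | zero => simp
  | hom g m hm => exact h g m hm
  | add a b ha hb => simp [ha, hb]

theorem linearMap_ext [Module R M] {N : Type*} [AddCommGroup N] [Module R N] {f f' : M →ₗ[R] N}
    (h : ∀ (g : ι), ∀ m ∈ ℳ g, f m = f' m) : f = f' := by
  ext m
  exact DFunLike.congr_fun (addMonoidHom_ext ℳ (f := f.toAddMonoidHom) (f' := f'.toAddMonoidHom) h) m

theorem cpt_smul_left [Module R M] [SetLike.GradedSMul 𝒜 ℳ] {i : ι} {r : R} (hr : r ∈ 𝒜 i)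
    (m : M) (j : ι) : cpt ℳ (i + j) (r • m) = r • cpt ℳ j m := by
  induction m using homogeneous_induction ℳ with
  | zero => simp
  | hom g m hm =>
    have h : r • m ∈ ℳ (i + g) := SetLike.GradedSMul.smul_mem (A := 𝒜) (B := ℳ) hr hm
    rw [cpt_of_mem_ite ℳ _ h, cpt_of_mem_ite ℳ _ hm]
    simp only [add_right_inj, smul_ite, smul_zero]
  | add a b ha hb => simp only [smul_add, map_add, ha, hb]

theorem cpt_smul_left' [Module R M] [SetLike.GradedSMul 𝒜 ℳ] {i : ι} {r : R} (hr : r ∈ 𝒜 i)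
    (m : M) (j : ι) : cpt ℳ j (r • m) = r • cpt ℳ (j - i) m := by
  have := cpt_smul_left ℳ hr m (j - i)
  rwa [add_sub_cancel] at this

theorem cpt_smul_right [Module R M] [SetLike.GradedSMul 𝒜 ℳ] {j : ι} {m : M} (hm : m ∈ ℳ j)
    (r : R) (i : ι) : cpt ℳ (i + j) (r • m) = cpt 𝒜 i r • m := by
  induction r using homogeneous_induction 𝒜 with
  | zero => simp
  | hom g r hr =>
    have h : r • m ∈ ℳ (g + j) := SetLike.GradedSMul.smul_mem (A := 𝒜) (B := ℳ) hr hm
    rw [cpt_of_mem_ite ℳ _ h, cpt_of_mem_ite 𝒜 _ hr]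
    simp only [add_left_inj, ite_smul, zero_smul]
  | add a b ha hb => simp only [add_smul, map_add, ha, hb]

theorem cpt_smul_right' [Module R M] [SetLike.GradedSMul 𝒜 ℳ] {j : ι} {m : M} (hm : m ∈ ℳ j)
    (r : R) (i : ι) : cpt ℳ i (r • m) = cpt 𝒜 (i - j) r • m := by
  have := cpt_smul_right (𝒜 := 𝒜) ℳ hm r (i - j)
  rwa [sub_add_cancel] at this

end Comp

section Smul

theorem smul_mem_gr {M : Type u} [AddCommGroup M] [Module R M] {τ : Type u} [SetLike τ M]
    {ℳ : ι → τ} [SetLike.GradedSMul 𝒜 ℳ] {i j : ι} {r : R} {m : M} (hr : r ∈ 𝒜 i) (hm : m ∈ ℳ j) :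
    r • m ∈ ℳ (i + j) :=
  SetLike.GradedSMul.smul_mem (A := 𝒜) (B := ℳ) hr hm

end Smul

section Hom

variable {M : Type u} [AddCommGroup M] [Module R M] {τ : Type u} [SetLike τ M] [AddSubgroupClass τ M]
  {ℳ : ι → τ}
variable {N : Type u} [AddCommGroup N] [Module R N] {τ' : Type u} [SetLike τ' N] [AddSubgroupClass τ' N]
  {𝒩 : ι → τ'}
variable {P : Type u} [AddCommGroup P] [Module R P] {τ'' : Type u} [SetLike τ'' P]
  {𝒬 : ι → τ''}

theorem isGrHom_comp {g : N →ₗ[R] P} {f : M →ₗ[R] N} [AddSubgroupClass τ'' P]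
    (hg : _root_.GrLC.IsGrHom 𝒩 𝒬 g) (hf : _root_.GrLC.IsGrHom ℳ 𝒩 f) :
    _root_.GrLC.IsGrHom ℳ 𝒬 (g ∘ₗ f) :=
  fun d m hm => hg d _ (hf d m hm)

theorem map_cpt [DirectSum.Decomposition ℳ] [DirectSum.Decomposition 𝒩] {f : M →ₗ[R] N}
    (hf : _root_.GrLC.IsGrHom ℳ 𝒩 f) (g : ι) (m : M) : f (cpt ℳ g m) = cpt 𝒩 g (f m) := by
  induction m using homogeneous_induction ℳ with
  | zero => simp
  | hom d m hm => rw [cpt_of_mem_ite ℳ _ hm, cpt_of_mem_ite 𝒩 _ (hf d m hm)]; split_ifs <;> simp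
  | add a b ha hb => simp only [map_add, ha, hb]

theorem map_cptDeg [DirectSum.Decomposition ℳ] [DirectSum.Decomposition 𝒩] {f : M →ₗ[R] N} {e : ι}
    (hf : _root_.GrLC.IsGrHomDeg ℳ 𝒩 f e) (g : ι) (m : M) :
    f (cpt ℳ g m) = cpt 𝒩 (g + e) (f m) := by
  induction m using homogeneous_induction ℳ with
  | zero => simp
  | hom d m hm =>
    rw [cpt_of_mem_ite ℳ _ hm, cpt_of_mem_ite 𝒩 _ (hf d m hm)]
    simp only [add_left_inj]
    split_ifs <;> simp
  | add a b ha hb => simp only [map_add, ha, hb]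

/-- An element whose image is homogeneous has, up to the kernel, a homogeneous preimage. -/
theorem exists_preimage_mem [DirectSum.Decomposition ℳ] [DirectSum.Decomposition 𝒩] {f : M →ₗ[R] N}
    (hf : _root_.GrLC.IsGrHom ℳ 𝒩 f) {g : ι} {y : N} (hy : y ∈ 𝒩 g) (h : y ∈ LinearMap.range f) :
    ∃ m ∈ ℳ g, f m = y := by
  obtain ⟨m, rfl⟩ := h
  exact ⟨cpt ℳ g m, cpt_mem ℳ g m, by rw [map_cpt hf, cpt_of_mem 𝒩 hy]⟩

/-- A bijective homogeneous map has a homogeneous inverse. -/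
theorem isGrHom_symm [DirectSum.Decomposition ℳ] [DirectSum.Decomposition 𝒩] {e : M ≃ₗ[R] N}
    (he : _root_.GrLC.IsGrHom ℳ 𝒩 e.toLinearMap) :
    _root_.GrLC.IsGrHom 𝒩 ℳ e.symm.toLinearMap := by
  intro g y hy
  obtain ⟨m, hm, rfl⟩ := exists_preimage_mem he hy ⟨e.symm y, by simp⟩
  simpa using hm

end Hom

section Sub

variable {M : Type u} [AddCommGroup M] [Module R M] {τ : Type u} [SetLike τ M] [AddSubgroupClass τ M]
  (ℳ : ι → τ) [DirectSum.Decomposition ℳ]

theorem isHomogeneous_iff {P : Submodule R M} :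
    P.IsHomogeneous ℳ ↔ ∀ m ∈ P, ∀ g, cpt ℳ g m ∈ P :=
  ⟨fun h m hm g => h g hm, fun h g m hm => h m hm g⟩

theorem isHomogeneous_top : (⊤ : Submodule R M).IsHomogeneous ℳ :=
  fun _ _ _ => Submodule.mem_top

theorem isHomogeneous_bot : (⊥ : Submodule R M).IsHomogeneous ℳ :=
  fun g m hm => by
    rw [Submodule.mem_bot] at hm ⊢
    subst hm
    simp

theorem isHomogeneous_inf {P Q : Submodule R M} (hP : P.IsHomogeneous ℳ) (hQ : Q.IsHomogeneous ℳ) :
    (P ⊓ Q).IsHomogeneous ℳ :=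
  fun g _ hm => ⟨hP g hm.1, hQ g hm.2⟩

theorem isHomogeneous_iSup {κ : Sort*} {P : κ → Submodule R M} (h : ∀ k, (P k).IsHomogeneous ℳ) :
    (⨆ k, P k).IsHomogeneous ℳ := by
  rw [isHomogeneous_iff]
  intro m hm g
  refine Submodule.iSup_induction P (motive := fun m => cpt ℳ g m ∈ ⨆ k, P k) hm ?_ ?_ ?_
  · exact fun k x hx => Submodule.mem_iSup_of_mem k (h k g hx)
  · simp
  · intro a b ha hb; rw [map_add]; exact add_mem ha hb

theorem isHomogeneous_sup {P Q : Submodule R M} (hP : P.IsHomogeneous ℳ) (hQ : Q.IsHomogeneous ℳ) :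
    (P ⊔ Q).IsHomogeneous ℳ := by
  rw [sup_eq_iSup]
  exact isHomogeneous_iSup ℳ fun b => by cases b <;> assumption

theorem isHomogeneous_sSup {s : Set (Submodule R M)} (h : ∀ P ∈ s, P.IsHomogeneous ℳ) :
    (sSup s).IsHomogeneous ℳ := by
  rw [sSup_eq_iSup']
  exact isHomogeneous_iSup ℳ fun P => h P.1 P.2

theorem isHomogeneous_span [SetLike.GradedSMul 𝒜 ℳ] {s : Set M} (hs : ∀ x ∈ s, ∃ g, x ∈ ℳ g) :
    (Submodule.span R s).IsHomogeneous ℳ := by
  rw [isHomogeneous_iff]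
  intro m hm g
  suffices ∀ d, cpt ℳ d m ∈ Submodule.span R s from this g
  clear g
  induction hm using Submodule.span_induction with
  | mem x hx =>
    intro d
    obtain ⟨g, hg⟩ := hs x hx
    rw [cpt_of_mem_ite ℳ d hg]
    split_ifs
    exacts [Submodule.subset_span hx, zero_mem _]
  | zero => simp
  | add a b _ _ ha hb => intro d; rw [map_add]; exact add_mem (ha d) (hb d)
  | smul r x _ hx =>
    intro d
    induction r using homogeneous_induction 𝒜 with
    | zero => simp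
    | hom i r hr => rw [cpt_smul_left' ℳ hr]; exact Submodule.smul_mem _ _ (hx _)
    | add a b ha hb => rw [add_smul, map_add]; exact add_mem ha hb

theorem eq_bot_of_homogeneous {P : Submodule R M} (hP : P.IsHomogeneous ℳ)
    (h : ∀ g, ∀ x ∈ ℳ g, x ∈ P → x = 0) : P = ⊥ := by
  rw [eq_bot_iff]
  intro x hx
  exact eq_zero_of_cpt ℳ fun g => h g _ (cpt_mem ℳ g x) (hP g hx)

theorem exists_hom_mem_ne_zero {P : Submodule R M} (hP : P.IsHomogeneous ℳ) (hne : P ≠ ⊥) :
    ∃ g, ∃ x ∈ ℳ g, x ∈ P ∧ x ≠ 0 := by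
  by_contra h
  push Not at h
  exact hne (eq_bot_of_homogeneous ℳ hP h)

variable {N : Type u} [AddCommGroup N] [Module R N] {τ' : Type u} [SetLike τ' N] [AddSubgroupClass τ' N]
  {𝒩 : ι → τ'} [DirectSum.Decomposition 𝒩]

theorem isHomogeneous_comap {f : M →ₗ[R] N} (hf : _root_.GrLC.IsGrHom ℳ 𝒩 f) {Q : Submodule R N}
    (hQ : Q.IsHomogeneous 𝒩) : (Q.comap f).IsHomogeneous ℳ := by
  rw [isHomogeneous_iff]
  intro m hm g
  rw [Submodule.mem_comap, map_cpt hf]
  exact hQ g hm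

theorem isHomogeneous_map {f : M →ₗ[R] N} (hf : _root_.GrLC.IsGrHom ℳ 𝒩 f) {P : Submodule R M}
    (hP : P.IsHomogeneous ℳ) : (P.map f).IsHomogeneous 𝒩 := by
  rw [isHomogeneous_iff]
  rintro _ ⟨m, hm, rfl⟩ g
  exact ⟨cpt ℳ g m, hP g hm, map_cpt hf g m⟩

theorem isHomogeneous_ker {f : M →ₗ[R] N} (hf : _root_.GrLC.IsGrHom ℳ 𝒩 f) :
    (LinearMap.ker f).IsHomogeneous ℳ := by
  rw [← Submodule.comap_bot]; exact isHomogeneous_comap ℳ hf (isHomogeneous_bot 𝒩)

theorem isHomogeneous_range {f : M →ₗ[R] N} (hf : _root_.GrLC.IsGrHom ℳ 𝒩 f) :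
    (LinearMap.range f).IsHomogeneous 𝒩 := by
  rw [← Submodule.map_top]; exact isHomogeneous_map ℳ hf (isHomogeneous_top ℳ)

theorem isHomogeneous_kerDeg {f : M →ₗ[R] N} {e : ι} (hf : _root_.GrLC.IsGrHomDeg ℳ 𝒩 f e) :
    (LinearMap.ker f).IsHomogeneous ℳ := by
  rw [isHomogeneous_iff]
  intro m hm g
  rw [LinearMap.mem_ker] at hm ⊢
  rw [map_cptDeg hf, hm, map_zero]

end Sub

section Induced

/-- A family of additive subgroups with orthogonal projections summing to the identity is a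
decomposition. -/
theorem isInternal_of_proj {M : Type u} [AddCommGroup M] (G : ι → AddSubgroup M) (π : ι → M →+ M)
    (hsame : ∀ g, ∀ x ∈ G g, π g x = x) (hne : ∀ g h, ∀ x ∈ G g, g ≠ h → π h x = 0)
    (hspan : ∀ x, x ∈ ⨆ g, G g) : DirectSum.IsInternal G := by
  refine ⟨fun a b hab => ?_, fun x => ?_⟩
  · have key : ∀ (z : ⨁ g, G g) (h : ι), π h (DirectSum.coeAddMonoidHom G z) = (z h : M) := by
      intro z h
      induction z using DirectSum.induction_on with
      | zero => simp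
      | of i y =>
        rw [DirectSum.coeAddMonoidHom_of]
        by_cases e : i = h
        · subst e; rw [DirectSum.of_eq_same]; exact hsame i _ y.2
        · rw [DirectSum.of_eq_of_ne _ _ _ (Ne.symm e), hne i h _ y.2 e]; rfl
      | add z w hz hw => rw [map_add, map_add, hz, hw]; rfl
    refine DFinsupp.ext fun h => Subtype.ext ?_
    rw [← key a h, ← key b h, hab]
  · refine AddSubgroup.iSup_induction G (C := fun x => ∃ z, DirectSum.coeAddMonoidHom G z = x)
      (hspan x) (fun g y hy => ⟨DirectSum.of (fun g => G g) g ⟨y, hy⟩, DirectSum.coeAddMonoidHom_of _ _ _⟩)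
      ⟨0, map_zero _⟩ ?_
    rintro _ _ ⟨a, rfl⟩ ⟨b, rfl⟩
    exact ⟨a + b, map_add _ _ _⟩

variable {M : Type u} [AddCommGroup M] [Module R M] {τ : Type u} [SetLike τ M] [AddSubgroupClass τ M]
  (ℳ : ι → τ)

/-- The pieces of a submodule. -/
def subGr (P : Submodule R M) : ι → AddSubgroup P :=
  fun g => (AddSubgroup.ofClass (ℳ g)).comap P.subtype.toAddMonoidHom

theorem mem_subGr {P : Submodule R M} {g : ι} {x : P} : x ∈ subGr ℳ P g ↔ (x : M) ∈ ℳ g := Iff.rfl

/-- The pieces of a quotient. -/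
def quoGr (P : Submodule R M) : ι → AddSubgroup (M ⧸ P) :=
  fun g => (AddSubgroup.ofClass (ℳ g)).map P.mkQ.toAddMonoidHom

theorem mem_quoGr {P : Submodule R M} {g : ι} {x : M ⧸ P} :
    x ∈ quoGr ℳ P g ↔ ∃ m ∈ ℳ g, P.mkQ m = x := Iff.rfl

variable [DirectSum.Decomposition ℳ]

theorem isInternal_subGr {P : Submodule R M} (hP : P.IsHomogeneous ℳ) :
    DirectSum.IsInternal (subGr ℳ P) := by
  refine isInternal_of_proj _
    (fun g => ((cpt ℳ g).comp P.subtype.toAddMonoidHom).codRestrict P.toAddSubgroup.toAddSubmonoid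
      (fun x => hP g x.2)) ?_ ?_ ?_
  · exact fun g x hx => Subtype.ext (cpt_of_mem ℳ hx)
  · exact fun g h x hx hne => Subtype.ext (cpt_of_mem_ne ℳ hx hne)
  · intro x
    have : x = ∑ g ∈ degs ℳ (x : M), (⟨cpt ℳ g x, hP g x.2⟩ : P) :=
      Subtype.ext (by rw [AddSubmonoidClass.coe_finsetSum]; exact (sum_cpt ℳ _).symm)
    rw [this]
    exact sum_mem fun g _ => AddSubgroup.mem_iSup_of_mem g (cpt_mem ℳ g (x : M))

theorem isInternal_quoGr {P : Submodule R M} (hP : P.IsHomogeneous ℳ) :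
    DirectSum.IsInternal (quoGr ℳ P) := by
  refine isInternal_of_proj _
    (fun g => QuotientAddGroup.lift P.toAddSubgroup (P.mkQ.toAddMonoidHom.comp (cpt ℳ g))
      (fun x hx => (Submodule.Quotient.mk_eq_zero P).2 (hP g hx))) ?_ ?_ ?_
  · rintro g _ ⟨m, hm, rfl⟩
    exact congrArg P.mkQ (cpt_of_mem ℳ hm)
  · rintro g h _ ⟨m, hm, rfl⟩ hne
    exact (congrArg P.mkQ (cpt_of_mem_ne ℳ hm hne)).trans (map_zero _)
  · intro x
    obtain ⟨m, rfl⟩ := P.mkQ_surjective x
    rw [← sum_cpt ℳ m, map_sum]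
    exact sum_mem fun g _ => AddSubgroup.mem_iSup_of_mem g ⟨_, cpt_mem ℳ g m, rfl⟩

/-- The decomposition of a homogeneous submodule. -/
@[instance_reducible]
noncomputable def subDec {P : Submodule R M} (hP : P.IsHomogeneous ℳ) :
    DirectSum.Decomposition (subGr ℳ P) :=
  (isInternal_subGr ℳ hP).chooseDecomposition

/-- The decomposition of a quotient by a homogeneous submodule. -/
@[instance_reducible]
noncomputable def quoDec {P : Submodule R M} (hP : P.IsHomogeneous ℳ) :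
    DirectSum.Decomposition (quoGr ℳ P) :=
  (isInternal_quoGr ℳ hP).chooseDecomposition

theorem subGr_gradedSMul [SetLike.GradedSMul 𝒜 ℳ] (P : Submodule R M) :
    SetLike.GradedSMul 𝒜 (subGr ℳ P) :=
  ⟨fun _ _ _ _ hr hm => smul_mem_gr (ℳ := ℳ) hr hm⟩

theorem quoGr_gradedSMul [SetLike.GradedSMul 𝒜 ℳ] (P : Submodule R M) :
    SetLike.GradedSMul 𝒜 (quoGr ℳ P) :=
  ⟨fun _ _ r _ hr hx => by
    obtain ⟨m, hm, rfl⟩ := hx
    exact ⟨r • m, smul_mem_gr (ℳ := ℳ) hr hm, map_smul P.mkQ r m⟩⟩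

variable (𝒜) in
/-- A homogeneous submodule as a bundled graded module. -/
noncomputable def subGMod [SetLike.GradedSMul 𝒜 ℳ] {P : Submodule R M} (hP : P.IsHomogeneous ℳ) :
    _root_.GrLC.GMod.{u} 𝒜 :=
  { carrier := P, gr := subGr ℳ P, dec := subDec ℳ hP, gsmul := subGr_gradedSMul ℳ P }

variable (𝒜) in
/-- A quotient by a homogeneous submodule as a bundled graded module. -/
noncomputable def quoGMod [SetLike.GradedSMul 𝒜 ℳ] {P : Submodule R M} (hP : P.IsHomogeneous ℳ) :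
    _root_.GrLC.GMod.{u} 𝒜 :=
  { carrier := M ⧸ P, gr := quoGr ℳ P, dec := quoDec ℳ hP, gsmul := quoGr_gradedSMul ℳ P }

variable (𝒜) in
/-- Bundle a graded module given by any family of additive subgroup-like pieces. -/
noncomputable def toGMod [SetLike.GradedSMul 𝒜 ℳ] : _root_.GrLC.GMod.{u} 𝒜 :=
  { carrier := M
    gr := fun g => AddSubgroup.ofClass (ℳ g)
    dec := (isInternal_of_proj (fun g => AddSubgroup.ofClass (ℳ g)) (cpt ℳ)
      (fun _ _ hx => cpt_of_mem ℳ hx) (fun _ _ _ hx hne => cpt_of_mem_ne ℳ hx hne)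
      (fun x => by
        rw [← sum_cpt ℳ x]
        exact sum_mem fun g _ => AddSubgroup.mem_iSup_of_mem g (cpt_mem ℳ g x))).chooseDecomposition
    gsmul := ⟨fun _ _ _ _ hr hm => smul_mem_gr (ℳ := ℳ) hr hm⟩ }

theorem isGrHom_mkQ (P : Submodule R M) :
    _root_.GrLC.IsGrHom ℳ (quoGr ℳ P) P.mkQ :=
  fun _ m hm => ⟨m, hm, rfl⟩

theorem isGrHom_subtype (P : Submodule R M) :
    _root_.GrLC.IsGrHom (subGr ℳ P) ℳ P.subtype :=
  fun _ _ hm => hm

/-- The pieces moved by `d`: the degree-`g` piece of `M(d)` is `M_{g + d}`. -/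
def shiftGr (d : ι) : ι → τ := fun g => ℳ (g + d)

theorem isInternal_shiftGr (d : ι) :
    DirectSum.IsInternal (fun g => AddSubgroup.ofClass (ℳ (g + d))) := by
  refine isInternal_of_proj _ (fun g => cpt ℳ (g + d)) (fun _ _ hx => cpt_of_mem ℳ hx)
    (fun g h x hx hne => cpt_of_mem_ne ℳ hx fun e => hne (add_right_cancel e)) fun x => ?_
  rw [← sum_cpt ℳ x]
  refine sum_mem fun g _ => AddSubgroup.mem_iSup_of_mem (g - d) ?_
  change cpt ℳ g x ∈ ℳ (g - d + d)
  rw [sub_add_cancel]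
  exact cpt_mem ℳ g x

variable (𝒜) in
/-- A shifted graded module, bundled. -/
noncomputable def shiftGMod [SetLike.GradedSMul 𝒜 ℳ] (d : ι) : _root_.GrLC.GMod.{u} 𝒜 :=
  { carrier := M
    gr := fun g => AddSubgroup.ofClass (ℳ (g + d))
    dec := (isInternal_shiftGr ℳ d).chooseDecomposition
    gsmul := ⟨fun i j r m hr hm => by
      change r • m ∈ ℳ (i + j + d)
      rw [add_assoc]
      exact smul_mem_gr (ℳ := ℳ) hr hm⟩ }

end Induced

end Groth.Agent.GrLC
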