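import Groth.Agent.GrLC.GrCohExact
import Mathlib.LinearAlgebra.Prod

/-!
# Diagonal vanishing propagates (Mumford's lemma)

If `I` is generated by elements of degree one and `H^i_I(M)_{r+1-i} = 0` for all `i ≥ l ≥ 1`, then
`H^i_I(M)_{s-i} = 0` for all `i ≥ l`, `s > r`.  The proof runs along the Koszul complex of the
generators, built as an iterated cone.
-/

set_option autoImplicit false
set_option linter.unusedSectionVars false
set_option linter.style.haveILetI false
universe u

open DirectSum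

namespace Groth.Agent.GrLC

variable {R : Type u} [CommRing R]
variable {σ : Type u} [SetLike σ R] [AddSubgroupClass σ R] {𝒜 : ℤ → σ} [GradedRing 𝒜]

variable (𝒜) in
/-- The zero graded module. -/
noncomputable def zeroGMod : _root_.GrLC.GMod.{u} 𝒜 :=
  { carrier := PUnit.{u + 1}
    gr := fun _ => ⊥
    dec := (isInternal_of_proj (M := PUnit.{u + 1}) (fun _ : ℤ => ⊥) (fun _ => 0)
      (fun _ x _ => Subsingleton.elim _ x) (fun _ _ x _ _ => Subsingleton.elim _ _)
      (fun x => by rw [Subsingleton.elim x 0]; exact zero_mem _)).chooseDecomposition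
    gsmul := ⟨fun _ _ _ _ _ _ => Subsingleton.elim _ _⟩ }

/-- The product of two graded modules. -/
noncomputable def prodGMod (X Y : _root_.GrLC.GMod.{u} 𝒜) : _root_.GrLC.GMod.{u} 𝒜 :=
  { carrier := X.carrier × Y.carrier
    gr := fun g => (X.gr g).prod (Y.gr g)
    dec := (isInternal_of_proj (fun g => (X.gr g).prod (Y.gr g))
      (fun g => (cpt X.gr g).prodMap (cpt Y.gr g))
      (fun _ _ hx => Prod.ext (cpt_of_mem X.gr hx.1) (cpt_of_mem Y.gr hx.2))
      (fun _ _ _ hx hne => Prod.ext (cpt_of_mem_ne X.gr hx.1 hne) (cpt_of_mem_ne Y.gr hx.2 hne))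
      (fun x => by
        rw [show x = (x.1, 0) + (0, x.2) by simp]
        refine add_mem ?_ ?_
        · induction x.1 using homogeneous_induction X.gr with
          | zero => exact zero_mem _
          | hom g m hm => exact AddSubgroup.mem_iSup_of_mem g ⟨hm, zero_mem _⟩
          | add u v hu hv =>
            rw [show ((u + v, 0) : X.carrier × Y.carrier) = (u, 0) + (v, 0) by simp]
            exact add_mem hu hv
        · induction x.2 using homogeneous_induction Y.gr with
          | zero => exact zero_mem _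
          | hom g m hm => exact AddSubgroup.mem_iSup_of_mem g ⟨zero_mem _, hm⟩
          | add u v hu hv =>
            rw [show ((0, u + v) : X.carrier × Y.carrier) = (0, u) + (0, v) by simp]
            exact add_mem hu hv)).chooseDecomposition
    gsmul := ⟨fun _ _ _ _ hr hx =>
      ⟨smul_mem_gr (ℳ := X.gr) hr hx.1, smul_mem_gr (ℳ := Y.gr) hr hx.2⟩⟩ }

/-- The product of a graded module with a second one placed one degree up. -/
noncomputable def prodShift (X Y : _root_.GrLC.GMod.{u} 𝒜) : _root_.GrLC.GMod.{u} 𝒜 :=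
  { carrier := X.carrier × Y.carrier
    gr := fun g => (X.gr g).prod (Y.gr (g + -1))
    dec := (prodGMod X (shiftGMod 𝒜 Y.gr (-1))).dec
    gsmul := (prodGMod X (shiftGMod 𝒜 Y.gr (-1))).gsmul }

variable [IsNoetherianRing R] (a : HomogeneousIdeal 𝒜)

theorem gr_prod_eq_bot (X Y : _root_.GrLC.GMod.{u} 𝒜) {i : ℕ} {n : ℤ}
    (hX : LC.gr X.gr a i n = ⊥) (hY : LC.gr Y.gr a i n = ⊥) :
    LC.gr (prodGMod X Y).gr a i n = ⊥ := by
  let f : X.carrier →ₗ[R] (prodGMod X Y).carrier := LinearMap.inl R X.carrier Y.carrier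
  let g : (prodGMod X Y).carrier →ₗ[R] Y.carrier := LinearMap.snd R X.carrier Y.carrier
  have hf : _root_.GrLC.IsGrHomDeg X.gr (prodGMod X Y).gr f 0 := fun j m hm => by
    rw [add_zero]; exact ⟨hm, zero_mem _⟩
  have hg : _root_.GrLC.IsGrHom (prodGMod X Y).gr Y.gr g := fun j m hm => hm.2
  exact LC.gr_eq_bot_of_exact a i (f := f) (g := g) LinearMap.inl_injective
    (LinearMap.exact_iff.2 (LinearMap.range_inl R _ _).symm) LinearMap.snd_surjective hf hg
    (by rwa [sub_zero]) hY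

theorem gr_prodShift_eq_bot (X Y : _root_.GrLC.GMod.{u} 𝒜) {i : ℕ} {n : ℤ}
    (hX : LC.gr X.gr a i n = ⊥) (hY : LC.gr Y.gr a i (n + -1) = ⊥) :
    LC.gr (prodShift X Y).gr a i n = ⊥ :=
  gr_prod_eq_bot a X (shiftGMod 𝒜 Y.gr (-1)) hX ((LC.gr_shift (ℳ := Y.gr) a i (-1) n).trans hY)

theorem gr_zero_eq_bot' (X : _root_.GrLC.GMod.{u} 𝒜) [Subsingleton X.carrier] (i : ℕ) (n : ℤ) :
    LC.gr X.gr a i n = ⊥ := by
  rcases i with - | i
  · exact LC.gr_zero_eq_bot a fun m _ _ => Subsingleton.elim _ _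
  · haveI := LocCohElt.subsingleton_of_powerTorsion a.toIdeal i X.carrier
      fun x => ⟨0, fun r _ => Subsingleton.elim _ _⟩
    exact (AddSubgroup.eq_bot_iff_forall _).2 fun y _ => Subsingleton.elim y 0

theorem gr_subGMod_congr (X : _root_.GrLC.GMod.{u} 𝒜) {p p' : Submodule R X.carrier} (e : p = p')
    (hp : p.IsHomogeneous X.gr) (hp' : p'.IsHomogeneous X.gr) {i : ℕ} {n : ℤ}
    (h : LC.gr (subGMod 𝒜 X.gr hp').gr a i n = ⊥) : LC.gr (subGMod 𝒜 X.gr hp).gr a i n = ⊥ := by
  subst e; exact h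

theorem gr_eq_bot_congr {A B : _root_.GrLC.GMod.{u} 𝒜} (e : A = B) {i : ℕ} {n : ℤ}
    (h : LC.gr B.gr a i n = ⊥) : LC.gr A.gr a i n = ⊥ := by
  subst e; exact h

/-- A Koszul-type complex on degree-one elements. -/
structure KoszulLike (zs : List R) (X : _root_.GrLC.GMod.{u} 𝒜) : Type (u + 1) where
  /-- terms -/
  C : ℕ → _root_.GrLC.GMod.{u} 𝒜
  /-- differentials -/
  d : ∀ j, (C (j + 1)).carrier →ₗ[R] (C j).carrier
  d_grHom : ∀ j, _root_.GrLC.IsGrHom (C (j + 1)).gr (C j).gr (d j)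
  d_d : ∀ j y, d j (d (j + 1) y) = 0
  homotopy : ∀ z ∈ zs, ∃ h : ∀ j, (C j).carrier →ₗ[R] (C (j + 1)).carrier,
    (∀ y, d 0 (h 0 y) = z • y) ∧ ∀ j y, d (j + 1) (h (j + 1) y) + h j (d j y) = z • y
  van : ∀ (j i : ℕ) (n : ℤ), LC.gr X.gr a i (n - j) = ⊥ → LC.gr (C j).gr a i n = ⊥
  back : ∀ (i : ℕ) (n : ℤ), LC.gr (C 0).gr a i n = ⊥ → LC.gr X.gr a i n = ⊥
  len : ∀ j, zs.length < j → Subsingleton (C j).carrier

section Cone

variable {zs : List R} {X : _root_.GrLC.GMod.{u} 𝒜} (K : KoszulLike a zs X) {z : R} (hz : z ∈ 𝒜 1)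

/-- The terms of the cone. -/
noncomputable def coneC : ℕ → _root_.GrLC.GMod.{u} 𝒜
  | 0 => K.C 0
  | j + 1 => prodShift (K.C (j + 1)) (K.C j)

/-- The differentials of the cone. -/
noncomputable def coneD (z : R) : ∀ j, (coneC a K (j + 1)).carrier →ₗ[R] (coneC a K j).carrier
  | 0 => (K.d 0).coprod (z • LinearMap.id)
  | j + 1 =>
    (((K.d (j + 1)).coprod (z • LinearMap.id) :
      (K.C (j + 1 + 1)).carrier × (K.C (j + 1)).carrier →ₗ[R] (K.C (j + 1)).carrier).prod
      ((-(K.d j)).comp (LinearMap.snd R (K.C (j + 1 + 1)).carrier (K.C (j + 1)).carrier)) :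
      (K.C (j + 1 + 1)).carrier × (K.C (j + 1)).carrier →ₗ[R]
        (K.C (j + 1)).carrier × (K.C j).carrier)

include hz in
theorem coneD_grHom : ∀ j, _root_.GrLC.IsGrHom (coneC a K (j + 1)).gr (coneC a K j).gr (coneD a K z j)
  | 0 => fun g m hm => by
    have h2 := smul_mem_gr (ℳ := (K.C 0).gr) hz hm.2
    rw [show 1 + (g + -1) = g by ring] at h2
    exact add_mem (K.d_grHom 0 g _ hm.1) h2
  | j + 1 => fun g m hm => by
    have h2 := smul_mem_gr (ℳ := (K.C (j + 1)).gr) hz hm.2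
    rw [show 1 + (g + -1) = g by ring] at h2
    exact ⟨add_mem (K.d_grHom (j + 1) g _ hm.1) h2,
      AddSubgroup.neg_mem ((K.C j).gr (g + -1)) (K.d_grHom j (g + -1) _ hm.2)⟩

theorem coneD_coneD : ∀ j y, coneD a K z j (coneD a K z (j + 1) y) = 0
  | 0, (y₁, y₂) => by
    change K.d 0 (K.d 1 y₁ + z • y₂) + z • -(K.d 0 y₂) = 0
    rw [map_add, K.d_d 0, map_smul, zero_add, smul_neg, add_neg_cancel]
  | j + 1, (y₁, y₂) => by
    refine Prod.ext ?_ ?_
    · change K.d (j + 1) (K.d (j + 1 + 1) y₁ + z • y₂) + z • -(K.d (j + 1) y₂) = 0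
      rw [map_add, K.d_d (j + 1), map_smul, zero_add, smul_neg, add_neg_cancel]
    · change -(K.d j (-(K.d (j + 1) y₂))) = 0
      rw [map_neg, K.d_d j, neg_zero, neg_zero]

theorem cone_homotopy_self : ∃ h : ∀ j, (coneC a K j).carrier →ₗ[R] (coneC a K (j + 1)).carrier,
    (∀ y, coneD a K z 0 (h 0 y) = z • y) ∧
      ∀ j y, coneD a K z (j + 1) (h (j + 1) y) + h j (coneD a K z j y) = z • y := by
  refine ⟨fun j => match j with
    | 0 => LinearMap.inr R (K.C 1).carrier (K.C 0).carrier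
    | j + 1 => (LinearMap.inr R (K.C (j + 1 + 1)).carrier (K.C (j + 1)).carrier).comp
        (LinearMap.fst R (K.C (j + 1)).carrier (K.C j).carrier), fun (y : (K.C 0).carrier) => ?_,
    fun j y => ?_⟩
  · change K.d 0 0 + z • y = z • y
    rw [map_zero, zero_add]
  · rcases j with - | j
    · obtain ⟨y₁, y₂⟩ := y
      refine Prod.ext ?_ ?_
      · change K.d 1 0 + z • y₁ + 0 = z • y₁
        rw [map_zero, zero_add, add_zero]
      · change -(K.d 0 y₁) + (K.d 0 y₁ + z • y₂) = z • y₂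
        abel
    · obtain ⟨y₁, y₂⟩ := y
      refine Prod.ext ?_ ?_
      · change K.d (j + 1 + 1) 0 + z • y₁ + 0 = z • y₁
        rw [map_zero, zero_add, add_zero]
      · change -(K.d (j + 1) y₁) + (K.d (j + 1) y₁ + z • y₂) = z • y₂
        abel

theorem cone_homotopy_of {w : R} (hw : w ∈ zs) :
    ∃ h : ∀ j, (coneC a K j).carrier →ₗ[R] (coneC a K (j + 1)).carrier,
    (∀ y, coneD a K z 0 (h 0 y) = w • y) ∧
      ∀ j y, coneD a K z (j + 1) (h (j + 1) y) + h j (coneD a K z j y) = w • y := by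
  obtain ⟨h, h0, hs⟩ := K.homotopy w hw
  refine ⟨fun j => match j with
    | 0 => (LinearMap.inl R (K.C 1).carrier (K.C 0).carrier).comp (h 0)
    | j + 1 => LinearMap.prodMap (h (j + 1)) (-(h j)), fun (y : (K.C 0).carrier) => ?_,
    fun j y => ?_⟩
  · change K.d 0 (h 0 y) + z • (0 : (K.C 0).carrier) = w • y
    rw [smul_zero, add_zero, h0]
  · rcases j with - | j
    · obtain ⟨y₁, y₂⟩ := y
      refine Prod.ext ?_ ?_
      · change K.d 1 (h 1 y₁) + z • -(h 0 y₂) + h 0 (K.d 0 y₁ + z • y₂) = w • y₁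
        rw [map_add, map_smul, smul_neg, ← hs 0 y₁]; abel
      · change -(K.d 0 (-(h 0 y₂))) + 0 = w • y₂
        rw [map_neg, neg_neg, add_zero, h0]
    · obtain ⟨y₁, y₂⟩ := y
      refine Prod.ext ?_ ?_
      · change K.d (j + 1 + 1) (h (j + 1 + 1) y₁) + z • -(h (j + 1) y₂) +
          h (j + 1) (K.d (j + 1) y₁ + z • y₂) = w • y₁
        rw [map_add, map_smul, smul_neg, ← hs (j + 1) y₁]; abel
      · change -(K.d (j + 1) (-(h (j + 1) y₂))) + -(h j (-(K.d j y₂))) = w • y₂
        rw [map_neg, map_neg, neg_neg, neg_neg, hs j y₂]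

/-- The cone on multiplication by a degree-one element. -/
noncomputable def cone : KoszulLike a (z :: zs) X where
  C := coneC a K
  d := coneD a K z
  d_grHom := coneD_grHom a K hz
  d_d := coneD_coneD a K
  homotopy w hw := by
    rcases List.mem_cons.1 hw with rfl | hw
    · exact cone_homotopy_self a K
    · exact cone_homotopy_of a K hw
  van j i n h := by
    rcases j with - | j
    · exact gr_eq_bot_congr a (A := coneC a K 0) (B := K.C 0) rfl (K.van 0 i n h)
    · exact gr_eq_bot_congr a (A := coneC a K (j + 1)) (B := prodShift (K.C (j + 1)) (K.C j)) rfl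
        (gr_prodShift_eq_bot a (K.C (j + 1)) (K.C j) (K.van (j + 1) i n h)
          (K.van j i (n + -1) (by rw [← h]; congr 1; push_cast; ring)))
  back i n h := K.back i n (gr_eq_bot_congr a (A := K.C 0) (B := coneC a K 0) rfl h)
  len j hj := by
    rcases j with - | j
    · simp at hj
    · rw [List.length_cons] at hj
      haveI := K.len (j + 1) (by omega)
      haveI := K.len j (by omega)
      exact inferInstanceAs (Subsingleton ((K.C (j + 1)).carrier × (K.C j).carrier))

end Cone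

theorem exists_koszulLike (zs : List R) (hzs : ∀ z ∈ zs, z ∈ 𝒜 1) (X : _root_.GrLC.GMod.{u} 𝒜) :
    Nonempty (KoszulLike a zs X) := by
  induction zs with
  | nil =>
    exact ⟨{
      C := fun j => match j with | 0 => X | _ + 1 => zeroGMod 𝒜
      d := fun _ => 0
      d_grHom := fun _ _ _ _ => zero_mem _
      d_d := fun _ _ => rfl
      homotopy := fun z hz => absurd hz List.not_mem_nil
      van := fun j i n h => by
        rcases j with - | j
        · simpa using h
        · haveI : Subsingleton (zeroGMod 𝒜).carrier := inferInstanceAs (Subsingleton PUnit)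
          exact gr_zero_eq_bot' a (zeroGMod 𝒜) i n
      back := fun _ _ h => h
      len := fun j hj => by
        rcases j with - | j
        · simp at hj
        · exact inferInstanceAs (Subsingleton PUnit) }⟩
  | cons z zs ih =>
    obtain ⟨K⟩ := ih fun w hw => hzs w (List.mem_cons_of_mem _ hw)
    exact ⟨cone a K (hzs z List.mem_cons_self)⟩

/-- Vanishing passes to the target of a map with torsion cokernel. -/
theorem gr_eq_bot_of_torsion_coker {A B : _root_.GrLC.GMod.{u} 𝒜} {f : A.carrier →ₗ[R] B.carrier}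
    (hf : _root_.GrLC.IsGrHom A.gr B.gr f)
    (hcok : ∀ b, ∀ r ∈ a.toIdeal, r • b ∈ LinearMap.range f) {q : ℕ} {n : ℤ}
    (hA : LC.gr A.gr a (q + 1) n = ⊥)
    (hker : LC.gr (subGMod 𝒜 A.gr (isHomogeneous_ker (𝒩 := B.gr) A.gr hf)).gr a (q + 1 + 1) n = ⊥) :
    LC.gr B.gr a (q + 1) n = ⊥ := by
  have hr := isHomogeneous_range (𝒩 := B.gr) A.gr hf
  let Bs := subGMod 𝒜 B.gr hr
  let Q := quoGMod 𝒜 B.gr hr
  let Ks := subGMod 𝒜 A.gr (isHomogeneous_ker (𝒩 := B.gr) A.gr hf)
  let f' : A.carrier →ₗ[R] Bs.carrier := f.rangeRestrict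
  let i' : Ks.carrier →ₗ[R] A.carrier := (LinearMap.ker f).subtype
  have hBs : LC.gr Bs.gr a (q + 1) n = ⊥ := by
    refine (AddSubgroup.eq_bot_iff_forall _).2 fun x hx => ?_
    have hi : _root_.GrLC.IsGrHom Ks.gr A.gr i' := isGrHom_subtype _ _
    have hf' : _root_.GrLC.IsGrHom A.gr Bs.gr f' := fun g m hm => hf g m hm
    have hinj : Function.Injective i' := Submodule.injective_subtype _
    have hex : Function.Exact i' f' := by
      intro y
      constructor
      · intro hy; exact ⟨⟨y, congrArg Subtype.val hy⟩, rfl⟩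
      · rintro ⟨y, rfl⟩; exact Subtype.ext y.2
    have hsurj : Function.Surjective f' := f.surjective_rangeRestrict
    obtain ⟨y, hy, rfl⟩ := LC.exists_map_eq_of_δ_eq_zero a (q + 1) hinj hex hsurj hf' hx
      ((AddSubgroup.eq_bot_iff_forall _).1 hker _
        (LC.δ_mem_gr a (q + 1) hinj hex hsurj hi hf' hx))
    rw [(AddSubgroup.eq_bot_iff_forall _).1 hA y hy, map_zero]
  have hQ : LC.gr Q.gr a (q + 1) n = ⊥ := by
    haveI : Subsingleton (LocCoh.H a.toIdeal (q + 1) Q.carrier) :=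
      LocCohElt.subsingleton_of_powerTorsion a.toIdeal q Q.carrier fun x => ⟨1, fun r hr => by
        obtain ⟨b, rfl⟩ := Submodule.mkQ_surjective (LinearMap.range f) x
        rw [pow_one] at hr
        exact ((map_smul (LinearMap.range f).mkQ r b).symm).trans
          ((Submodule.Quotient.mk_eq_zero _).2 (hcok b r hr))⟩
    exact (AddSubgroup.eq_bot_iff_forall _).2 fun y _ => Subsingleton.elim y 0
  let j' : Bs.carrier →ₗ[R] B.carrier := (LinearMap.range f).subtype
  let g' : B.carrier →ₗ[R] Q.carrier := (LinearMap.range f).mkQ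
  have hj : _root_.GrLC.IsGrHomDeg Bs.gr B.gr j' 0 := fun g m hm => by
    rw [add_zero]; exact hm
  have hg : _root_.GrLC.IsGrHom B.gr Q.gr g' := isGrHom_mkQ _ _
  exact LC.gr_eq_bot_of_exact a (q + 1) (f := j') (g := g') (Submodule.injective_subtype _)
    (LinearMap.exact_subtype_mkQ _) (Submodule.mkQ_surjective _) hj hg
    (by rwa [sub_zero]) hQ

theorem gr_diag_succ {zs : List R} (hzs : ∀ z ∈ zs, z ∈ 𝒜 1) (hspan : a.toIdeal = Ideal.ofList zs)
    (X : _root_.GrLC.GMod.{u} 𝒜) {r : ℤ} {l : ℕ}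
    (hvan : ∀ i : ℕ, l ≤ i → LC.gr X.gr a i (r + 1 - i) = ⊥) (q : ℕ) (hq : l ≤ q + 1) :
    LC.gr X.gr a (q + 1) (r + 1 + 1 - (q + 1 : ℕ)) = ⊥ := by
  obtain ⟨K⟩ := exists_koszulLike a zs hzs X
  set N : ℤ := r + 1 + 1 - (q + 1 : ℕ) with hN
  have hcyc : ∀ (j : ℕ) (y : (K.C (j + 1)).carrier), K.d j y = 0 → ∀ w ∈ a.toIdeal,
      w • y ∈ LinearMap.range (K.d (j + 1)) := by
    intro j y hy w hw
    rw [hspan] at hw
    induction hw using Submodule.span_induction with
    | mem w hw =>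
      obtain ⟨h, -, hs⟩ := K.homotopy w hw
      exact ⟨h (j + 1) y, by rw [← hs j y, hy, map_zero, add_zero]⟩
    | zero => rw [zero_smul]; exact zero_mem _
    | add u v _ _ hu hv => rw [add_smul]; exact add_mem hu hv
    | smul c u _ hu => rw [smul_eq_mul, mul_smul]; exact Submodule.smul_mem _ c hu
  have hG : ∀ (t j : ℕ), zs.length ≤ j + t →
      LC.gr (subGMod 𝒜 (K.C (j + 1)).gr
        (isHomogeneous_ker (𝒩 := (K.C j).gr) _ (K.d_grHom j))).gr a (q + 1 + j + 1) N = ⊥ := by
    intro t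
    induction t with
    | zero =>
      intro j hj
      haveI := K.len (j + 1) (by omega)
      haveI : Subsingleton (subGMod 𝒜 (K.C (j + 1)).gr
          (isHomogeneous_ker (𝒩 := (K.C j).gr) _ (K.d_grHom j))).carrier :=
        inferInstanceAs (Subsingleton (LinearMap.ker (K.d j)))
      exact gr_zero_eq_bot' a _ _ _
    | succ t ih =>
      intro j hj
      let Z := subGMod 𝒜 (K.C (j + 1)).gr (isHomogeneous_ker (𝒩 := (K.C j).gr) _ (K.d_grHom j))
      let f : (K.C (j + 1 + 1)).carrier →ₗ[R] Z.carrier :=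
        (K.d (j + 1)).codRestrict (LinearMap.ker (K.d j)) fun y => K.d_d j y
      have hf : _root_.GrLC.IsGrHom (K.C (j + 1 + 1)).gr Z.gr f := fun g m hm => K.d_grHom (j + 1) g m hm
      have hker : LinearMap.ker f = LinearMap.ker (K.d (j + 1)) := LinearMap.ker_codRestrict _ _ _
      refine gr_eq_bot_of_torsion_coker a hf (fun b w hw => ?_) (q := q + 1 + j)
        (K.van (j + 1 + 1) _ N ?_) ?_
      · obtain ⟨y, hy⟩ := hcyc j b.1 b.2 w hw
        exact ⟨y, Subtype.ext hy⟩
      · rw [← hvan (q + 1 + j + 1) (by omega)]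
        congr 1
        rw [hN]; push_cast; ring
      · have h := ih (j + 1) (by omega)
        have e : q + 1 + j + 1 + 1 = q + 1 + (j + 1) + 1 := by omega
        rw [e]
        exact gr_subGMod_congr a (K.C (j + 1 + 1)) hker _ _ h
  refine K.back _ _ (gr_eq_bot_of_torsion_coker a (K.d_grHom 0) (fun b w hw => ?_) (q := q)
    (K.van 1 _ N ?_) (hG zs.length 0 (by omega)))
  · rw [hspan] at hw
    induction hw using Submodule.span_induction with
    | mem w hw =>
      obtain ⟨h, h0, -⟩ := K.homotopy w hw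
      exact ⟨h 0 b, h0 b⟩
    | zero => rw [zero_smul]; exact zero_mem _
    | add u v _ _ hu hv => rw [add_smul]; exact add_mem hu hv
    | smul c u _ hu => rw [smul_eq_mul, mul_smul]; exact Submodule.smul_mem _ c hu
  · rw [← hvan (q + 1) hq]
    congr 1
    rw [hN]; push_cast; ring

/-- Mumford's lemma for graded local cohomology. -/
theorem gr_eq_bot_of_diag (hlin : a.toIdeal = Ideal.span ((𝒜 1 : σ) : Set R))
    (X : _root_.GrLC.GMod.{u} 𝒜) {r : ℤ} {l : ℕ} (hl : 1 ≤ l)
    (hvan : ∀ i : ℕ, l ≤ i → LC.gr X.gr a i (r + 1 - i) = ⊥) (i : ℕ) (hi : l ≤ i) (s : ℤ) (hs : r < s) :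
    LC.gr X.gr a i (s - i) = ⊥ := by
  obtain ⟨t, hts, ht⟩ := (Submodule.fg_span_iff_fg_span_finset_subset (R := R) ((𝒜 1 : σ) : Set R)).1
    (IsNoetherian.noetherian _)
  have hspan : a.toIdeal = Ideal.ofList t.toList := by
    rw [hlin, Ideal.ofList]
    refine Eq.trans ht ?_
    congr 1
    ext x
    simp
  have hzs : ∀ z ∈ t.toList, z ∈ 𝒜 1 := fun z hz => hts (Finset.mem_toList.1 hz)
  have key : ∀ m : ℕ, ∀ i : ℕ, l ≤ i → LC.gr X.gr a i (r + 1 + m - i) = ⊥ := by
    intro m
    induction m with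
    | zero => intro i hi; simpa using hvan i hi
    | succ m ih =>
      intro i hi
      obtain ⟨q, rfl⟩ : ∃ q, i = q + 1 := ⟨i - 1, by omega⟩
      have h := gr_diag_succ a hzs hspan X (r := r + m) (l := l)
        (fun j hj => by rw [show r + m + 1 - j = r + 1 + m - (j : ℤ) by ring]; exact ih j hj) q hi
      rw [← h]
      congr 1
      push_cast; ring
  obtain ⟨m, rfl⟩ : ∃ m : ℕ, s = r + 1 + m := ⟨(s - r - 1).toNat, by omega⟩
  exact key m i hi

end Groth.Agent.GrLC
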