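import Groth.Agent.GrLC.MapLin
import Mathlib.RingTheory.Regular.RegularSequence

/-!
# The end of local cohomology modulo a regular sequence

`top_shift` and `top_shift_seq`: if `H^j_a(M) = 0` for `j < n`, the bound on the degrees of
`H^n_a(M)` corresponds to the bound for `H^{n-t}_a(M/(f₁, …, f_t)M)` shifted by `∑ deg f_i`.
-/

set_option autoImplicit false
set_option linter.unusedSectionVars false
set_option linter.style.haveILetI false
set_option maxRecDepth 20000
universe u

open DirectSum Pointwise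

namespace Groth.Agent.GrLC

variable {R : Type u} [CommRing R] [IsNoetherianRing R]
variable {σ : Type u} [SetLike σ R] [AddSubgroupClass σ R] {𝒜 : ℤ → σ} [GradedRing 𝒜]
variable (hpos : ∀ n : ℤ, n < 0 → ∀ x ∈ 𝒜 n, x = 0) (a : HomogeneousIdeal 𝒜)
variable {N : Type u} [AddCommGroup N] [Module R N] {τ' : Type u} [SetLike τ' N] [AddSubgroupClass τ' N]
  {𝒩 : ℤ → τ'} [DirectSum.Decomposition 𝒩] [SetLike.GradedSMul 𝒜 𝒩]

section One

variable {M : Type u} [AddCommGroup M] [Module R M] {τ : Type u} [SetLike τ M] [AddSubgroupClass τ M]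
  {ℳ : ℤ → τ} [DirectSum.Decomposition ℳ] [SetLike.GradedSMul 𝒜 ℳ]
variable {x : R} {k : ℤ} (hx : x ∈ 𝒜 k) (hinj : Function.Injective fun m : M => x • m)
  (π : M →ₗ[R] N) (hπ : Function.Surjective π) (hπg : _root_.GrLC.IsGrHom ℳ 𝒩 π)
  (hker : LinearMap.ker π = LinearMap.range (x • (LinearMap.id : M →ₗ[R] M)))

include hinj hπ hπg hker in
theorem quotient_vanish {p : ℕ} (h₁ : Subsingleton (LocCoh.H a.toIdeal p M))
    (h₂ : Subsingleton (LocCoh.H a.toIdeal (p + 1) M)) : Subsingleton (LocCoh.H a.toIdeal p N) := by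
  refine subsingleton_of_forall_eq 0 fun y => ?_
  obtain ⟨z, rfl⟩ := (LocCohElt.exact_map_δ a.toIdeal p
    (f := x • (LinearMap.id : M →ₗ[R] M)) (g := π) hinj (LinearMap.exact_iff.2 hker) hπ y).1
    (h₂.elim _ _)
  rw [h₁.elim z 0, map_zero]

include hpos hx hinj hπ hπg hker in
/-- The degree bound on `H^{p+1}(M)` and on `H^p(M/xM)`. -/
theorem top_shift (hxa : x ∈ a.toIdeal) {p : ℕ} (hp : Subsingleton (LocCoh.H a.toIdeal p M)) (j : ℤ) :
    (∀ e, j - k < e → LC.gr ℳ a (p + 1) e = ⊥) ↔ ∀ e, j < e → LC.gr 𝒩 a p e = ⊥ := by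
  have hex : Function.Exact (x • (LinearMap.id : M →ₗ[R] M)) π := LinearMap.exact_iff.2 hker
  have hmul := LC.isGrHomDeg_smul (M := M) (ℳ := ℳ) hx
  refine ⟨fun h e he => (AddSubgroup.eq_bot_iff_forall _).2 fun y hy => ?_,
    fun h e he => (AddSubgroup.eq_bot_iff_forall _).2 fun y hy => ?_⟩
  · have hδ := LC.δ_mem_gr_deg (f := x • (LinearMap.id : M →ₗ[R] M)) a p hinj hex hπ hmul hπg hy
    obtain ⟨z, rfl⟩ := (LocCohElt.exact_map_δ a.toIdeal p
      (f := x • (LinearMap.id : M →ₗ[R] M)) (g := π) hinj hex hπ y).1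
      ((AddSubgroup.eq_bot_iff_forall _).1 (h _ (by omega)) _ hδ)
    rw [hp.elim z 0, map_zero]
  · rcases lt_or_ge k 0 with hk | hk
    · have h0 := hpos k hk x hx
      haveI : Subsingleton M := ⟨fun m m' => hinj (by simp [h0])⟩
      haveI := LocCohElt.subsingleton_of_powerTorsion a.toIdeal p M
        fun m => ⟨0, fun r _ => Subsingleton.elim _ _⟩
      exact Subsingleton.elim y 0
    obtain ⟨l, hl⟩ := LocCohElt.exists_pow_smul_eq_zero a.toIdeal (p + 1) y
    have hkill : x ^ l • y = 0 := hl _ (Ideal.pow_mem_pow hxa l)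
    clear hl
    induction l generalizing e y with
    | zero => simpa using hkill
    | succ l ih =>
      have hxy : x • y = 0 := ih (k + e) (by omega) (x • y) (LC.smul_mem_gr' a (p + 1) hx hy)
        (by rw [← mul_smul, ← pow_succ]; exact hkill)
      obtain ⟨w, hw, rfl⟩ := LC.exists_δ_eq_of_map_eq_zero a p
        (f := x • (LinearMap.id : M →ₗ[R] M)) hinj hex hπ hmul hπg hy
        (by rw [LocCohElt.map_smul_id]; exact hxy)
      rw [(AddSubgroup.eq_bot_iff_forall _).1 (h _ (by omega)) w hw, map_zero]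

end One

include hpos in
/-- The same along a regular sequence. -/
theorem top_shift_seq : ∀ (t : ℕ) (f : Fin t → R) (deg : Fin t → ℤ), (∀ i, f i ∈ 𝒜 (deg i)) →
    (∀ i, f i ∈ a.toIdeal) → ∀ (X : _root_.GrLC.GMod.{u} 𝒜),
    RingTheory.Sequence.IsWeaklyRegular X.carrier (List.ofFn f) →
    ∀ n : ℕ, t ≤ n → (∀ p < n, Subsingleton (LocCoh.H a.toIdeal p X.carrier)) →
    ∀ (π : X.carrier →ₗ[R] N), Function.Surjective π → _root_.GrLC.IsGrHom X.gr 𝒩 π →
    LinearMap.ker π = Ideal.span (Set.range f) • (⊤ : Submodule R X.carrier) →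
    ∀ j : ℤ, (∀ e, j - ∑ i, deg i < e → LC.gr X.gr a n e = ⊥) ↔
      ∀ e, j < e → LC.gr 𝒩 a (n - t) e = ⊥ := by
  intro t
  induction t with
  | zero =>
    intro f deg _ _ X _ n _ _ π hπ hπg hker j
    rw [Set.range_eq_empty, Ideal.span_empty, Submodule.bot_smul] at hker
    simp only [Finset.univ_eq_empty, Finset.sum_empty, sub_zero, Nat.sub_zero]
    exact forall_congr' fun e => imp_congr_right fun _ =>
      LC.gr_eq_bot_iff_of_bijective (f := π) a n ⟨LinearMap.ker_eq_bot.1 hker, hπ⟩ hπg e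
  | succ t ih =>
    intro f deg hf hfa X hreg n htn hvan π hπ hπg hker j
    obtain ⟨q, rfl⟩ : ∃ q, n = q + 1 := ⟨n - 1, by omega⟩
    rw [List.ofFn_succ] at hreg
    obtain ⟨hxreg, hreg'⟩ := (RingTheory.Sequence.isWeaklyRegular_cons_iff X.carrier _ _).1 hreg
    let X₁ := quoGMod 𝒜 X.gr (isHomogeneous_smulRange (X := X) (hf 0))
    let g : X.carrier →ₗ[R] X₁.carrier := (smulRange (f 0) X.carrier).mkQ
    have hgg : _root_.GrLC.IsGrHom X.gr X₁.gr g := isGrHom_mkQ _ _
    have hgker : LinearMap.ker g = LinearMap.range (f 0 • (LinearMap.id : X.carrier →ₗ[R] X.carrier)) :=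
      Submodule.ker_mkQ _
    have hgs : Function.Surjective g := Submodule.mkQ_surjective _
    have hsr : smulRange (f 0) X.carrier = f 0 • (⊤ : Submodule R X.carrier) := by
      ext m
      simp [smulRange, Submodule.mem_smul_pointwise_iff_exists]
    have hreg₁ : RingTheory.Sequence.IsWeaklyRegular X₁.carrier (List.ofFn fun i => f i.succ) :=
      (LinearEquiv.isWeaklyRegular_congr (Submodule.quotEquivOfEq _ _ hsr.symm) _).1 hreg'
    have hspan : Ideal.span (Set.range f) • (⊤ : Submodule R X.carrier) =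
        smulRange (f 0) X.carrier ⊔ Ideal.span (Set.range fun i : Fin t => f i.succ) • ⊤ := by
      rw [hsr, ← Submodule.ideal_span_singleton_smul, ← Submodule.sup_smul, ← Ideal.span_union]
      congr 2
      ext r
      simp [Fin.exists_fin_succ, eq_comm]
    have hle : smulRange (f 0) X.carrier ≤ LinearMap.ker π := by
      rw [hker, hspan]; exact le_sup_left
    let π₁ : X₁.carrier →ₗ[R] N := Submodule.liftQ _ π hle
    have hπ₁ : Function.Surjective π₁ := fun y => by
      obtain ⟨m, rfl⟩ := hπ y; exact ⟨g m, rfl⟩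
    have hπ₁g : _root_.GrLC.IsGrHom X₁.gr 𝒩 π₁ := by
      rintro e y ⟨m, hm, rfl⟩; exact hπg e m hm
    have hker₁ : LinearMap.ker π₁ =
        Ideal.span (Set.range fun i : Fin t => f i.succ) • (⊤ : Submodule R X₁.carrier) := by
      refine (Submodule.ker_liftQ _ π hle).trans ?_
      rw [hker, hspan, Submodule.map_sup, Submodule.map_smul'', Submodule.map_top, Submodule.range_mkQ,
        Submodule.mkQ_map_self, bot_sup_eq]
      rfl
    have hvan₁ : ∀ p < q, Subsingleton (LocCoh.H a.toIdeal p X₁.carrier) := fun p hp =>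
      quotient_vanish (ℳ := X.gr) (𝒩 := X₁.gr) a hxreg g hgs hgg hgker (hvan p (by omega))
        (hvan (p + 1) (by omega))
    have h1 := top_shift (ℳ := X.gr) (𝒩 := X₁.gr) hpos a (hf 0) hxreg g hgs hgg hgker (hfa 0)
      (hvan q (by omega)) (j - ∑ i, deg (Fin.succ i))
    rw [show j - ∑ i, deg (Fin.succ i) - deg 0 = j - ∑ i, deg i by rw [Fin.sum_univ_succ]; ring] at h1
    rw [h1, ih _ _ (fun i => hf i.succ) (fun i => hfa i.succ) X₁ hreg₁ q (by omega) hvan₁ π₁ hπ₁ hπ₁g
      hker₁ j, show q + 1 - (t + 1) = q - t by omega]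

end Groth.Agent.GrLC
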