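import Groth.Agent.GrLC.Compare
import Groth.Agent.GrLC.LocCohLES
import Groth.Agent.GrLC.Res

/-!
# The grading of local cohomology

`LC.gr 𝒜 ℳ a i` is the grading of `LocCoh.H a.toIdeal i M` transported from any *injective resolution
(`LC.gr_eq`); `LC.map_mem_gr`, `LC.δ_mem_gr` say that functoriality and connecting maps preserve degrees.
-/

set_option autoImplicit false
set_option linter.unusedSectionVars false
universe u

open CategoryTheory CategoryTheory.Abelian DirectSum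

namespace Groth.Agent.GrLC

namespace Acyclic.Res

variable {R : Type u} [CommRing R] {M N : ModuleCat.{u} R} (E : Acyclic.Res M) (E' : Acyclic.Res N)
  (φ : ∀ n, E.X n →ₗ[R] E'.X n) (hc : ∀ n, φ (n + 1) ∘ₗ E.d n = E'.d n ∘ₗ φ n)

/-- The map on cocycles induced by a map of complexes. -/
noncomputable def φZ (j : ℕ) : E.Z j →ₗ[R] E'.Z j :=
  ((φ j).comp (LinearMap.ker (E.d j)).subtype).codRestrict _ fun z => by
    have h := LinearMap.congr_fun (hc j) z.1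
    simp only [LinearMap.comp_apply] at h
    change E'.d j (φ j z.1) = 0
    rw [← h, LinearMap.mem_ker.1 z.2, map_zero]

theorem glue {A A' B B' : ModuleCat.{u} R} (c : Ext.{u} A B 1) (c' : Ext.{u} A' B' 1) (v₃ : A ⟶ A')
    (v₁ : B ⟶ B') (f : M ⟶ N) {i : ℕ} (x : Ext.{u} B M i) (x' : Ext.{u} B' N i) (h : 1 + i = i + 1)
    (hn : c.comp (Ext.mk₀ v₁) (add_zero 1) = (Ext.mk₀ v₃).comp c' (zero_add 1))
    (ih : (Ext.mk₀ v₁).comp x' (zero_add i) = x.comp (Ext.mk₀ f) (add_zero i)) :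
    (Ext.mk₀ v₃).comp (c'.comp x' h) (zero_add (i + 1)) =
      (c.comp x h).comp (Ext.mk₀ f) (add_zero (i + 1)) := by
  rw [← Ext.comp_assoc (Ext.mk₀ v₃) c' x' (zero_add 1) h (by omega), ← hn,
    Ext.comp_assoc_of_second_deg_zero, ih, Ext.comp_assoc_of_third_deg_zero]

theorem φZ_apply (j : ℕ) (z : E.Z j) : (E.φZ E' φ hc j z).1 = φ j z.1 := rfl

/-- The morphism of short exact sequences of cocycles. -/
noncomputable def sesHom (j : ℕ) : E.ses j ⟶ E'.ses j where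
  τ₁ := ModuleCat.ofHom (E.φZ E' φ hc j)
  τ₂ := ModuleCat.ofHom (φ j)
  τ₃ := ModuleCat.ofHom (E.φZ E' φ hc (j + 1))
  comm₁₂ := rfl
  comm₂₃ := ModuleCat.hom_ext (LinearMap.ext fun x =>
    Subtype.ext (LinearMap.congr_fun (hc j) x).symm)

theorem ξ_natural (f : M ⟶ N) (h0 : φ 0 ∘ₗ E.ε = E'.ε ∘ₗ f.hom) :
    ∀ i, (Ext.mk₀ (ModuleCat.ofHom (E.φZ E' φ hc i))).comp (E'.ξ i) (zero_add i) =
      (E.ξ i).comp (Ext.mk₀ f) (add_zero i)
  | 0 => by
    have hsq : ModuleCat.ofHom (E.φZ E' φ hc 0) ≫ E'.zeroIso.hom = E.zeroIso.hom ≫ f := by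
      rw [← Iso.eq_comp_inv, Category.assoc, ← Iso.inv_comp_eq]
      apply ModuleCat.hom_ext
      refine LinearMap.ext fun m => Subtype.ext ?_
      exact LinearMap.congr_fun h0 m
    change (Ext.mk₀ _).comp (Ext.mk₀ E'.zeroIso.hom) _ = (Ext.mk₀ E.zeroIso.hom).comp _ _
    rw [Ext.mk₀_comp_mk₀, Ext.mk₀_comp_mk₀, hsq]
  | i + 1 => by
    have hn : (E.ses_shortExact i).extClass.comp (Ext.mk₀ (ModuleCat.ofHom (E.φZ E' φ hc i)))
        (add_zero 1) = (Ext.mk₀ (ModuleCat.ofHom (E.φZ E' φ hc (i + 1)))).comp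
          (E'.ses_shortExact i).extClass (zero_add 1) :=
      ShortComplex.ShortExact.extClass_naturality (E.ses_shortExact i) (E'.ses_shortExact i)
        (E.sesHom E' φ hc i)
    exact glue (E.ses_shortExact i).extClass (E'.ses_shortExact i).extClass
      (ModuleCat.ofHom (E.φZ E' φ hc (i + 1))) (ModuleCat.ofHom (E.φZ E' φ hc i)) f (E.ξ i) (E'.ξ i)
      (by omega) hn (ξ_natural f h0 i)

theorem map_κ {T : ModuleCat.{u} R} (f : M ⟶ N) (h0 : φ 0 ∘ₗ E.ε = E'.ε ∘ₗ f.hom) (i : ℕ)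
    (ψ : T →ₗ[R] E.Z i) :
    (E.κ T i ψ).comp (Ext.mk₀ f) (add_zero i) = E'.κ T i (E.φZ E' φ hc i ∘ₗ ψ) := by
  change ((Ext.mk₀ (ModuleCat.ofHom ψ)).comp (E.ξ i) (zero_add i)).comp (Ext.mk₀ f) (add_zero i) =
    (Ext.mk₀ (ModuleCat.ofHom ψ ≫ ModuleCat.ofHom (E.φZ E' φ hc i))).comp (E'.ξ i) (zero_add i)
  rw [Ext.comp_assoc_of_third_deg_zero, ← E.ξ_natural E' φ hc f h0 i, Ext.mk₀_comp_mk₀_assoc]

end Acyclic.Res

section TorClass

variable {R : Type u} [CommRing R] {M N : Type u} [AddCommGroup M] [Module R M] [AddCommGroup N]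
  [Module R N] (E : Acyclic.Res (ModuleCat.of R M)) (E' : Acyclic.Res (ModuleCat.of R N))
  (φ : ∀ n, E.X n →ₗ[R] E'.X n) (hc : ∀ n, φ (n + 1) ∘ₗ E.d n = E'.d n ∘ₗ φ n)

set_option maxRecDepth 20000 in
theorem map_torClass (I : Ideal R) (f : M →ₗ[R] N) (h0 : φ 0 ∘ₗ E.ε = E'.ε ∘ₗ f) (i : ℕ)
    (z : _root_.GrLC.gam I (E.Z i)) {z' : _root_.GrLC.gam I (E'.Z i)}
    (hz' : E.φZ E' φ hc i z.1 = z'.1) :
    LocCohElt.map I i f (torClass E I i z) = torClass E' I i z' := by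
  obtain ⟨n, hn⟩ := z.2
  have hn' : ∀ r ∈ I ^ n, r • z'.1 = 0 := fun r hr => by rw [← hz', ← map_smul, hn r hr, map_zero]
  change LocCohElt.map I i f (torClassFun E I i z) = torClassFun E' I i z'
  rw [torClassFun_eq E I i z hn, torClassFun_eq E' I i z' hn', torLevel, torLevel, LocCohElt.map_mk,
    E.map_κ E' φ hc (ModuleCat.ofHom f) h0]
  congr 2
  refine LinearMap.ext fun q => ?_
  obtain ⟨r, rfl⟩ := Submodule.Quotient.mk_surjective _ q
  rw [LinearMap.comp_apply, ofTorsion_mk, ofTorsion_mk, map_smul, hz']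

end TorClass

namespace LC

variable {ι : Type} [AddCommGroup ι] [DecidableEq ι]
variable {R : Type u} [CommRing R] [IsNoetherianRing R]
variable {σ : Type u} [SetLike σ R] [AddSubgroupClass σ R] {𝒜 : ι → σ} [GradedRing 𝒜]
variable {M : Type u} [AddCommGroup M] [Module R M] {τ : Type u} [SetLike τ M] [AddSubgroupClass τ M]
  {ℳ : ι → τ} [DirectSum.Decomposition ℳ] [SetLike.GradedSMul 𝒜 ℳ]
variable {N : Type u} [AddCommGroup N] [Module R N] {τ' : Type u} [SetLike τ' N] [AddSubgroupClass τ' N]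
  {𝒩 : ι → τ'} [DirectSum.Decomposition 𝒩] [SetLike.GradedSMul 𝒜 𝒩]
variable (a : HomogeneousIdeal 𝒜) (i : ℕ)

variable (ℳ) in
/-- The grading of local cohomology. -/
noncomputable def gr : ι → AddSubgroup (LocCoh.H a.toIdeal i M) := fun g =>
  ((exists_res 𝒜 ℳ).some.Hgr a i g).map
    (Hequiv (exists_res 𝒜 ℳ).some a i).toLinearMap.toAddMonoidHom

theorem Hequiv_toH (E : _root_.GrLC.StarInjRes 𝒜 ℳ) (z : E.cocyc a i) :
    Hequiv E a i (E.toH a i z) = torClass (toAcyclic E) a.toIdeal i (cocycToGam E a i z) := rfl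

/-- The image of a cocycle under a map of resolutions. -/
theorem exists_map_cocyc {f : M →ₗ[R] N} (hf : _root_.GrLC.IsGrHom ℳ 𝒩 f)
    (E : _root_.GrLC.StarInjRes 𝒜 ℳ) (E' : _root_.GrLC.StarInjRes 𝒜 𝒩) {g : ι}
    (z : E.cocyc a i) (hz : (z : (E.X i).carrier) ∈ (E.X i).gr g) :
    ∃ z' : E'.cocyc a i, (z' : (E'.X i).carrier) ∈ (E'.X i).gr g ∧
      LocCohElt.map a.toIdeal i f (Hequiv E a i (E.toH a i z)) =
        Hequiv E' a i (E'.toH a i z') := by
  obtain ⟨φ, hφ, h0, hc⟩ := exists_chainMap E E' hf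
  have hmem : φ i z.1 ∈ E'.cocyc a i := by
    refine ⟨?_, ?_⟩
    · obtain ⟨n, hn⟩ := z.2.1
      exact ⟨n, fun r hr => by rw [← map_smul, hn r hr, map_zero]⟩
    · change E'.d i (φ i z.1) = 0
      have h := LinearMap.congr_fun (hc i) z.1
      simp only [LinearMap.comp_apply] at h
      rw [← h, LinearMap.mem_ker.1 z.2.2, map_zero]
  refine ⟨⟨φ i z.1, hmem⟩, hφ i g _ hz, ?_⟩
  rw [Hequiv_toH, Hequiv_toH]
  exact map_torClass (toAcyclic E) (toAcyclic E') φ hc a.toIdeal f h0 i _ (Subtype.ext rfl)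

theorem gr_eq (E : _root_.GrLC.StarInjRes 𝒜 ℳ) (g : ι) :
    gr ℳ a i g = (E.Hgr a i g).map (Hequiv E a i).toLinearMap.toAddMonoidHom := by
  have key : ∀ E E' : _root_.GrLC.StarInjRes 𝒜 ℳ,
      (E.Hgr a i g).map (Hequiv E a i).toLinearMap.toAddMonoidHom ≤
        (E'.Hgr a i g).map (Hequiv E' a i).toLinearMap.toAddMonoidHom := by
    intro E E'
    rintro _ ⟨_, ⟨z, hz, rfl⟩, rfl⟩
    obtain ⟨z', hz', he⟩ := exists_map_cocyc (ℳ := ℳ) (𝒩 := ℳ) a i (f := LinearMap.id)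
      (fun _ _ h => h) E E' z hz
    refine ⟨E'.toH a i z', ⟨z', hz', rfl⟩, ?_⟩
    change Hequiv E' a i (E'.toH a i z') = Hequiv E a i (E.toH a i z)
    rw [← he, LocCohElt.map_id]
  exact le_antisymm (key _ E) (key E _)

theorem mem_gr_iff (E : _root_.GrLC.StarInjRes 𝒜 ℳ) {g : ι} {x : LocCoh.H a.toIdeal i M} :
    x ∈ gr ℳ a i g ↔ ∃ z : E.cocyc a i, (z : (E.X i).carrier) ∈ (E.X i).gr g ∧
      Hequiv E a i (E.toH a i z) = x := by
  rw [gr_eq a i E g]
  constructor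
  · rintro ⟨_, ⟨z, hz, rfl⟩, rfl⟩
    exact ⟨z, hz, rfl⟩
  · rintro ⟨z, hz, rfl⟩
    exact ⟨E.toH a i z, ⟨z, hz, rfl⟩, rfl⟩

theorem map_mem_gr {f : M →ₗ[R] N} (hf : _root_.GrLC.IsGrHom ℳ 𝒩 f) {g : ι}
    {x : LocCoh.H a.toIdeal i M} (hx : x ∈ gr ℳ a i g) :
    LocCohElt.map a.toIdeal i f x ∈ gr 𝒩 a i g := by
  obtain ⟨E⟩ := exists_res 𝒜 ℳ
  obtain ⟨E'⟩ := exists_res 𝒜 𝒩
  obtain ⟨z, hz, rfl⟩ := (mem_gr_iff a i E).1 hx
  obtain ⟨z', hz', he⟩ := exists_map_cocyc a i hf E E' z hz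
  exact (mem_gr_iff a i E').2 ⟨z', hz', he.symm⟩

theorem isInternal_gr : DirectSum.IsInternal (gr ℳ a i) := by
  classical
  let e := (Hequiv (exists_res 𝒜 ℳ).some a i).toAddEquiv
  let E := (exists_res 𝒜 ℳ).some
  letI := Hdec E a i
  refine isInternal_of_proj _
    (fun g => (e.toAddMonoidHom.comp (cpt (E.Hgr a i) g)).comp e.symm.toAddMonoidHom) ?_ ?_ ?_
  · rintro g _ ⟨y, hy, rfl⟩
    change e (cpt (E.Hgr a i) g (e.symm (e y))) = e y
    rw [e.symm_apply_apply, cpt_of_mem (E.Hgr a i) hy]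
  · rintro g h _ ⟨y, hy, rfl⟩ hne
    change e (cpt (E.Hgr a i) h (e.symm (e y))) = 0
    rw [e.symm_apply_apply, cpt_of_mem_ne (E.Hgr a i) hy hne, map_zero]
  · intro x
    have hx : x = ∑ g ∈ degs (E.Hgr a i) (e.symm x), e (cpt (E.Hgr a i) g (e.symm x)) := by
      rw [← map_sum, sum_cpt, e.apply_symm_apply]
    rw [hx]
    exact sum_mem fun g _ => AddSubgroup.mem_iSup_of_mem g ⟨_, cpt_mem _ g _, rfl⟩

/-- The decomposition of graded local cohomology. -/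
@[instance_reducible]
noncomputable def dec : DirectSum.Decomposition (gr ℳ a i) :=
  (isInternal_gr a i).chooseDecomposition

theorem gr_gradedSMul : SetLike.GradedSMul 𝒜 (gr ℳ a i) :=
  ⟨fun p q r x hr hx => by
    obtain ⟨y, hy, rfl⟩ := hx
    exact ⟨r • y, (Hgr_gradedSMul (exists_res 𝒜 ℳ).some a i).smul_mem hr hy,
      LinearEquiv.map_smul (Hequiv (exists_res 𝒜 ℳ).some a i) r y⟩⟩

theorem smul_mem_gr' {p q : ι} {r : R} (hr : r ∈ 𝒜 p) {x : LocCoh.H a.toIdeal i M}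
    (hx : x ∈ gr ℳ a i q) : r • x ∈ gr ℳ a i (p + q) :=
  (gr_gradedSMul a i).smul_mem hr hx

theorem gr_shift (d g : ι) : gr (shiftGMod 𝒜 ℳ d).gr a i g = gr ℳ a i (g + d) := by
  obtain ⟨E⟩ := exists_res 𝒜 ℳ
  ext x
  exact (mem_gr_iff a i (shiftRes E d)).trans (mem_gr_iff a i E).symm

/-- The pieces as modules over the degree-zero ring. -/
noncomputable def comp (ℳ : ι → τ) [DirectSum.Decomposition ℳ] [SetLike.GradedSMul 𝒜 ℳ] (g : ι) :
    Submodule (_root_.GrLC.deg0 𝒜) (LocCoh.H a.toIdeal i M) :=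
  { gr ℳ a i g with
    smul_mem' := fun r x hx => by
      have h := smul_mem_gr' (ℳ := ℳ) a i r.2 hx
      rwa [zero_add] at h }

theorem mem_comp {g : ι} {x : LocCoh.H a.toIdeal i M} : x ∈ comp a i ℳ g ↔ x ∈ gr ℳ a i g := Iff.rfl

/-- The comparison map on a piece. -/
noncomputable def compHom (E : _root_.GrLC.StarInjRes 𝒜 ℳ) (g : ι) :
    E.Hcomp a i g →ₗ[_root_.GrLC.deg0 𝒜] comp a i ℳ g where
  toFun x := ⟨Hequiv E a i x.1, by
    obtain ⟨z, hz, h⟩ : ∃ z : E.cocyc a i, (z : (E.X i).carrier) ∈ (E.X i).gr g ∧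
      E.toH a i z = x.1 := x.2
    exact (mem_gr_iff a i E).2 ⟨z, hz, congrArg (Hequiv E a i) h⟩⟩
  map_add' x y := Subtype.ext ((Hequiv E a i).map_add x.1 y.1)
  map_smul' r x := Subtype.ext ((Hequiv E a i).map_smul (r : R) x.1)

theorem compHom_apply (E : _root_.GrLC.StarInjRes 𝒜 ℳ) (g : ι) (x : E.Hcomp a i g) :
    (compHom a i E g x).1 = Hequiv E a i x.1 := rfl

/-- The pieces computed from a resolution. -/
noncomputable def compEquiv (E : _root_.GrLC.StarInjRes 𝒜 ℳ) (g : ι) :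
    E.Hcomp a i g ≃ₗ[_root_.GrLC.deg0 𝒜] comp a i ℳ g :=
  LinearEquiv.ofBijective (compHom a i E g)
    ⟨fun x y h => by
      have h' := congrArg Subtype.val h
      rw [compHom_apply, compHom_apply] at h'
      exact Subtype.ext ((Hequiv E a i).injective h'),
    fun y => by
      obtain ⟨z, hz, h⟩ := (mem_gr_iff a i E).1 y.2
      exact ⟨⟨E.toH a i z, z, hz, rfl⟩, Subtype.ext h⟩⟩

theorem Hcomp_eq_bot_iff (E : _root_.GrLC.StarInjRes 𝒜 ℳ) (g : ι) :
    E.Hcomp a i g = ⊥ ↔ gr ℳ a i g = ⊥ := by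
  rw [gr_eq a i E g, (E.Hgr a i g).map_eq_bot_iff_of_injective (Hequiv E a i).injective]
  change _ ↔ (E.Hcomp a i g).toAddSubgroup = ⊥
  exact (Submodule.toAddSubgroup_inj (E.Hcomp a i g) ⊥).symm

section Tail

variable (E : _root_.GrLC.StarInjRes 𝒜 ℳ)

theorem tail_range : LinearMap.range (E.d 0) = LinearMap.ker (E.d 1) := (E.exact_succ 0).symm

theorem tail_exact : Function.Exact E.ε ((toAcyclic E).dZ 0) := by
  intro x
  refine Iff.trans ⟨fun h => ?_, fun h => Subtype.ext h⟩ (SetLike.ext_iff.1 E.exact_zero x)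
  exact congrArg Subtype.val h

theorem ξ_succ : ∀ j : ℕ,
    (toAcyclic E).ξ (j + 1) = ((toAcyclic (tailRes E)).ξ j).comp
      (LocCohElt.cls E.ε_injective (tail_exact E) ((toAcyclic E).dZ_surjective 0)) rfl
  | 0 => by
    have hE := (toAcyclic E).ses_shortExact 0
    let ψ : (toAcyclic E).ses 0 ⟶ LocCohElt.sc (tail_exact E) :=
      { τ₁ := (toAcyclic E).zeroIso.hom
        τ₂ := 𝟙 _
        τ₃ := 𝟙 _
        comm₁₂ := ModuleCat.hom_ext (LinearMap.ext fun z =>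
          congrArg Subtype.val ((toAcyclic E).zeroIso.toLinearEquiv.symm_apply_apply z))
        comm₂₃ := ModuleCat.hom_ext (LinearMap.ext fun _ => rfl) }
    have hn := ShortComplex.ShortExact.extClass_naturality hE
      (LocCohElt.sc_shortExact E.ε_injective (tail_exact E) ((toAcyclic E).dZ_surjective 0)) ψ
    have hzero : (toAcyclic (tailRes E)).zeroIso.hom = 𝟙 _ := by
      apply ModuleCat.hom_ext
      exact LinearMap.ext fun z => (toAcyclic (tailRes E)).zeroIso.toLinearEquiv.apply_symm_apply z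
    change hE.extClass.comp (Ext.mk₀ (toAcyclic E).zeroIso.hom) _ =
      (Ext.mk₀ (toAcyclic (tailRes E)).zeroIso.hom).comp _ _
    refine Eq.trans hn ?_
    exact congrArg (fun w => (Ext.mk₀ w).comp
      (LocCohElt.cls E.ε_injective (tail_exact E) ((toAcyclic E).dZ_surjective 0)) (zero_add 1)) hzero.symm
  | j + 1 => by
    change ((toAcyclic E).ses_shortExact (j + 1)).extClass.comp ((toAcyclic E).ξ (j + 1)) _ =
      (((toAcyclic (tailRes E)).ses_shortExact j).extClass.comp ((toAcyclic (tailRes E)).ξ j) _).comp _ _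
    rw [ξ_succ j]
    exact (Ext.comp_assoc ((toAcyclic E).ses_shortExact (j + 1)).extClass
      ((toAcyclic (tailRes E)).ξ j) _ _ rfl (by omega)).symm

set_option maxRecDepth 20000 in
theorem δ_tail_mem_gr {g : ι} {x : LocCoh.H a.toIdeal i ((toAcyclic E).Z 1)}
    (hx : x ∈ gr (cocyclesGMod E).gr a i g) :
    LocCohElt.δ a.toIdeal i E.ε_injective (tail_exact E) ((toAcyclic E).dZ_surjective 0) x ∈
      gr ℳ a (i + 1) g := by
  obtain ⟨z, hz, rfl⟩ := (mem_gr_iff a i (tailRes E)).1 hx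
  have hmem : z.1 ∈ E.cocyc a (i + 1) := z.2
  refine (mem_gr_iff a (i + 1) E).2 ⟨⟨z.1, hmem⟩, hz, ?_⟩
  rw [Hequiv_toH, Hequiv_toH]
  obtain ⟨n, hn⟩ := (cocycToGam (tailRes E) a i z).2
  change torClassFun _ _ _ _ = LocCohElt.δ _ _ _ _ _ (torClassFun _ _ _ _)
  refine (torClassFun_eq (toAcyclic E) a.toIdeal (i + 1) (cocycToGam E a (i + 1) ⟨z.1, hmem⟩) (n := n)
    (fun r hr => Subtype.ext (congrArg Subtype.val (hn r hr)))).trans (Eq.trans ?_
      (congrArg _ (torClassFun_eq (toAcyclic (tailRes E)) a.toIdeal i _ hn)).symm)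
  refine Eq.symm ((LocCohElt.δ_mk _ _ _ _ _ _ _).trans (congrArg _ ?_))
  change ((Ext.mk₀ _).comp ((toAcyclic (tailRes E)).ξ i) (zero_add i)).comp _ rfl =
    (Ext.mk₀ _).comp ((toAcyclic E).ξ (i + 1)) (zero_add (i + 1))
  rw [ξ_succ E i]
  exact Ext.comp_assoc _ _ _ _ rfl (by omega)

end Tail

section Delta

variable {P : Type u} [AddCommGroup P] [Module R P] {τ'' : Type u} [SetLike τ'' P]
  [AddSubgroupClass τ'' P] {𝒬 : ι → τ''} [DirectSum.Decomposition 𝒬] [SetLike.GradedSMul 𝒜 𝒬]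

set_option maxRecDepth 20000 in
/-- Connecting maps preserve degrees. -/
theorem δ_mem_gr {f : M →ₗ[R] N} {g : N →ₗ[R] P} (hf : Function.Injective f)
    (hfg : Function.Exact f g) (hg : Function.Surjective g) (hfgr : _root_.GrLC.IsGrHom ℳ 𝒩 f)
    (hggr : _root_.GrLC.IsGrHom 𝒩 𝒬 g) {d : ι} {x : LocCoh.H a.toIdeal i P}
    (hx : x ∈ gr 𝒬 a i d) :
    LocCohElt.δ a.toIdeal i hf hfg hg x ∈ gr ℳ a (i + 1) d := by
  obtain ⟨E⟩ := exists_res 𝒜 ℳ
  obtain ⟨φ₀, hφ₀, hφε⟩ := starInj_extend (E.starInj 0) hfgr hf E.ε_grHom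
  have hle : LinearMap.ker g ≤ LinearMap.ker ((toAcyclic E).dZ 0 ∘ₗ φ₀) := by
    intro y hy
    obtain ⟨m, rfl⟩ := (hfg y).1 hy
    have hm : φ₀ (f m) = E.ε m := LinearMap.congr_fun hφε m
    change (toAcyclic E).dZ 0 (φ₀ (f m)) = 0
    rw [hm]
    exact (tail_exact E).apply_apply_eq_zero m
  let h : P →ₗ[R] (toAcyclic E).Z 1 :=
    ((LinearMap.ker g).liftQ _ hle).comp (g.quotKerEquivOfSurjective hg).symm.toLinearMap
  have hh : ∀ y, h (g y) = (toAcyclic E).dZ 0 (φ₀ y) := fun y => by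
    have : (g.quotKerEquivOfSurjective hg).symm (g y) = Submodule.Quotient.mk y :=
      (LinearEquiv.symm_apply_eq _).2 rfl
    change (LinearMap.ker g).liftQ _ hle ((g.quotKerEquivOfSurjective hg).symm (g y)) = _
    rw [this]
    rfl
  have hhgr : _root_.GrLC.IsGrHom 𝒬 (cocyclesGMod E).gr h := by
    intro j p hp
    obtain ⟨y, hy, rfl⟩ := exists_preimage_mem (ℳ := 𝒩) (𝒩 := 𝒬) hggr hp (hg p)
    rw [hh]
    exact E.d_grHom 0 j _ (hφ₀ j y hy)
  let ψ : LocCohElt.sc hfg ⟶ LocCohElt.sc (tail_exact E) :=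
    { τ₁ := 𝟙 _
      τ₂ := ModuleCat.ofHom φ₀
      τ₃ := ModuleCat.ofHom h
      comm₁₂ := ModuleCat.hom_ext (LinearMap.ext fun m => (LinearMap.congr_fun hφε m).symm)
      comm₂₃ := ModuleCat.hom_ext (LinearMap.ext fun y => (hh y).symm) }
  have hn := ShortComplex.ShortExact.extClass_naturality (LocCohElt.sc_shortExact hf hfg hg)
    (LocCohElt.sc_shortExact E.ε_injective (tail_exact E) ((toAcyclic E).dZ_surjective 0)) ψ
  have hcls : LocCohElt.cls hf hfg hg = (Ext.mk₀ (ModuleCat.ofHom h)).comp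
      (LocCohElt.cls E.ε_injective (tail_exact E) ((toAcyclic E).dZ_surjective 0)) (zero_add 1) :=
    (Ext.comp_mk₀_id _).symm.trans hn
  have key : LocCohElt.δ a.toIdeal i hf hfg hg x =
      LocCohElt.δ a.toIdeal i E.ε_injective (tail_exact E) ((toAcyclic E).dZ_surjective 0)
        (LocCohElt.map a.toIdeal i h x) := by
    obtain ⟨n, e, rfl⟩ := LocCohElt.exists_mk a.toIdeal i P x
    rw [LocCohElt.δ_mk, LocCohElt.map_mk]
    refine Eq.trans ?_ (LocCohElt.δ_mk a.toIdeal i E.ε_injective (tail_exact E)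
      ((toAcyclic E).dZ_surjective 0) n _).symm
    refine congrArg _ ?_
    rw [hcls]
    exact (Ext.comp_assoc_of_second_deg_zero e _ _ rfl).symm
  rw [key]
  let h' : P →ₗ[R] (cocyclesGMod E).carrier := h
  have hm : LocCohElt.map a.toIdeal i h' x ∈ gr (cocyclesGMod E).gr a i d :=
    map_mem_gr (f := h') a i hhgr hx
  exact δ_tail_mem_gr a i E hm

end Delta

end LC

end Groth.Agent.GrLC
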