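import Groth.Agent.GrLC.StandardCM
import Mathlib.RingTheory.HopkinsLevitzki
import Mathlib.RingTheory.Length
import Mathlib.Algebra.Polynomial.Eval.Degree
import Groth.Agent.LocCoh.TorsionInjective

/-!
# The Hilbert–Serre formula

`Back` (functions on `ℤ` annihilated by some `∏ (1 - T^{d_i})`) and `hilbertSerre`:
`ℓ(M_n) - P(n) = ∑ (-1)^i ℓ(H^i_m(M)_n)`.
-/

set_option autoImplicit false
set_option linter.unusedSectionVars false
set_option linter.style.haveILetI false
set_option maxRecDepth 20000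
universe u

open DirectSum

namespace Groth.Agent.GrLC

/-- Killed by a product of operators `f ↦ f - f(· - d)` with `d ≥ 1`. -/
inductive Back : (ℤ → ℚ) → Prop
  | zero : Back 0
  | step (f : ℤ → ℚ) (d : ℕ) (hd : 0 < d) (h : Back (fun n => f n - f (n - d))) : Back f

namespace Back

theorem diff {f : ℤ → ℚ} (h : Back f) (e : ℕ) : Back (fun n => f n - f (n - e)) := by
  induction h with
  | zero =>
    have : (fun n : ℤ => (0 : ℤ → ℚ) n - (0 : ℤ → ℚ) (n - e)) = 0 := funext fun n => by simp
    rw [this]; exact .zero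
  | step f d hd _ ih =>
    refine .step _ d hd ?_
    convert ih using 1
    funext n
    beta_reduce
    rw [sub_right_comm n (d : ℤ) (e : ℤ)]
    ring

theorem add {f g : ℤ → ℚ} (hf : Back f) (hg : Back g) : Back (f + g) := by
  induction hf generalizing g with
  | zero => rwa [zero_add]
  | step f d hd _ ih =>
    refine .step _ d hd ?_
    convert ih (hg.diff d) using 1
    funext n
    simp only [Pi.add_apply]
    ring

theorem smul {f : ℤ → ℚ} (hf : Back f) (c : ℚ) : Back (c • f) := by
  induction hf with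
  | zero => rw [smul_zero]; exact .zero
  | step f d hd _ ih =>
    refine .step _ d hd ?_
    convert ih using 1
    funext n
    simp only [Pi.smul_apply, smul_eq_mul]
    ring

theorem sum {α : Type*} (s : Finset α) (f : α → ℤ → ℚ) (h : ∀ a ∈ s, Back (f a)) :
    Back (∑ a ∈ s, f a) := by
  classical
  induction s using Finset.induction_on with
  | empty => rw [Finset.sum_empty]; exact .zero
  | insert a s ha ih =>
    rw [Finset.sum_insert ha]
    exact (h a (Finset.mem_insert_self a s)).add (ih fun b hb => h b (Finset.mem_insert_of_mem hb))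

theorem pow (j : ℕ) : Back fun n : ℤ => (n : ℚ) ^ j := by
  induction j using Nat.strong_induction_on with
  | _ j ih =>
    refine .step _ 1 one_pos ?_
    have h := (Back.sum (Finset.range j)
      (fun l => (-((-1 : ℚ) ^ (j - l) * (j.choose l : ℚ))) • fun n : ℤ => (n : ℚ) ^ l)
      fun l hl => (ih l (Finset.mem_range.1 hl)).smul _)
    convert h using 1
    funext n
    simp only [Finset.sum_apply, Pi.smul_apply, smul_eq_mul]
    push_cast
    rw [sub_eq_add_neg (n : ℚ) 1, add_pow, Finset.sum_range_succ, Nat.sub_self, pow_zero,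
      Nat.choose_self, Nat.cast_one, mul_one, mul_one]
    rw [sub_add_cancel_right, ← Finset.sum_neg_distrib]
    refine Finset.sum_congr rfl fun l _ => ?_
    ring

theorem polynomial (P : Polynomial ℚ) : Back fun n : ℤ => P.eval (n : ℚ) := by
  have h := Back.sum (Finset.range (P.natDegree + 1)) (fun j => P.coeff j • fun n : ℤ => (n : ℚ) ^ j)
    fun j _ => (Back.pow j).smul _
  convert h using 1
  funext n
  simp only [Finset.sum_apply, Pi.smul_apply, smul_eq_mul]
  exact Polynomial.eval_eq_sum_range (p := P) (n : ℚ)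

theorem eq_zero {f : ℤ → ℚ} (hf : Back f) {N : ℤ} (hN : ∀ n, N ≤ n → f n = 0) : f = 0 := by
  induction hf generalizing N with
  | zero => rfl
  | step f d hd _ ih =>
    have h0 := ih (N := N + d) fun n hn => by
      change f n - f (n - d) = 0
      rw [hN n (by omega), hN _ (by omega), sub_zero]
    have hstep : ∀ n : ℤ, f (n - d) = f n := fun n => (sub_eq_zero.1 (congrFun h0 n)).symm
    have hall : ∀ (t : ℕ) (n : ℤ), f n = f (n + t * d) := by
      intro t
      induction t with
      | zero => intro n; simp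
      | succ t iht =>
        intro n
        rw [iht n, ← hstep (n + (t + 1 : ℕ) * d)]
        congr 1
        push_cast; ring
    funext n
    rw [hall ((N - n).toNat) n]
    refine hN _ ?_
    have h1 : (1 : ℤ) ≤ d := by exact_mod_cast hd
    have h2 : (0 : ℤ) ≤ ((N - n).toNat : ℤ) := Int.natCast_nonneg _
    have h3 : N - n ≤ ((N - n).toNat : ℤ) := Int.self_le_toNat _
    nlinarith

end Back

section Length

variable {A : Type u} [CommRing A] [IsArtinianRing A]

theorem length_toNat_eq_add {M : Type u} [AddCommGroup M] [Module A M] [IsArtinian A M]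
    {N : Type u} [AddCommGroup N] [Module A N] (f : M →ₗ[A] N) :
    (Module.length A M).toNat =
      (Module.length A (LinearMap.ker f)).toNat + (Module.length A (LinearMap.range f)).toNat := by
  haveI : IsNoetherian A M := (IsSemiprimaryRing.isNoetherian_iff_isArtinian (R := A) (M := M)).2 inferInstance
  haveI : IsArtinian A (LinearMap.range f) :=
    isArtinian_of_surjective _ f.rangeRestrict f.surjective_rangeRestrict
  haveI : IsNoetherian A (LinearMap.range f) :=
    isNoetherian_of_surjective f.rangeRestrict (LinearMap.range_eq_top.2 f.surjective_rangeRestrict)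
  rw [Module.length_eq_add_of_exact (LinearMap.ker f).subtype f.rangeRestrict
    (Submodule.injective_subtype _) f.surjective_rangeRestrict
    (LinearMap.exact_iff.2 (by rw [LinearMap.ker_rangeRestrict, Submodule.range_subtype])),
    ENat.toNat_add Module.length_ne_top Module.length_ne_top]

end Length

variable {R : Type u} [CommRing R] [IsNoetherianRing R]
variable {σ : Type u} [SetLike σ R] [AddSubgroupClass σ R] {𝒜 : ℤ → σ} [GradedRing 𝒜]
variable [IsArtinianRing (_root_.GrLC.deg0 𝒜)] (hpos : ∀ n : ℤ, n < 0 → ∀ x ∈ 𝒜 n, x = 0)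
  (m : HomogeneousIdeal 𝒜) (hm : _root_.GrLC.IsStarLocal 𝒜 m)

include hpos hm in
theorem isArtinian_comp_H (X : _root_.GrLC.GMod.{u} 𝒜) (hX : Module.Finite R X.carrier) (i : ℕ) (n : ℤ) :
    IsArtinian (_root_.GrLC.deg0 𝒜) (LC.comp m i X.gr n) := by
  obtain ⟨hirr, hmax⟩ := starLocal_spec hpos m hm
  refine LC.comp_of_class hpos m hirr
    (Q := fun H _ _ => IsArtinian (_root_.GrLC.deg0 𝒜) H) ?_ X hX i n
  exact {
    zero := fun H _ _ _ => inferInstance
    sub := fun H H' _ _ _ _ f hf h => isArtinian_of_injective f hf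
    quot := fun H H' _ _ _ _ f hf h => isArtinian_of_surjective _ f hf
    ext := fun H _ _ K hK hQK => (isArtinian_iff_submodule_quotient K).2 ⟨hK, hQK⟩
    torsion := fun X hX _ n => by
      haveI := hX
      haveI := finite_comp hpos X.gr n
      infer_instance
    crit := fun x hx H _ _ htor hker => by
      refine LocCoh.isArtinian_of_isArtinian_torsionBy_singleton x htor ?_
      have e : Submodule.torsionBy (_root_.GrLC.deg0 𝒜) H x =
          LinearMap.ker (x • (LinearMap.id : H →ₗ[_root_.GrLC.deg0 𝒜] H)) := by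
        ext y; simp
      rw [e]
      exact hker }

/-- The length of a piece of local cohomology. -/
noncomputable def hlen (X : _root_.GrLC.GMod.{u} 𝒜) (i : ℕ) (n : ℤ) : ℕ :=
  (Module.length (_root_.GrLC.deg0 𝒜) (LC.comp m i X.gr n)).toNat

/-- The length of a piece. -/
noncomputable def mlen (X : _root_.GrLC.GMod.{u} 𝒜) (n : ℤ) : ℕ :=
  (Module.length (_root_.GrLC.deg0 𝒜) (_root_.GrLC.comp 𝒜 X.gr n)).toNat

/-- The defect `ℓ(X_n) - ∑ (-1)^i ℓ(H^i(X)_n)`. -/
noncomputable def defect (d : ℕ) (X : _root_.GrLC.GMod.{u} 𝒜) (n : ℤ) : ℚ :=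
  (mlen X n : ℚ) - ∑ i ∈ Finset.range (d + 1), (-1 : ℚ) ^ i * (hlen m X i n : ℚ)

theorem hlen_eq_zero {X : _root_.GrLC.GMod.{u} 𝒜} {i : ℕ} {n : ℤ} (h : LC.gr X.gr m i n = ⊥) :
    hlen m X i n = 0 := by
  haveI : Subsingleton (LC.comp m i X.gr n) := ⟨fun x y => Subtype.ext (by
    rw [(AddSubgroup.eq_bot_iff_forall _).1 h x.1 x.2, (AddSubgroup.eq_bot_iff_forall _).1 h y.1 y.2])⟩
  rw [hlen, Module.length_eq_zero]; rfl

theorem hlen_shift (X : _root_.GrLC.GMod.{u} 𝒜) (k : ℤ) (i : ℕ) (n : ℤ) :
    hlen m (shiftGMod 𝒜 X.gr k) i n = hlen m X i (n + k) := by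
  have e : LC.comp m i (shiftGMod 𝒜 X.gr k).gr n = LC.comp m i X.gr (n + k) :=
    Submodule.toAddSubgroup_inj _ _ |>.1 (LC.gr_shift (ℳ := X.gr) m i k n)
  exact congrArg ENat.toNat (LinearEquiv.ofEq _ _ e).length_eq

theorem mlen_shift (X : _root_.GrLC.GMod.{u} 𝒜) (k n : ℤ) :
    mlen (shiftGMod 𝒜 X.gr k) n = mlen X (n + k) := rfl

include hpos hm in
theorem defect_add {d : ℕ} (hd : ringKrullDim R = d) {X Y Z : _root_.GrLC.GMod.{u} 𝒜}
    (hX : Module.Finite R X.carrier) (hY : Module.Finite R Y.carrier) (hZ : Module.Finite R Z.carrier)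
    {f : X.carrier →ₗ[R] Y.carrier} {g : Y.carrier →ₗ[R] Z.carrier}
    (hf : Function.Injective f) (hfg : Function.Exact f g) (hg : Function.Surjective g)
    (hfgr : _root_.GrLC.IsGrHom X.gr Y.gr f) (hggr : _root_.GrLC.IsGrHom Y.gr Z.gr g) (n : ℤ) :
    defect m d Y n = defect m d X n + defect m d Z n := by
  haveI := fun i => isArtinian_comp_H hpos m hm X hX i n
  haveI := fun i => isArtinian_comp_H hpos m hm Y hY i n
  haveI := fun i => isArtinian_comp_H hpos m hm Z hZ i n
  haveI := hY
  haveI := finite_comp hpos Y.gr n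
  let A := _root_.GrLC.deg0 𝒜
  let F := fun i => LC.restrComp m (LocCohElt.map m.toIdeal i f) (ℳ := X.gr) (𝒩 := Y.gr) (g := n) (g' := n)
    fun y hy => LC.map_mem_gr m i hfgr hy
  let G := fun i => LC.restrComp m (LocCohElt.map m.toIdeal i g) (ℳ := Y.gr) (𝒩 := Z.gr) (g := n) (g' := n)
    fun y hy => LC.map_mem_gr m i hggr hy
  let D := fun i => LC.restrComp m (LocCohElt.δ m.toIdeal i hf hfg hg) (ℳ := Z.gr) (𝒩 := X.gr) (g := n) (g' := n)
    fun y hy => LC.δ_mem_gr m i hf hfg hg hfgr hggr hy
  have hfd : _root_.GrLC.IsGrHomDeg X.gr Y.gr f (0 : ℤ) := fun j z hz => by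
    rw [add_zero]; exact hfgr j z hz
  have kG : ∀ i, LinearMap.ker (G i) = LinearMap.range (F i) := by
    intro i
    refine le_antisymm (fun y hy => ?_) ?_
    · obtain ⟨w, hw, hwy⟩ := LC.exists_map_eq_of_map_eq_zero m i hf hfg hg hfd y.2
        (congrArg Subtype.val (LinearMap.mem_ker.1 hy))
      rw [sub_zero] at hw
      exact ⟨⟨w, hw⟩, Subtype.ext hwy⟩
    · rintro _ ⟨w, rfl⟩
      exact Subtype.ext ((LocCohElt.exact_map_map m.toIdeal i hf hfg hg _).2 ⟨w.1, rfl⟩)
  have kD : ∀ i, LinearMap.ker (D i) = LinearMap.range (G i) := by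
    intro i
    refine le_antisymm (fun y hy => ?_) ?_
    · obtain ⟨w, hw, hwy⟩ := LC.exists_map_eq_of_δ_eq_zero m i hf hfg hg hggr y.2
        (congrArg Subtype.val (LinearMap.mem_ker.1 hy))
      exact ⟨⟨w, hw⟩, Subtype.ext hwy⟩
    · rintro _ ⟨w, rfl⟩
      exact Subtype.ext ((LocCohElt.exact_map_δ m.toIdeal i hf hfg hg _).2 ⟨w.1, rfl⟩)
  have kF : ∀ i, LinearMap.ker (F (i + 1)) = LinearMap.range (D i) := by
    intro i
    refine le_antisymm (fun y hy => ?_) ?_
    · obtain ⟨w, hw, hwy⟩ := LC.exists_δ_eq_of_map_eq_zero m i hf hfg hg hfd hggr y.2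
        (congrArg Subtype.val (LinearMap.mem_ker.1 hy))
      rw [add_zero] at hw
      exact ⟨⟨w, hw⟩, Subtype.ext hwy⟩
    · rintro _ ⟨w, rfl⟩
      exact Subtype.ext ((LocCohElt.exact_δ_map m.toIdeal i hf hfg hg _).2 ⟨w.1, rfl⟩)
  have kF0 : LinearMap.ker (F 0) = ⊥ := LinearMap.ker_eq_bot.2 fun y z h =>
    Subtype.ext (LocCohElt.map_zero_injective m.toIdeal hf (congrArg Subtype.val h))
  let rF := fun i => ((Module.length A (LinearMap.range (F i))).toNat : ℚ)
  let rG := fun i => ((Module.length A (LinearMap.range (G i))).toNat : ℚ)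
  let rD := fun i => ((Module.length A (LinearMap.range (D i))).toNat : ℚ)
  have eY : ∀ i, (hlen m Y i n : ℚ) = rF i + rG i := fun i => by
    rw [hlen, length_toNat_eq_add (G i), kG i]; push_cast; rfl
  have eZ : ∀ i, (hlen m Z i n : ℚ) = rG i + rD i := fun i => by
    rw [hlen, length_toNat_eq_add (D i), kD i]; push_cast; rfl
  have eX : ∀ i, (hlen m X (i + 1) n : ℚ) = rD i + rF (i + 1) := fun i => by
    rw [hlen, length_toNat_eq_add (F (i + 1)), kF i]; push_cast; rfl
  have eX0 : (hlen m X 0 n : ℚ) = rF 0 := by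
    rw [hlen, length_toNat_eq_add (F 0), kF0, Module.length_eq_zero, ENat.toNat_zero, zero_add]
  have key : ∀ k, ∑ i ∈ Finset.range (k + 1),
      (-1 : ℚ) ^ i * ((hlen m Y i n : ℚ) - hlen m X i n - hlen m Z i n) = -((-1 : ℚ) ^ k) * rD k := by
    intro k
    induction k with
    | zero => rw [Finset.sum_range_succ, Finset.sum_range_zero, eY, eZ, eX0]; ring
    | succ k ih => rw [Finset.sum_range_succ, ih, eY, eZ, eX, pow_succ]; ring
  have hlast : rD d = 0 := by
    haveI := hX
    haveI : Subsingleton (LocCoh.H m.toIdeal (d + 1) X.carrier) :=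
      LocCoh.cdLE_of_ringKrullDim_le m.toIdeal d hd.le X.carrier (d + 1) (Nat.lt_succ_self d)
    haveI : Subsingleton (LC.comp m (d + 1) X.gr n) :=
      ⟨fun y z => Subtype.ext (Subsingleton.elim _ _)⟩
    change ((Module.length A (LinearMap.range (D d))).toNat : ℚ) = 0
    rw [Module.length_eq_zero]; rfl
  have hmid : (mlen Y n : ℚ) = mlen X n + mlen Z n := by
    let f₀ : _root_.GrLC.comp 𝒜 X.gr n →ₗ[A] _root_.GrLC.comp 𝒜 Y.gr n :=
      { toFun := fun y => ⟨f y.1, hfgr n _ y.2⟩
        map_add' := fun y z => Subtype.ext (f.map_add y.1 z.1)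
        map_smul' := fun r y => Subtype.ext (f.map_smul (r : R) y.1) }
    let g₀ : _root_.GrLC.comp 𝒜 Y.gr n →ₗ[A] _root_.GrLC.comp 𝒜 Z.gr n :=
      { toFun := fun y => ⟨g y.1, hggr n _ y.2⟩
        map_add' := fun y z => Subtype.ext (g.map_add y.1 z.1)
        map_smul' := fun r y => Subtype.ext (g.map_smul (r : R) y.1) }
    have hf₀ : Function.Injective f₀ := fun y z h => Subtype.ext (hf (congrArg Subtype.val h))
    have hg₀ : Function.Surjective g₀ := fun z => by
      obtain ⟨y, hy⟩ := hg z.1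
      refine ⟨⟨cpt Y.gr n y, cpt_mem Y.gr n y⟩, Subtype.ext ?_⟩
      change g (cpt Y.gr n y) = z.1
      rw [map_cpt hggr, hy, cpt_of_mem Z.gr z.2]
    have he : Function.Exact f₀ g₀ := by
      intro y
      constructor
      · intro hy
        obtain ⟨x, hx⟩ := (hfg y.1).1 (congrArg Subtype.val hy)
        refine ⟨⟨cpt X.gr n x, cpt_mem X.gr n x⟩, Subtype.ext ?_⟩
        change f (cpt X.gr n x) = y.1
        rw [map_cpt hfgr, hx, cpt_of_mem Y.gr y.2]
      · rintro ⟨x, rfl⟩
        exact Subtype.ext ((hfg (f x.1)).2 ⟨x.1, rfl⟩)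
    haveI : IsArtinian A (_root_.GrLC.comp 𝒜 X.gr n) := isArtinian_of_injective f₀ hf₀
    haveI : IsArtinian A (_root_.GrLC.comp 𝒜 Z.gr n) := isArtinian_of_surjective _ g₀ hg₀
    haveI : IsNoetherian A (_root_.GrLC.comp 𝒜 X.gr n) :=
      (IsSemiprimaryRing.isNoetherian_iff_isArtinian).2 inferInstance
    haveI : IsNoetherian A (_root_.GrLC.comp 𝒜 Z.gr n) :=
      (IsSemiprimaryRing.isNoetherian_iff_isArtinian).2 inferInstance
    rw [mlen, mlen, mlen, Module.length_eq_add_of_exact f₀ g₀ hf₀ hg₀ he,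
      ENat.toNat_add Module.length_ne_top Module.length_ne_top]
    push_cast; rfl
  have h := key d
  rw [hlast, mul_zero] at h
  simp only [mul_sub, Finset.sum_sub_distrib] at h
  unfold defect
  linarith

include hpos hm in
theorem defect_torsion {d : ℕ} (X : _root_.GrLC.GMod.{u} 𝒜)
    (htor : ∀ y : X.carrier, y ∈ _root_.GrLC.gam m.toIdeal X.carrier) (n : ℤ) :
    defect m d X n = 0 := by
  have h0 : mlen X n = hlen m X 0 n := by
    refine congrArg ENat.toNat (LinearEquiv.ofBijective (LC.zeroToComp m X.gr n)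
      ⟨LC.zeroToComp_injective m n, fun y => ?_⟩).length_eq.symm
    refine ⟨⟨(LC.exists_zero_equiv m X.gr).choose ⟨y.1, htor y.1⟩,
      ((LC.exists_zero_equiv m X.gr).choose_spec n ⟨y.1, htor y.1⟩).1 y.2⟩, ?_⟩
    apply Subtype.ext
    change ((LC.exists_zero_equiv m X.gr).choose.symm
      ((LC.exists_zero_equiv m X.gr).choose ⟨y.1, htor y.1⟩)).1 = y.1
    rw [LinearEquiv.symm_apply_apply]
  have hsucc : ∀ i, hlen m X (i + 1) n = 0 := fun i => hlen_eq_zero m (by
    haveI := LocCohElt.subsingleton_of_powerTorsion m.toIdeal i X.carrier fun y => htor y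
    exact (AddSubgroup.eq_bot_iff_forall _).2 fun y _ => Subsingleton.elim y 0)
  rw [defect, Finset.sum_range_succ', h0]
  simp [hsucc]

include hpos hm in
theorem back_defect {d : ℕ} (hd : ringKrullDim R = d) :
    ∀ X : _root_.GrLC.GMod.{u} 𝒜, Module.Finite R X.carrier → Back (defect m d X) := by
  have hirr := (starLocal_spec hpos m hm).1
  intro X hX
  refine (gradedInduction hpos m hirr
    (fun X => Module.Finite R X.carrier → Back (defect m d X)) ?_ ?_ ?_ X hX) hX
  · intro X _ htor _
    rw [show defect m d X = 0 from funext fun n => defect_torsion hpos m hm X htor n]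
    exact .zero
  · intro X Y Z f g hf hfg hg hfgr hggr hX hZ hY
    haveI := hY
    haveI : IsNoetherian R Y.carrier := inferInstance
    have hXf : Module.Finite R X.carrier := Module.Finite.of_injective f hf
    have hZf : Module.Finite R Z.carrier := Module.Finite.of_surjective g hg
    rw [show defect m d Y = defect m d X + defect m d Z from
      funext fun n => defect_add hpos m hm hd hXf hY hZf hf hfg hg hfgr hggr n]
    exact (hX hXf).add (hZ hZf)
  · intro X hX k x hk hx hxa hinj hQ _
    rcases hk.lt_or_eq with hk | hk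
    · obtain ⟨e, rfl⟩ : ∃ e : ℕ, k = e := ⟨k.toNat, by omega⟩
      refine .step _ e (by omega) ?_
      haveI := hX
      have hXs : Module.Finite R (shiftGMod 𝒜 X.gr (-(e : ℤ))).carrier := hX
      have hQf : Module.Finite R (quoGMod 𝒜 X.gr (isHomogeneous_smulRange hx)).carrier :=
        inferInstanceAs (Module.Finite R (X.carrier ⧸ smulRange x X.carrier))
      convert hQ hQf using 1
      funext n
      have h := defect_add hpos m hm hd hXs hX hQf
        (f := x • (LinearMap.id : X.carrier →ₗ[R] X.carrier)) hinj (LC.exact_smul_qMap X hx)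
        (LC.qMap_surjective X hx) (fun j y hy => by
          have := LC.isGrHomDeg_smul (M := X.carrier) (ℳ := X.gr) hx (j + -(e : ℤ)) y hy
          rwa [neg_add_cancel_right] at this)
        (LC.qMap_isGrHom X hx) n
      have hs : defect m d (shiftGMod 𝒜 X.gr (-(e : ℤ))) n = defect m d X (n - e) := by
        simp only [defect, hlen_shift, mlen_shift, ← sub_eq_add_neg]
      rw [h, hs, add_sub_cancel_left]
    · subst hk
      obtain ⟨N, hN⟩ := starLocal_pow_le_irrel hpos m hm
      have hxN : x ^ N = 0 := by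
        have h1 := hN (Ideal.pow_mem_pow hxa N)
        have h2 := (GrSyz.mem_irrel_iff hpos).1 h1
        have h3 := SetLike.pow_mem_graded N hx
        rw [smul_zero] at h3
        rwa [cpt_of_mem 𝒜 h3] at h2
      have hsub : ∀ (l : ℕ) (y : X.carrier), x ^ l • y = 0 → y = 0 := by
        intro l
        induction l with
        | zero => intro y h; simpa using h
        | succ l ih =>
          intro y h
          rw [pow_succ', mul_smul] at h
          exact ih y (hinj (h.trans (smul_zero x).symm))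
      rw [show defect m d X = 0 from funext fun n => defect_torsion hpos m hm X
        (fun y => by rw [hsub N y (by rw [hxN, zero_smul])]; exact zero_mem _) n]
      exact .zero

include hpos hm in
/-- The Hilbert–Serre formula. -/
theorem hilbertSerre {d : ℕ} (hd : ringKrullDim R = d) (X : _root_.GrLC.GMod.{u} 𝒜)
    (hX : Module.Finite R X.carrier) (P : Polynomial ℚ)
    (hP : ∃ N : ℤ, ∀ n : ℤ, N ≤ n → P.eval (n : ℚ) = (mlen X n : ℚ)) (n : ℤ) :
    (mlen X n : ℚ) - P.eval (n : ℚ) =
      ∑ i ∈ Finset.range (d + 1), (-1 : ℚ) ^ i * (hlen m X i n : ℚ) := by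
  obtain ⟨N, hN⟩ := hP
  obtain ⟨r, hr⟩ := LC.exists_gr_eq_bot hpos m (starLocal_spec hpos m hm).1 X hX
  have hB := ((back_defect hpos m hm hd X hX).add ((Back.polynomial P).smul (-1))).eq_zero
    (N := max N r) fun k hk => by
      simp only [Pi.add_apply, Pi.smul_apply, smul_eq_mul]
      rw [hN k (le_trans (le_max_left _ _) hk), defect]
      simp [hlen_eq_zero m (hr _ k (le_trans (le_max_right _ _) hk))]
  have := congrFun hB n
  simp only [Pi.add_apply, Pi.smul_apply, smul_eq_mul, Pi.zero_apply, defect] at this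
  linarith

include hpos hm in
theorem hlen_eq_zero_iff (X : _root_.GrLC.GMod.{u} 𝒜) (hX : Module.Finite R X.carrier) (i : ℕ) (n : ℤ) :
    hlen m X i n = 0 ↔ LC.gr X.gr m i n = ⊥ := by
  refine ⟨fun h => ?_, fun h => hlen_eq_zero m h⟩
  haveI := isArtinian_comp_H hpos m hm X hX i n
  haveI : IsNoetherian (_root_.GrLC.deg0 𝒜) (LC.comp m i X.gr n) :=
    (IsSemiprimaryRing.isNoetherian_iff_isArtinian).2 inferInstance
  rw [hlen, ENat.toNat_eq_zero] at h
  haveI := Module.length_eq_zero_iff.1 (h.resolve_right Module.length_ne_top)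
  exact (AddSubgroup.eq_bot_iff_forall _).2 fun y hy =>
    congrArg Subtype.val (Subsingleton.elim (⟨y, hy⟩ : LC.comp m i X.gr n) 0)

include hpos hm in
/-- For a Cohen–Macaulay ring the formula has one term. -/
theorem hilbertSerre_cm [LocCoh.IsCohenMacaulayRing R] {d : ℕ} (hd : ringKrullDim R = d)
    (X : _root_.GrLC.GMod.{u} 𝒜) (e : R ≃ₗ[R] X.carrier) (P : Polynomial ℚ)
    (hP : ∃ N : ℤ, ∀ n : ℤ, N ≤ n → P.eval (n : ℚ) = (mlen X n : ℚ)) (n : ℤ) :
    (mlen X n : ℚ) - P.eval (n : ℚ) = (-1 : ℚ) ^ d * (hlen m X d n : ℚ) := by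
  rw [hilbertSerre hpos m hm hd X (Module.Finite.equiv e) P hP n]
  refine Finset.sum_eq_single d (fun i _ hid => ?_) fun h =>
    absurd (Finset.mem_range.2 (Nat.lt_succ_self d)) h
  haveI := subsingleton_H_of_ne_dim hpos m hm hd hid
  haveI : Subsingleton (LocCoh.H m.toIdeal i X.carrier) :=
    (LocCohElt.mapEquiv m.toIdeal i e).symm.toEquiv.subsingleton
  rw [hlen_eq_zero m ((AddSubgroup.eq_bot_iff_forall _).2 fun y _ => Subsingleton.elim y 0)]
  simp

end Groth.Agent.GrLC
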