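import Groth.Agent.GrLC.HilbertSerre
import Groth.Agent.LocCoh.Acyclic

/-!
# Euler characteristics of local cohomology with support in the irrelevant ideal

For a positively graded Noetherian ring with arbitrary degree-zero part and a finite graded module
whose pieces have finite length over `R₀`, the pieces of `H^i_{R₊}` have finite length and
`ℓ(X_n) - P(n) = ∑ (-1)^i ℓ(H^i(X)_n)`.
-/

set_option autoImplicit false
set_option linter.unusedSectionVars false
set_option linter.style.haveILetI false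
set_option maxRecDepth 20000
universe u

open DirectSum

namespace Groth.Agent.GrLC.Irrel

section Length

variable {B : Type u} [CommRing B] {H₁ H H' : Type u} [AddCommGroup H₁] [Module B H₁]
  [AddCommGroup H] [Module B H] [AddCommGroup H'] [Module B H']

theorem fl_of_injective (f : H →ₗ[B] H') (hf : Function.Injective f) (h : IsFiniteLength B H') :
    IsFiniteLength B H := by
  rw [← Module.length_ne_top_iff] at h ⊢
  exact ne_top_of_le_ne_top h (Module.length_le_of_injective f hf)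

theorem fl_of_surjective (f : H →ₗ[B] H') (hf : Function.Surjective f) (h : IsFiniteLength B H) :
    IsFiniteLength B H' := by
  rw [← Module.length_ne_top_iff] at h ⊢
  exact ne_top_of_le_ne_top h (Module.length_le_of_surjective f hf)

theorem exact_ker_rangeRestrict (g : H →ₗ[B] H') :
    Function.Exact (LinearMap.ker g).subtype g.rangeRestrict :=
  LinearMap.exact_iff.2 (by rw [LinearMap.ker_rangeRestrict, Submodule.range_subtype])

theorem fl_of_exact (f : H₁ →ₗ[B] H) (g : H →ₗ[B] H') (hle : LinearMap.ker g ≤ LinearMap.range f)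
    (h₁ : IsFiniteLength B H₁) (h' : IsFiniteLength B H') : IsFiniteLength B H := by
  have hk := fl_of_injective (Submodule.inclusion hle) (Submodule.inclusion_injective hle)
    (fl_of_surjective f.rangeRestrict f.surjective_rangeRestrict h₁)
  have hr := fl_of_injective (LinearMap.range g).subtype (Submodule.injective_subtype _) h'
  rw [← Module.length_ne_top_iff] at hk hr ⊢
  rw [Module.length_eq_add_of_exact (LinearMap.ker g).subtype g.rangeRestrict
    (Submodule.injective_subtype _) g.surjective_rangeRestrict (exact_ker_rangeRestrict g)]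
  exact WithTop.add_ne_top.2 ⟨hk, hr⟩

theorem length_toNat_eq_add (g : H →ₗ[B] H') (h : IsFiniteLength B H) :
    (Module.length B H).toNat =
      (Module.length B (LinearMap.ker g)).toNat + (Module.length B (LinearMap.range g)).toNat := by
  rw [Module.length_eq_add_of_exact (LinearMap.ker g).subtype g.rangeRestrict
    (Submodule.injective_subtype _) g.surjective_rangeRestrict (exact_ker_rangeRestrict g),
    ENat.toNat_add (Module.length_ne_top_iff.2 (fl_of_injective _ (Submodule.injective_subtype _) h))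
      (Module.length_ne_top_iff.2 (fl_of_surjective _ g.surjective_rangeRestrict h))]

theorem fl_of_subsingleton (h : Subsingleton H) : IsFiniteLength B H := .of_subsingleton

end Length

variable {R : Type u} [CommRing R] [IsNoetherianRing R]
variable {σ : Type u} [SetLike σ R] [AddSubgroupClass σ R] {𝒜 : ℤ → σ} [GradedRing 𝒜]
variable (hpos : ∀ n : ℤ, n < 0 → ∀ x ∈ 𝒜 n, x = 0)

local notation "a₊" => _root_.GrSyz.irrel 𝒜

theorem irrel_mem : ∀ n : ℤ, 0 < n → ∀ x ∈ 𝒜 n, x ∈ (_root_.GrSyz.irrel 𝒜).toIdeal :=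
  fun _ hn _ hx => GrSyz.mem_irrel_of_pos hn hx

/-- The pieces have finite length. -/
def FLPieces (X : _root_.GrLC.GMod.{u} 𝒜) : Prop :=
  ∀ n : ℤ, IsFiniteLength (_root_.GrLC.deg0 𝒜) (_root_.GrLC.comp 𝒜 X.gr n)

/-- The pieces of local cohomology in degree `n` have finite length. -/
def FLH (X : _root_.GrLC.GMod.{u} 𝒜) (n : ℤ) : Prop :=
  ∀ i : ℕ, IsFiniteLength (_root_.GrLC.deg0 𝒜) (LC.comp a₊ i X.gr n)

/-- The Euler characteristic of the local cohomology in degree `n`. -/
noncomputable def chi (s : ℕ) (X : _root_.GrLC.GMod.{u} 𝒜) (n : ℤ) : ℚ :=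
  ∑ i ∈ Finset.range (s + 1), (-1 : ℚ) ^ i * (hlen a₊ X i n : ℚ)

theorem fl_comp_of_eq_bot {X : _root_.GrLC.GMod.{u} 𝒜} {i : ℕ} {n : ℤ}
    (h : LC.gr X.gr a₊ i n = ⊥) : IsFiniteLength (_root_.GrLC.deg0 𝒜) (LC.comp a₊ i X.gr n) :=
  fl_of_subsingleton ⟨fun x y => Subtype.ext (by
    rw [(AddSubgroup.eq_bot_iff_forall _).1 h x.1 x.2, (AddSubgroup.eq_bot_iff_forall _).1 h y.1 y.2])⟩

theorem hlen_eq_zero' {X : _root_.GrLC.GMod.{u} 𝒜} {i : ℕ} {n : ℤ}
    (h : LC.gr X.gr a₊ i n = ⊥) : hlen a₊ X i n = 0 := by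
  haveI : Subsingleton (LC.comp a₊ i X.gr n) := ⟨fun x y => Subtype.ext (by
    rw [(AddSubgroup.eq_bot_iff_forall _).1 h x.1 x.2, (AddSubgroup.eq_bot_iff_forall _).1 h y.1 y.2])⟩
  rw [hlen, Module.length_eq_zero]; rfl

theorem hlen_shift' (X : _root_.GrLC.GMod.{u} 𝒜) (k : ℤ) (i : ℕ) (n : ℤ) :
    hlen a₊ (shiftGMod 𝒜 X.gr k) i n = hlen a₊ X i (n + k) := by
  have e : LC.comp a₊ i (shiftGMod 𝒜 X.gr k).gr n = LC.comp a₊ i X.gr (n + k) :=
    Submodule.toAddSubgroup_inj _ _ |>.1 (LC.gr_shift (ℳ := X.gr) a₊ i k n)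
  exact congrArg ENat.toNat (LinearEquiv.ofEq _ _ e).length_eq

theorem mlen_shift' (X : _root_.GrLC.GMod.{u} 𝒜) (k n : ℤ) :
    mlen (shiftGMod 𝒜 X.gr k) n = mlen X (n + k) := rfl

theorem chi_eq_zero {s : ℕ} {X : _root_.GrLC.GMod.{u} 𝒜} {n : ℤ}
    (h : ∀ i, LC.gr X.gr a₊ i n = ⊥) : chi s X n = 0 :=
  Finset.sum_eq_zero fun i _ => by rw [hlen_eq_zero' (h i)]; simp

theorem flh_shift (X : _root_.GrLC.GMod.{u} 𝒜) (k n : ℤ) :
    FLH (shiftGMod 𝒜 X.gr k) n ↔ FLH X (n + k) := forall_congr' fun i => by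
  have e : LC.comp a₊ i (shiftGMod 𝒜 X.gr k).gr n = LC.comp a₊ i X.gr (n + k) :=
    Submodule.toAddSubgroup_inj _ _ |>.1 (LC.gr_shift (ℳ := X.gr) a₊ i k n)
  rw [← Module.length_ne_top_iff, ← Module.length_ne_top_iff, (LinearEquiv.ofEq _ _ e).length_eq]
  exact Iff.rfl

theorem chi_shift (s : ℕ) (X : _root_.GrLC.GMod.{u} 𝒜) (k n : ℤ) :
    chi s (shiftGMod 𝒜 X.gr k) n = chi s X (n + k) := by
  simp only [chi, hlen_shift']

section Seq

variable {X Y Z : _root_.GrLC.GMod.{u} 𝒜} {f : X.carrier →ₗ[R] Y.carrier}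
  {g : Y.carrier →ₗ[R] Z.carrier} (hf : Function.Injective f) (hfg : Function.Exact f g)
  (hg : Function.Surjective g) (hfgr : _root_.GrLC.IsGrHom X.gr Y.gr f)
  (hggr : _root_.GrLC.IsGrHom Y.gr Z.gr g) (n : ℤ)

/-- `H^i(X)_n → H^i(Y)_n` -/
noncomputable abbrev mapF (i : ℕ) :=
  LC.restrComp a₊ (LocCohElt.map (a₊).toIdeal i f) (ℳ := X.gr) (𝒩 := Y.gr) (g := n) (g' := n)
    fun _ hy => LC.map_mem_gr a₊ i hfgr hy

/-- `H^i(Y)_n → H^i(Z)_n` -/
noncomputable abbrev mapG (i : ℕ) :=
  LC.restrComp a₊ (LocCohElt.map (a₊).toIdeal i g) (ℳ := Y.gr) (𝒩 := Z.gr) (g := n) (g' := n)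
    fun _ hy => LC.map_mem_gr a₊ i hggr hy

/-- `H^i(Z)_n → H^{i+1}(X)_n` -/
noncomputable abbrev mapD (i : ℕ) :=
  LC.restrComp a₊ (LocCohElt.δ (a₊).toIdeal i hf hfg hg) (ℳ := Z.gr) (𝒩 := X.gr) (g := n) (g' := n)
    fun _ hy => LC.δ_mem_gr a₊ i hf hfg hg hfgr hggr hy

include hf hfg hg in
theorem ker_mapG (i : ℕ) : LinearMap.ker (mapG hggr n i) = LinearMap.range (mapF hfgr n i) := by
  have hfd : _root_.GrLC.IsGrHomDeg X.gr Y.gr f (0 : ℤ) := fun j z hz => by
    rw [add_zero]; exact hfgr j z hz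
  refine le_antisymm (fun y hy => ?_) ?_
  · obtain ⟨w, hw, hwy⟩ := LC.exists_map_eq_of_map_eq_zero a₊ i hf hfg hg hfd y.2
      (congrArg Subtype.val (LinearMap.mem_ker.1 hy))
    rw [sub_zero] at hw
    exact ⟨⟨w, hw⟩, Subtype.ext hwy⟩
  · rintro _ ⟨w, rfl⟩
    exact Subtype.ext ((LocCohElt.exact_map_map (a₊).toIdeal i hf hfg hg _).2 ⟨w.1, rfl⟩)

theorem ker_mapD (i : ℕ) :
    LinearMap.ker (mapD hf hfg hg hfgr hggr n i) = LinearMap.range (mapG hggr n i) := by
  refine le_antisymm (fun y hy => ?_) ?_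
  · obtain ⟨w, hw, hwy⟩ := LC.exists_map_eq_of_δ_eq_zero a₊ i hf hfg hg hggr y.2
      (congrArg Subtype.val (LinearMap.mem_ker.1 hy))
    exact ⟨⟨w, hw⟩, Subtype.ext hwy⟩
  · rintro _ ⟨w, rfl⟩
    exact Subtype.ext ((LocCohElt.exact_map_δ (a₊).toIdeal i hf hfg hg _).2 ⟨w.1, rfl⟩)

theorem ker_mapF (i : ℕ) :
    LinearMap.ker (mapF hfgr n (i + 1)) = LinearMap.range (mapD hf hfg hg hfgr hggr n i) := by
  have hfd : _root_.GrLC.IsGrHomDeg X.gr Y.gr f (0 : ℤ) := fun j z hz => by
    rw [add_zero]; exact hfgr j z hz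
  refine le_antisymm (fun y hy => ?_) ?_
  · obtain ⟨w, hw, hwy⟩ := LC.exists_δ_eq_of_map_eq_zero a₊ i hf hfg hg hfd hggr y.2
      (congrArg Subtype.val (LinearMap.mem_ker.1 hy))
    rw [add_zero] at hw
    exact ⟨⟨w, hw⟩, Subtype.ext hwy⟩
  · rintro _ ⟨w, rfl⟩
    exact Subtype.ext ((LocCohElt.exact_δ_map (a₊).toIdeal i hf hfg hg _).2 ⟨w.1, rfl⟩)

include hf in
theorem mapF_zero_injective : Function.Injective (mapF hfgr n 0) := fun _ _ h =>
  Subtype.ext (LocCohElt.map_zero_injective (a₊).toIdeal hf (congrArg Subtype.val h))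

include hf hfg hg hfgr hggr in
theorem flh_mid (hX : FLH X n) (hZ : FLH Z n) : FLH Y n := fun i =>
  fl_of_exact (mapF hfgr n i) (mapG hggr n i) (ker_mapG hf hfg hg hfgr hggr n i).le (hX i) (hZ i)

include hf hfg hg hfgr hggr in
theorem flh_left (hY : FLH Y n) (hZ : FLH Z n) : FLH X n := by
  rintro (_ | i)
  · exact fl_of_injective (mapF hfgr n 0) (mapF_zero_injective hf hfgr n) (hY 0)
  · exact fl_of_exact (mapD hf hfg hg hfgr hggr n i) (mapF hfgr n (i + 1))
      (ker_mapF hf hfg hg hfgr hggr n i).le (hZ i) (hY (i + 1))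

include hf hfg hg hfgr hggr in
theorem chi_add {s : ℕ} (hcd : _root_.LocCoh.CdLE R (a₊).toIdeal s) (hX : FLH X n) (hY : FLH Y n)
    (hZ : FLH Z n) : chi s Y n = chi s X n + chi s Z n := by
  let rF := fun i => ((Module.length (_root_.GrLC.deg0 𝒜) (LinearMap.range (mapF hfgr n i))).toNat : ℚ)
  let rG := fun i => ((Module.length (_root_.GrLC.deg0 𝒜) (LinearMap.range (mapG hggr n i))).toNat : ℚ)
  let rD := fun i => ((Module.length (_root_.GrLC.deg0 𝒜) (LinearMap.range (mapD hf hfg hg hfgr hggr n i))).toNat : ℚ)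
  have eY : ∀ i, (hlen a₊ Y i n : ℚ) = rF i + rG i := fun i => by
    rw [hlen, length_toNat_eq_add (mapG hggr n i) (hY i), ker_mapG hf hfg hg hfgr hggr n i]
    push_cast; rfl
  have eZ : ∀ i, (hlen a₊ Z i n : ℚ) = rG i + rD i := fun i => by
    rw [hlen, length_toNat_eq_add (mapD hf hfg hg hfgr hggr n i) (hZ i),
      ker_mapD hf hfg hg hfgr hggr n i]
    push_cast; rfl
  have eX : ∀ i, (hlen a₊ X (i + 1) n : ℚ) = rD i + rF (i + 1) := fun i => by
    rw [hlen, length_toNat_eq_add (mapF hfgr n (i + 1)) (hX _), ker_mapF hf hfg hg hfgr hggr n i]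
    push_cast; rfl
  have eX0 : (hlen a₊ X 0 n : ℚ) = rF 0 := by
    rw [hlen, length_toNat_eq_add (mapF hfgr n 0) (hX 0),
      LinearMap.ker_eq_bot.2 (mapF_zero_injective hf hfgr n), Module.length_eq_zero, ENat.toNat_zero,
      zero_add]
  have key : ∀ k, ∑ i ∈ Finset.range (k + 1),
      (-1 : ℚ) ^ i * ((hlen a₊ Y i n : ℚ) - hlen a₊ X i n - hlen a₊ Z i n) =
        -((-1 : ℚ) ^ k) * rD k := by
    intro k
    induction k with
    | zero => rw [Finset.sum_range_succ, Finset.sum_range_zero, eY, eZ, eX0]; ring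
    | succ k ih => rw [Finset.sum_range_succ, ih, eY, eZ, eX, pow_succ]; ring
  have hlast : rD s = 0 := by
    haveI : Subsingleton (LocCoh.H (a₊).toIdeal (s + 1) X.carrier) :=
      hcd X.carrier (s + 1) (Nat.lt_succ_self s)
    haveI : Subsingleton (LC.comp a₊ (s + 1) X.gr n) :=
      ⟨fun y z => Subtype.ext (Subsingleton.elim _ _)⟩
    change ((Module.length (_root_.GrLC.deg0 𝒜) (LinearMap.range (mapD hf hfg hg hfgr hggr n s))).toNat : ℚ) = 0
    rw [Module.length_eq_zero]; rfl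
  have h := key s
  rw [hlast, mul_zero] at h
  simp only [mul_sub, Finset.sum_sub_distrib] at h
  unfold chi
  linarith

/-- `f` in degree `n` -/
def pieceMap {X Y : _root_.GrLC.GMod.{u} 𝒜} (f : X.carrier →ₗ[R] Y.carrier)
    (hfgr : _root_.GrLC.IsGrHom X.gr Y.gr f) (n : ℤ) :
    _root_.GrLC.comp 𝒜 X.gr n →ₗ[_root_.GrLC.deg0 𝒜] _root_.GrLC.comp 𝒜 Y.gr n where
  toFun y := ⟨f y.1, hfgr n _ y.2⟩
  map_add' y z := Subtype.ext (f.map_add y.1 z.1)
  map_smul' r y := Subtype.ext (f.map_smul (r : R) y.1)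

include hf hfgr in
theorem pieceMap_injective : Function.Injective (pieceMap f hfgr n) := fun _ _ h =>
  Subtype.ext (hf (congrArg Subtype.val h))

include hg hggr in
theorem pieceMap_surjective : Function.Surjective (pieceMap g hggr n) := fun z => by
  obtain ⟨y, hy⟩ := hg z.1
  refine ⟨⟨cpt Y.gr n y, cpt_mem Y.gr n y⟩, Subtype.ext ?_⟩
  change g (cpt Y.gr n y) = z.1
  rw [map_cpt hggr, hy, cpt_of_mem Z.gr z.2]

include hfg in
theorem pieceMap_exact : Function.Exact (pieceMap f hfgr n) (pieceMap g hggr n) := by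
  intro y
  constructor
  · intro hy
    obtain ⟨x, hx⟩ := (hfg y.1).1 (congrArg Subtype.val hy)
    refine ⟨⟨cpt X.gr n x, cpt_mem X.gr n x⟩, Subtype.ext ?_⟩
    change f (cpt X.gr n x) = y.1
    rw [map_cpt hfgr, hx, cpt_of_mem Y.gr y.2]
  · rintro ⟨x, rfl⟩
    exact Subtype.ext ((hfg (f x.1)).2 ⟨x.1, rfl⟩)

include hf hfg hg hfgr hggr in
theorem mlen_add (hY : FLPieces Y) : (mlen Y n : ℚ) = mlen X n + mlen Z n := by
  rw [mlen, mlen, mlen, Module.length_eq_add_of_exact _ _ (pieceMap_injective hf hfgr n)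
    (pieceMap_surjective hg hggr n) (pieceMap_exact hfg hfgr hggr n),
    ENat.toNat_add
      (Module.length_ne_top_iff.2 (fl_of_injective _ (pieceMap_injective hf hfgr n) (hY n)))
      (Module.length_ne_top_iff.2 (fl_of_surjective _ (pieceMap_surjective hg hggr n) (hY n)))]
  push_cast; rfl

include hf hfgr in
theorem flPieces_left (hY : FLPieces Y) : FLPieces X := fun n =>
  fl_of_injective _ (pieceMap_injective hf hfgr n) (hY n)

include hg hggr in
theorem flPieces_right (hY : FLPieces Y) : FLPieces Z := fun n =>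
  fl_of_surjective _ (pieceMap_surjective hg hggr n) (hY n)

end Seq

theorem chi_torsion (s : ℕ) (X : _root_.GrLC.GMod.{u} 𝒜)
    (htor : ∀ y : X.carrier, y ∈ _root_.GrLC.gam (a₊).toIdeal X.carrier) (n : ℤ) :
    chi s X n = mlen X n := by
  have h0 : mlen X n = hlen a₊ X 0 n := by
    refine congrArg ENat.toNat (LinearEquiv.ofBijective (LC.zeroToComp a₊ X.gr n)
      ⟨LC.zeroToComp_injective a₊ n, fun y => ?_⟩).length_eq.symm
    refine ⟨⟨(LC.exists_zero_equiv a₊ X.gr).choose ⟨y.1, htor y.1⟩,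
      ((LC.exists_zero_equiv a₊ X.gr).choose_spec n ⟨y.1, htor y.1⟩).1 y.2⟩, ?_⟩
    apply Subtype.ext
    change ((LC.exists_zero_equiv a₊ X.gr).choose.symm
      ((LC.exists_zero_equiv a₊ X.gr).choose ⟨y.1, htor y.1⟩)).1 = y.1
    rw [LinearEquiv.symm_apply_apply]
  have hsucc : ∀ i, hlen a₊ X (i + 1) n = 0 := fun i => hlen_eq_zero' (by
    haveI := LocCohElt.subsingleton_of_powerTorsion (a₊).toIdeal i X.carrier fun y => htor y
    exact (AddSubgroup.eq_bot_iff_forall _).2 fun y _ => Subsingleton.elim y 0)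
  rw [chi, Finset.sum_range_succ', h0]
  simp [hsucc]

theorem flh_torsion (X : _root_.GrLC.GMod.{u} 𝒜) (hfl : FLPieces X)
    (htor : ∀ y : X.carrier, y ∈ _root_.GrLC.gam (a₊).toIdeal X.carrier) (n : ℤ) : FLH X n := by
  rintro (_ | i)
  · exact fl_of_injective (LC.zeroToComp a₊ X.gr n) (LC.zeroToComp_injective a₊ n) (hfl n)
  · haveI := LocCohElt.subsingleton_of_powerTorsion (a₊).toIdeal i X.carrier fun m => htor m
    exact fl_of_subsingleton ⟨fun y z => Subtype.ext (Subsingleton.elim y.1 z.1)⟩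

include hpos in
theorem all_torsion_of_zero_nzd {X : _root_.GrLC.GMod.{u} 𝒜} {x : R} (hx : x ∈ 𝒜 0)
    (hxa : x ∈ (a₊).toIdeal) (hinj : Function.Injective fun m : X.carrier => x • m) :
    ∀ y : X.carrier, y ∈ _root_.GrLC.gam (a₊).toIdeal X.carrier := by
  intro y
  have h := (GrSyz.mem_irrel_iff hpos).1 hxa
  rw [cpt_of_mem 𝒜 hx] at h
  subst h
  rw [show y = 0 from hinj (show (0 : R) • y = (0 : R) • (0 : X.carrier) by rw [zero_smul, zero_smul])]
  exact zero_mem _

include hpos in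
/-- The pieces of `H^i_{R₊}` of a module with pieces of finite length have finite length. -/
theorem flh_of_flPieces : ∀ X : _root_.GrLC.GMod.{u} 𝒜, Module.Finite R X.carrier → FLPieces X →
    ∀ n, FLH X n := by
  refine gradedInduction hpos a₊ irrel_mem (fun X => FLPieces X → ∀ n, FLH X n) ?_ ?_ ?_
  · exact fun X _ htor hfl n => flh_torsion X hfl htor n
  · intro X Y Z f g hf hfg hg hfgr hggr hX hZ hY n
    exact flh_mid hf hfg hg hfgr hggr n (hX (flPieces_left hf hfgr hY) n)
      (hZ (flPieces_right hg hggr hY) n)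
  · intro X hX d x hd hx hxa hinj hQ hfl
    rcases hd.lt_or_eq with hd | hd
    · have hQf := hQ (flPieces_right (LC.qMap_surjective X hx) (LC.qMap_isGrHom X hx) hfl)
      have h0 : ∀ m, LC.gr X.gr a₊ 0 m = ⊥ := fun m => LC.gr_zero_eq_bot_of_nzd a₊ hxa hinj m
      obtain ⟨r, hr⟩ := LC.exists_gr_eq_bot hpos a₊ irrel_mem X hX
      have key : ∀ (t : ℕ) (m : ℤ), (r - m).toNat = t → FLH X m := by
        intro t
        induction t using Nat.strong_induction_on with
        | _ t ih =>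
          intro m hm
          by_cases hrm : r ≤ m
          · exact fun i => fl_comp_of_eq_bot (hr i m hrm)
          rintro (_ | i)
          · exact fl_comp_of_eq_bot (h0 m)
          · let D := LC.restrComp a₊
              (LocCohElt.δ (a₊).toIdeal i (f := x • (LinearMap.id : X.carrier →ₗ[R] X.carrier)) hinj
                (LC.exact_smul_qMap X hx) (LC.qMap_surjective X hx))
              (ℳ := (quoGMod 𝒜 X.gr (isHomogeneous_smulRange hx)).gr) (𝒩 := X.gr) (g := m + d) (g' := m)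
              fun y hy => by
                have h := LC.δ_mem_gr_deg (ℳ := X.gr) a₊ i hinj (LC.exact_smul_qMap X hx)
                  (LC.qMap_surjective X hx) (LC.isGrHomDeg_smul hx) (LC.qMap_isGrHom X hx) hy
                rwa [add_sub_cancel_right] at h
            let μ := LC.restrComp a₊
              (x • (LinearMap.id : LocCoh.H (a₊).toIdeal (i + 1) X.carrier →ₗ[R] _))
              (ℳ := X.gr) (𝒩 := X.gr) (g := m) (g' := d + m)
              fun y hy => LC.smul_mem_gr' a₊ (i + 1) hx hy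
            refine fl_of_exact D μ (fun y hy => ?_) (hQf _ i)
              (ih _ (by omega) (d + m) rfl (i + 1))
            obtain ⟨w, hw, hwy⟩ := LC.exists_δ_of_smul_eq_zero a₊ X hx hinj i y.2
              (congrArg Subtype.val (LinearMap.mem_ker.1 hy))
            exact ⟨⟨w, hw⟩, Subtype.ext hwy⟩
      exact fun n => key _ n rfl
    · subst hd
      exact fun n => flh_torsion X hfl (all_torsion_of_zero_nzd hpos hx hxa hinj) n

include hpos in
theorem back_defect {s : ℕ} (hcd : _root_.LocCoh.CdLE R (a₊).toIdeal s) :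
    ∀ X : _root_.GrLC.GMod.{u} 𝒜, Module.Finite R X.carrier → FLPieces X →
      Back (fun n => (mlen X n : ℚ) - chi s X n) := by
  have tors : ∀ X : _root_.GrLC.GMod.{u} 𝒜,
      (∀ y : X.carrier, y ∈ _root_.GrLC.gam (a₊).toIdeal X.carrier) →
        Back (fun n => (mlen X n : ℚ) - chi s X n) := fun X htor => by
    rw [show (fun n => (mlen X n : ℚ) - chi s X n) = 0 from
      funext fun n => by rw [chi_torsion s X htor n, sub_self]; rfl]
    exact .zero
  intro X hX
  refine (gradedInduction hpos a₊ irrel_mem (fun X => Module.Finite R X.carrier → FLPieces X →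
    Back (fun n => (mlen X n : ℚ) - chi s X n)) ?_ ?_ ?_ X hX) hX
  · exact fun X _ htor _ _ => tors X htor
  · intro X Y Z f g hf hfg hg hfgr hggr hX hZ hY hYfl
    haveI := hY
    haveI : IsNoetherian R Y.carrier := inferInstance
    have hXf : Module.Finite R X.carrier := Module.Finite.of_injective f hf
    have hZf : Module.Finite R Z.carrier := Module.Finite.of_surjective g hg
    have hXl := flPieces_left hf hfgr hYfl
    have hZl := flPieces_right hg hggr hYfl
    convert (hX hXf hXl).add (hZ hZf hZl) using 1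
    funext n
    simp only [Pi.add_apply]
    rw [mlen_add hf hfg hg hfgr hggr n hYfl, chi_add hf hfg hg hfgr hggr n hcd
      (flh_of_flPieces hpos X hXf hXl n) (flh_of_flPieces hpos Y hY hYfl n)
      (flh_of_flPieces hpos Z hZf hZl n)]
    ring
  · intro X hX k x hk hx hxa hinj hQ _ hfl
    rcases hk.lt_or_eq with hk | hk
    · obtain ⟨e, rfl⟩ : ∃ e : ℕ, k = e := ⟨k.toNat, by omega⟩
      refine .step _ e (by omega) ?_
      haveI := hX
      have hXs : Module.Finite R (shiftGMod 𝒜 X.gr (-(e : ℤ))).carrier := hX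
      have hXsl : FLPieces (shiftGMod 𝒜 X.gr (-(e : ℤ))) := fun n => hfl (n + -(e : ℤ))
      have hQf : Module.Finite R (quoGMod 𝒜 X.gr (isHomogeneous_smulRange hx)).carrier :=
        inferInstanceAs (Module.Finite R (X.carrier ⧸ smulRange x X.carrier))
      have hQl := flPieces_right (LC.qMap_surjective X hx) (LC.qMap_isGrHom X hx) hfl
      have hfgr : _root_.GrLC.IsGrHom (shiftGMod 𝒜 X.gr (-(e : ℤ))).gr X.gr
          (x • (LinearMap.id : X.carrier →ₗ[R] X.carrier)) := fun j y hy => by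
        have := LC.isGrHomDeg_smul (M := X.carrier) (ℳ := X.gr) hx (j + -(e : ℤ)) y hy
        rwa [neg_add_cancel_right] at this
      convert hQ hQf hQl using 1
      funext n
      have h1 := mlen_add (X := shiftGMod 𝒜 X.gr (-(e : ℤ))) (f := x • (LinearMap.id : X.carrier →ₗ[R] X.carrier)) hinj
        (LC.exact_smul_qMap X hx) (LC.qMap_surjective X hx) hfgr (LC.qMap_isGrHom X hx) n hfl
      have h2 := chi_add (X := shiftGMod 𝒜 X.gr (-(e : ℤ))) (f := x • (LinearMap.id : X.carrier →ₗ[R] X.carrier)) hinj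
        (LC.exact_smul_qMap X hx) (LC.qMap_surjective X hx) hfgr (LC.qMap_isGrHom X hx) n hcd
        (flh_of_flPieces hpos _ hXs hXsl n) (flh_of_flPieces hpos X hX hfl n)
        (flh_of_flPieces hpos _ hQf hQl n)
      rw [chi_shift, ← sub_eq_add_neg] at h2
      rw [mlen_shift', ← sub_eq_add_neg] at h1
      linarith
    · subst hk
      exact tors X (all_torsion_of_zero_nzd hpos hx hxa hinj)

include hpos in
/-- The Hilbert–Serre formula for the irrelevant ideal. -/
theorem hilbertSerre {s : ℕ} (hcd : _root_.LocCoh.CdLE R (a₊).toIdeal s)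
    (X : _root_.GrLC.GMod.{u} 𝒜) (hX : Module.Finite R X.carrier) (hfl : FLPieces X) (P : Polynomial ℚ)
    (hP : ∃ N : ℤ, ∀ n : ℤ, N ≤ n → P.eval (n : ℚ) = (mlen X n : ℚ)) (n : ℤ) :
    (mlen X n : ℚ) - P.eval (n : ℚ) = chi s X n := by
  obtain ⟨N, hN⟩ := hP
  obtain ⟨r, hr⟩ := LC.exists_gr_eq_bot hpos a₊ irrel_mem X hX
  have hB := ((back_defect hpos hcd X hX hfl).add ((Back.polynomial P).smul (-1))).eq_zero
    (N := max N r) fun k hk => by
      simp only [Pi.add_apply, Pi.smul_apply, smul_eq_mul]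
      rw [hN k (le_trans (le_max_left _ _) hk),
        chi_eq_zero fun i => hr i k (le_trans (le_max_right _ _) hk)]
      ring
  have := congrFun hB n
  simp only [Pi.add_apply, Pi.smul_apply, smul_eq_mul, Pi.zero_apply] at this
  linarith

end Groth.Agent.GrLC.Irrel
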