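import Groth.Agent.GrLC.StandardCM
import Groth.Agent.GrLC.EndShift
import Groth.Agent.GrLC.StarCM
import Groth.Agent.GrSyz.RegOps
import Groth.Agent.Depth.Local
import Mathlib.RingTheory.GradedAlgebra.Radical
import Mathlib.Algebra.MvPolynomial.Equiv

/-!
# Linear systems of parameters

* `exists_linear_regular`: with infinite residue field a regular sequence may be taken in `R₁`;
* `eq_zero_of_aeval_mem`: a regular sequence of linear forms is algebraically independent over `R₀`;
* `exists_algEquiv`: `a(R) = -dim R` makes a standard graded CM ring a polynomial ring over `R₀`.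
-/

set_option autoImplicit false
set_option linter.unusedSectionVars false
set_option linter.style.haveILetI false
set_option maxRecDepth 20000
universe u

open DirectSum

namespace Groth.Agent.GrLC

variable {R : Type u} [CommRing R]
variable {σ : Type u} [SetLike σ R] [AddSubgroupClass σ R] {𝒜 : ℤ → σ} [GradedRing 𝒜]

section Avoid

variable [IsNoetherianRing R] (hpos : ∀ n : ℤ, n < 0 → ∀ x ∈ 𝒜 n, x = 0) (m : HomogeneousIdeal 𝒜)
  (hm : _root_.GrLC.IsStarLocal 𝒜 m)

include hm in
theorem isUnit_of_homogeneous_notMem {g : ℤ} {x : R} (hx : x ∈ 𝒜 g) (h : x ∉ m.toIdeal) : IsUnit x := by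
  rw [← Ideal.span_singleton_eq_top]
  by_contra hne
  let J : HomogeneousIdeal 𝒜 := ⟨Ideal.span {x}, Ideal.homogeneous_span 𝒜 _ (by
    rintro y rfl; exact ⟨g, hx⟩)⟩
  exact h (starLocal_le m hm J hne (Ideal.mem_span_singleton_self x))

include hpos hm in
/-- Prime avoidance in degree one. -/
theorem exists_mem_one_notMem [Infinite (R ⧸ m.toIdeal)] (S : Finset (Ideal R))
    (hS : ∀ p ∈ S, p.IsPrime ∧ ∃ y ∈ 𝒜 1, y ∉ p) : ∃ x ∈ 𝒜 1, ∀ p ∈ S, x ∉ p := by
  classical
  have hc : ∀ q : R ⧸ m.toIdeal, ∃ c ∈ 𝒜 0, Ideal.Quotient.mk m.toIdeal c = q := fun q => by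
    obtain ⟨r, rfl⟩ := Ideal.Quotient.mk_surjective q
    refine ⟨cpt 𝒜 0 r, cpt_mem 𝒜 0 r, Ideal.Quotient.eq.2 ?_⟩
    refine irrel_le_starLocal hpos m hm ((GrSyz.mem_irrel_iff hpos).2 ?_)
    rw [map_sub, cpt_of_mem 𝒜 (cpt_mem 𝒜 0 r), sub_self]
  choose c hc0 hcq using hc
  induction S using Finset.induction_on with
  | empty => exact ⟨0, zero_mem _, fun p hp => absurd hp (Finset.notMem_empty p)⟩
  | insert p S hpS ih =>
    obtain ⟨x, hx, hxS⟩ := ih fun q hq => hS q (Finset.mem_insert_of_mem hq)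
    by_cases hxp : x ∉ p
    · exact ⟨x, hx, fun q hq => (Finset.mem_insert.1 hq).elim (fun e => e ▸ hxp) (hxS q)⟩
    · push Not at hxp
      obtain ⟨hp, y, hy, hyp⟩ := hS p (Finset.mem_insert_self p S)
      have hsub : ∀ q ∈ insert p S, {a : R ⧸ m.toIdeal | x + c a * y ∈ q}.Subsingleton := by
        intro q hq a ha b hb
        by_contra hab
        have hu : IsUnit (c a - c b) := isUnit_of_homogeneous_notMem m hm (sub_mem (hc0 a) (hc0 b))
          fun h => hab (by rw [← hcq a, ← hcq b]; exact Ideal.Quotient.eq.2 h)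
        have h1 : (c a - c b) * y ∈ q := by
          have h := sub_mem (show x + c a * y ∈ q from ha) (show x + c b * y ∈ q from hb)
          rwa [show x + c a * y - (x + c b * y) = (c a - c b) * y by ring] at h
        have hyq : y ∈ q := (Ideal.unit_mul_mem_iff_mem q hu).1 h1
        rcases Finset.mem_insert.1 hq with rfl | hqS
        · exact hyp hyq
        · refine hxS q hqS ?_
          have h := sub_mem (show x + c a * y ∈ q from ha) (Ideal.mul_mem_left q (c a) hyq)
          rwa [add_sub_cancel_right] at h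
      obtain ⟨a, ha⟩ := (Set.Finite.biUnion (insert p S).finite_toSet
        fun q hq => (hsub q hq).finite).exists_notMem
      refine ⟨x + c a * y, add_mem hx ?_, fun q hq h => ha (Set.mem_biUnion hq h)⟩
      have h := SetLike.mul_mem_graded (hc0 a) hy
      rwa [zero_add] at h

variable [IsArtinianRing (_root_.GrLC.deg0 𝒜)]
  (hlin : (_root_.GrSyz.irrel 𝒜).toIdeal = Ideal.span ((𝒜 1 : σ) : Set R))

include hpos hm hlin in
theorem exists_linear_regular [Infinite (R ⧸ m.toIdeal)] (M : Type u) [AddCommGroup M] [Module R M]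
    [Module.Finite R M] (h : 1 ≤ LocCoh.idealDepth m.toIdeal M) :
    ∃ x ∈ 𝒜 1, IsSMulRegular M x := by
  classical
  have hp := Depth.one_le_idealDepth_iff.1 h
  have hfin := associatedPrimes.finite R M
  obtain ⟨x, hx, hxp⟩ := exists_mem_one_notMem hpos m hm hfin.toFinset fun p hp' => by
    have hass := hfin.mem_toFinset.1 hp'
    have hprime := Depth.isPrime_of_mem_associatedPrimes hass
    refine ⟨hprime, ?_⟩
    by_contra hall
    push Not at hall
    obtain ⟨K, hK⟩ := starLocal_pow_le_irrel hpos m hm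
    refine hp p hass (hprime.le_of_pow_le (n := K) (hK.trans ?_))
    rw [hlin]
    exact Ideal.span_le.2 hall
  refine ⟨x, hx, ?_⟩
  by_contra hreg
  have hx' : x ∈ ⋃ p ∈ associatedPrimes R M, (p : Set R) := by
    rw [biUnion_associatedPrimes_eq_compl_regular]
    exact hreg
  obtain ⟨p, hp', hxmem⟩ := Set.mem_iUnion₂.1 hx'
  exact hxp p (hfin.mem_toFinset.2 hp') hxmem

include hpos hm hlin in
theorem exists_linear_regularSeq [Infinite (R ⧸ m.toIdeal)] :
    ∀ (n : ℕ) (M : Type u) [AddCommGroup M] [Module R M] [Module.Finite R M],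
      (n : ℕ∞) ≤ LocCoh.idealDepth m.toIdeal M →
      ∃ xs : List R, xs.length = n ∧ (∀ x ∈ xs, x ∈ 𝒜 1) ∧
        RingTheory.Sequence.IsWeaklyRegular M xs := by
  intro n
  induction n with
  | zero =>
    exact fun M _ _ _ _ => ⟨[], rfl, fun x hx => absurd hx List.not_mem_nil, .nil R M⟩
  | succ n ih =>
    intro M _ _ _ h
    obtain ⟨x, hx, hreg⟩ := exists_linear_regular hpos m hm hlin M
      (le_trans (by exact_mod_cast Nat.succ_le_succ (Nat.zero_le n)) h)
    have hxm : x ∈ m.toIdeal :=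
      irrel_le_starLocal hpos m hm (GrSyz.mem_irrel_of_pos zero_lt_one hx)
    obtain ⟨xs, hlen, hmem, hxs⟩ := ih (QuotSMulTop x M)
      ((Depth.le_idealDepth_quotSMulTop_iff hxm hreg n).2 h)
    refine ⟨x :: xs, by simp [hlen], fun y hy => ?_,
      (RingTheory.Sequence.isWeaklyRegular_cons_iff M x xs).2 ⟨hreg, hxs⟩⟩
    rcases List.mem_cons.1 hy with rfl | hy
    exacts [hx, hmem y hy]

end Avoid

section Independent

variable (hpos : ∀ n : ℤ, n < 0 → ∀ x ∈ 𝒜 n, x = 0)
variable {A : Type u} [CommRing A] [Algebra A R] (hA : ∀ a, algebraMap A R a ∈ 𝒜 0)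

theorem aeval_finSuccEquiv {t : ℕ} (xs : Fin (t + 1) → R) (p : MvPolynomial (Fin (t + 1)) A) :
    MvPolynomial.aeval xs p = (MvPolynomial.finSuccEquiv A t p).eval₂
      (MvPolynomial.aeval (Fin.tail xs)).toRingHom (xs 0) := by
  induction p using MvPolynomial.induction_on with
  | C a => simp [MvPolynomial.finSuccEquiv_apply]
  | add p q hp hq => rw [map_add, map_add, Polynomial.eval₂_add, hp, hq]
  | mul_X p i hp =>
    rw [map_mul, map_mul, Polynomial.eval₂_mul, hp]
    congr 1
    refine Fin.cases ?_ (fun j => ?_) i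
    · simp [MvPolynomial.finSuccEquiv_X_zero]
    · simp [MvPolynomial.finSuccEquiv_X_succ, Fin.tail]

include hpos hA in
/-- A regular sequence of linear forms is algebraically independent over `R₀`. -/
theorem eq_zero_of_aeval_mem : ∀ (t : ℕ) (xs : Fin t → R), (∀ i, xs i ∈ 𝒜 1) → ∀ J : Ideal R,
    (∀ a, algebraMap A R a ∈ J → a = 0) → (∀ j ∈ J, cpt 𝒜 0 j ∈ J) →
    (∀ i r, xs i * r ∈ J ⊔ Ideal.span (xs '' Set.Iio i) → r ∈ J ⊔ Ideal.span (xs '' Set.Iio i)) →
    ∀ p : MvPolynomial (Fin t) A, MvPolynomial.aeval xs p ∈ J → p = 0 := by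
  intro t
  induction t with
  | zero =>
    intro xs _ J h0 _ _ p hp
    obtain ⟨a, rfl⟩ := MvPolynomial.C_surjective (Fin 0) p
    rw [MvPolynomial.aeval_C] at hp
    rw [h0 a hp, map_zero]
  | succ t ih =>
    intro xs hxs J h0 hcpt hreg p hp
    let J' := J ⊔ Ideal.span {xs 0}
    have hz : ∀ j ∈ J', cpt 𝒜 0 j ∈ J := by
      intro j hj
      obtain ⟨u, hu, v, hv, rfl⟩ := Submodule.mem_sup.1 hj
      obtain ⟨r, rfl⟩ := Ideal.mem_span_singleton'.1 hv
      rw [map_add, ← smul_eq_mul r, cpt_smul_right' (𝒜 := 𝒜) 𝒜 (hxs 0),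
        hpos (0 - 1) (by omega) _ (cpt_mem 𝒜 _ r), zero_smul, add_zero]
      exact hcpt u hu
    have hreg' : ∀ i r, Fin.tail xs i * r ∈ J' ⊔ Ideal.span (Fin.tail xs '' Set.Iio i) →
        r ∈ J' ⊔ Ideal.span (Fin.tail xs '' Set.Iio i) := by
      intro i r
      have himg : xs '' Set.Iio i.succ = insert (xs 0) (Fin.tail xs '' Set.Iio i) := by
        ext y
        constructor
        · rintro ⟨j, hj, rfl⟩
          induction j using Fin.cases with
          | zero => exact Set.mem_insert _ _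
          | succ j => exact Set.mem_insert_of_mem _ ⟨j, Fin.succ_lt_succ_iff.1 hj, rfl⟩
        · rintro (rfl | ⟨j, hj, rfl⟩)
          · exact ⟨0, Fin.succ_pos i, rfl⟩
          · exact ⟨j.succ, Fin.succ_lt_succ_iff.2 hj, rfl⟩
      have := hreg i.succ r
      rwa [himg, Ideal.span_insert, ← sup_assoc] at this
    have h0reg : ∀ r, xs 0 * r ∈ J → r ∈ J := fun r hr => by
      have he : xs '' Set.Iio 0 = (∅ : Set R) := by
        rw [Set.image_eq_empty]
        ext j
        simp
      have := hreg 0 r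
      rw [he, Ideal.span_empty, sup_bot_eq] at this
      exact this hr
    have ih' := ih (Fin.tail xs) (fun i => hxs i.succ) J' (fun a ha => h0 a (by
      have := hz _ ha
      rwa [cpt_of_mem 𝒜 (hA a)] at this)) (fun j hj => Submodule.mem_sup_left (hz j hj)) hreg'
    rw [aeval_finSuccEquiv] at hp
    have key : ∀ q : Polynomial (MvPolynomial (Fin t) A),
        q.eval₂ (MvPolynomial.aeval (Fin.tail xs)).toRingHom (xs 0) ∈ J → q = 0 := by
      intro q
      induction q using Polynomial.recOnHorner with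
      | M0 => intro _; rfl
      | MC q a hq0 ha _ =>
        intro hmem
        rw [Polynomial.eval₂_add, Polynomial.eval₂_C] at hmem
        obtain ⟨s, rfl⟩ := Polynomial.X_dvd_iff.2 hq0
        rw [Polynomial.eval₂_mul, Polynomial.eval₂_X] at hmem
        refine absurd (ih' a ?_) ha
        refine (Submodule.add_mem_iff_right J' ?_).1 (Submodule.mem_sup_left hmem)
        exact Submodule.mem_sup_right (Ideal.mul_mem_right _ _ (Ideal.mem_span_singleton_self _))
      | MX q _ ihq =>
        intro hmem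
        rw [Polynomial.eval₂_mul, Polynomial.eval₂_X, mul_comm] at hmem
        rw [ihq (h0reg _ hmem), zero_mul]
    exact (map_eq_zero_iff _ (MvPolynomial.finSuccEquiv A t).injective).1 (key _ hp)

include hpos in
/-- A ring generated in degree one by `xs` over `R₀`. -/
theorem surjective_aeval (hA' : ∀ x ∈ 𝒜 0, ∃ a, algebraMap A R a = x) {t : ℕ} (xs : Fin t → R)
    (hxs : ∀ i, xs i ∈ 𝒜 1) (hgen : ∀ n : ℤ, 0 < n → ∀ x ∈ 𝒜 n, x ∈ Ideal.span (Set.range xs)) :
    Function.Surjective (MvPolynomial.aeval xs : MvPolynomial (Fin t) A →ₐ[A] R) := by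
  rw [← AlgHom.range_eq_top, eq_top_iff]
  intro x hx
  clear hx
  induction x using homogeneous_induction 𝒜 with
  | zero => exact zero_mem _
  | add a b ha hb => exact add_mem ha hb
  | hom g x hx =>
    induction hg : g.toNat generalizing g x with
    | zero =>
      rcases eq_or_lt_of_le (show g ≤ 0 by omega) with rfl | hneg
      · obtain ⟨a, rfl⟩ := hA' x hx
        exact Subalgebra.algebraMap_mem _ a
      · rw [hpos g hneg x hx]; exact zero_mem _
    | succ k ih =>
      obtain ⟨f, hf⟩ := Ideal.mem_span_range_iff_exists_fun.1 (hgen g (by omega) x hx)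
      rw [← cpt_of_mem 𝒜 hx, ← hf, map_sum]
      refine sum_mem fun i _ => ?_
      rw [← smul_eq_mul, cpt_smul_right' (𝒜 := 𝒜) 𝒜 (hxs i)]
      exact mul_mem (ih (g - 1) _ (cpt_mem 𝒜 _ _) (by omega)) ⟨MvPolynomial.X i, MvPolynomial.aeval_X xs i⟩

end Independent

section Main

variable [LocCoh.IsCohenMacaulayRing R] (hpos : ∀ n : ℤ, n < 0 → ∀ x ∈ 𝒜 n, x = 0)
  (m : HomogeneousIdeal 𝒜) (hm : _root_.GrLC.IsStarLocal 𝒜 m) {d : ℕ} (hd : ringKrullDim R = d)

include hpos hm hd in
/-- A homogeneous regular sequence of length `dim R` in `m` generates an `m`-primary ideal. -/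
theorem starLocal_le_radical (xs : List R) (hxs : RingTheory.Sequence.IsWeaklyRegular R xs)
    (hlen : xs.length = d) (hhom : ∀ x ∈ xs, SetLike.IsHomogeneousElem 𝒜 x) :
    m.toIdeal ≤ (Ideal.ofList xs).radical := by
  haveI hmax := starLocal_isMaximal hpos m hm
  rw [Ideal.radical_eq_sInf]
  refine le_sInf fun P hP => ?_
  obtain ⟨hJP, hPp⟩ := hP
  have hCp := hPp.homogeneousCore (𝒜 := 𝒜)
  set C := (P.homogeneousCore 𝒜) with hC
  haveI := hCp
  have hJC : ∀ x ∈ xs, x ∈ C.toIdeal := fun x hx =>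
    Ideal.mem_homogeneousCore_of_homogeneous_of_mem (hhom x hx) (hJP (Ideal.subset_span hx))
  have hCm : C.toIdeal ≤ m.toIdeal := starLocal_le m hm C hCp.ne_top
  have hdep : (d : ℕ∞) ≤ C.toIdeal.height := by
    have h1 : (d : ℕ∞) ≤ LocCoh.idealDepth C.toIdeal R := by
      rw [← hlen]
      exact Depth.le_idealDepth_of_isWeaklyRegular hxs hJC
    have h2 := h1.trans (Depth.idealDepth_le_depth_localizedModule C.toIdeal (M := R) le_rfl)
    haveI : Nontrivial (LocalizedModule C.toIdeal.primeCompl R) :=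
      (Depth.localizedModuleSelfEquiv C.toIdeal.primeCompl).toEquiv.nontrivial
    have h3 := Depth.depth_le_supportDim (R := Localization.AtPrime C.toIdeal)
      (M := LocalizedModule C.toIdeal.primeCompl R)
    have h4 := Module.supportDim_le_ringKrullDim (Localization.AtPrime C.toIdeal)
      (LocalizedModule C.toIdeal.primeCompl R)
    have h5 := (WithBot.coe_le_coe.2 h2).trans (h3.trans h4)
    rw [IsLocalization.AtPrime.ringKrullDim_eq_height C.toIdeal] at h5
    exact WithBot.coe_le_coe.1 h5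
  have hCeq : C.toIdeal = m.toIdeal := by
    rcases hCm.lt_or_eq with hlt | heq
    · exfalso
      have h6 : (C.toIdeal.height : ℕ∞) < m.toIdeal.height := Ideal.height_strict_mono_of_isPrime hlt
      have h7 : m.toIdeal.height = d := by
        have := height_starLocal_eq_ringKrullDim hpos m hm
        rw [hd] at this
        exact WithBot.coe_injective this
      rw [h7] at h6
      exact absurd hdep (not_le.2 h6)
    · exact heq
  rw [← hCeq]
  exact P.toIdeal_homogeneousCore_le 𝒜

variable [IsArtinianRing (_root_.GrLC.deg0 𝒜)]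
  (hlin : (_root_.GrSyz.irrel 𝒜).toIdeal = Ideal.span ((𝒜 1 : σ) : Set R))

include hpos hm hd hlin in
/-- `a(R) ≤ -dim R` makes a standard graded CM ring with infinite residue field a polynomial ring. -/
theorem exists_algEquiv [Infinite (R ⧸ m.toIdeal)] {A : Type u} [CommRing A] [Algebra A R]
    (hA : ∀ x, x ∈ 𝒜 0 ↔ ∃ a, algebraMap A R a = x) (hinj : Function.Injective (algebraMap A R))
    (ha : ∀ n : ℤ, -(d : ℤ) < n → LC.gr 𝒜 m d n = ⊥) :
    ∃ e : MvPolynomial (Fin d) A ≃ₐ[A] R, ∀ t, e (MvPolynomial.X t) ∈ 𝒜 1 := by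
  classical
  obtain ⟨xs, hlen, hmem, hreg⟩ := exists_linear_regularSeq hpos m hm hlin d R
    (idealDepth_starLocal hpos m hm hd).ge
  subst hlen
  let f : Fin xs.length → R := fun i => xs.get i
  have hf1 : ∀ i, f i ∈ 𝒜 1 := fun i => hmem _ (List.get_mem xs i)
  have hfl : List.ofFn f = xs := List.ofFn_get xs
  have hspan : Ideal.span (Set.range f) = Ideal.ofList xs := by
    rw [Ideal.ofList]
    congr 1
    ext y
    exact ⟨fun ⟨i, hi⟩ => hi ▸ List.get_mem xs i, fun hy => List.mem_iff_get.1 hy⟩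
  -- the quotient is concentrated in degree zero
  have hJ : (Ideal.span (Set.range f)).IsHomogeneous 𝒜 :=
    Ideal.homogeneous_span 𝒜 _ (by rintro _ ⟨i, rfl⟩; exact ⟨1, hf1 i⟩)
  let X := toGMod 𝒜 𝒜
  let Q := quoGMod 𝒜 𝒜 hJ
  let π : X.carrier →ₗ[R] Q.carrier := (Ideal.span (Set.range f)).mkQ
  have hπ : _root_.GrLC.IsGrHom X.gr Q.gr π := fun g x hx => ⟨x, hx, rfl⟩
  have hπs : Function.Surjective π := Submodule.mkQ_surjective (Ideal.span (Set.range f))
  have hπk : LinearMap.ker π = Ideal.span (Set.range f) • (⊤ : Submodule R X.carrier) :=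
    (Submodule.ker_mkQ (Ideal.span (Set.range f))).trans (Ideal.mul_top _).symm
  have hshift := top_shift_seq (𝒩 := Q.gr) hpos m xs.length f (fun _ => 1) hf1
    (fun i => irrel_le_starLocal hpos m hm (GrSyz.mem_irrel_of_pos zero_lt_one (hf1 i))) X
    (by rw [hfl]; exact hreg) xs.length le_rfl
    (fun p hp => subsingleton_H_of_ne_dim hpos m hm hd (i := p) (ne_of_lt hp)) π
    hπs hπ hπk 0
  obtain ⟨K, hK⟩ := Ideal.exists_pow_le_of_le_radical_of_fg
    (starLocal_le_radical hpos m hm hd xs hreg rfl fun x hx => ⟨1, hmem x hx⟩)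
    (IsNoetherian.noetherian _)
  have htor : ∀ q : Q.carrier, q ∈ _root_.GrLC.gam m.toIdeal Q.carrier := fun q => ⟨K, fun r hr => by
    obtain ⟨y, rfl⟩ := Submodule.mkQ_surjective (Ideal.span (Set.range f)) q
    exact ((map_smul (Ideal.span (Set.range f)).mkQ r y).symm).trans
      ((Submodule.Quotient.mk_eq_zero _).2 (by rw [hspan]; exact Ideal.mul_mem_right y _ (hK hr)))⟩
  have hgen : ∀ n : ℤ, 0 < n → ∀ x ∈ 𝒜 n, x ∈ Ideal.span (Set.range f) := by
    intro n hn x hx
    have h0 := hshift.1 (fun e he => by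
      let t : R →ₗ[R] X.carrier := LinearMap.id
      have ht : _root_.GrLC.IsGrHom 𝒜 X.gr t := fun _ _ h => h
      refine (LC.gr_eq_bot_iff_of_bijective (f := t) m xs.length Function.bijective_id ht e).1
        (ha e ?_)
      simp only [Finset.sum_const, Finset.card_univ, Fintype.card_fin, nsmul_eq_mul, mul_one] at he
      omega) n hn
    rw [Nat.sub_self] at h0
    exact (Submodule.Quotient.mk_eq_zero _).1
      ((GrSyz.gr_zero_eq_bot_iff_of_torsion m htor n).1 h0 (π x) (hπ n x hx))
  -- regularity in elementwise form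
  have hregf : ∀ i r, f i * r ∈ (⊥ : Ideal R) ⊔ Ideal.span (f '' Set.Iio i) →
      r ∈ (⊥ : Ideal R) ⊔ Ideal.span (f '' Set.Iio i) := by
    intro i r hr
    have h := ((RingTheory.Sequence.isWeaklyRegular_iff_Fin R xs).1 hreg) i
    have himg : Ideal.span (f '' Set.Iio i) = Ideal.ofList (xs.take i) := by
      rw [Ideal.ofList]
      congr 1
      ext y
      simp only [Set.mem_image, Set.mem_Iio, Set.mem_setOf_eq, List.mem_take_iff_getElem]
      constructor
      · rintro ⟨j, hj, rfl⟩
        exact ⟨j.1, by simp only [lt_inf_iff]; exact ⟨hj, j.2⟩, rfl⟩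
      · rintro ⟨j, hj, rfl⟩
        simp only [lt_inf_iff] at hj
        exact ⟨⟨j, hj.2⟩, hj.1, rfl⟩
    rw [bot_sup_eq, himg] at hr ⊢
    rw [smul_eq_mul, Ideal.mul_top] at h
    have h2 := h (a₁ := Submodule.Quotient.mk r) (a₂ := 0) (by
      simp only [smul_zero, ← Submodule.Quotient.mk_smul, Submodule.Quotient.mk_eq_zero, smul_eq_mul]
      exact hr)
    exact (Submodule.Quotient.mk_eq_zero _).1 h2
  have hA0 : ∀ a, algebraMap A R a ∈ 𝒜 0 := fun a => (hA _).2 ⟨a, rfl⟩
  have hi : Function.Injective (MvPolynomial.aeval f : MvPolynomial _ A →ₐ[A] R) := by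
    rw [injective_iff_map_eq_zero]
    exact fun p hp => eq_zero_of_aeval_mem hpos hA0 _ f hf1 ⊥
      (fun a h => hinj (by rw [(Submodule.mem_bot R).1 h, map_zero]))
      (fun j hj => by rw [(Submodule.mem_bot R).1 hj, map_zero]; exact zero_mem _) hregf p
      ((Submodule.mem_bot R).2 hp)
  exact ⟨AlgEquiv.ofBijective (MvPolynomial.aeval f)
    ⟨hi, surjective_aeval hpos (fun x hx => (hA x).1 hx) f hf1 hgen⟩,
    fun t => by
      refine Eq.mpr (congrArg (· ∈ 𝒜 1) (MvPolynomial.aeval_X f t)) (hf1 t)⟩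

end Main

end Groth.Agent.GrLC
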