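import Groth.Agent.GrLC.HilbertSerre
import Groth.Agent.GrLC.StandardCM
import Groth.Agent.GrLC.Generation
import Groth.Agent.GrSyz.Hilbert
import Groth.Agent.GrSyz.CohBound
import Groth.Agent.LocCoh.BaseChange
import Mathlib.RingTheory.RegularLocalRing.Polynomial
import Mathlib.RingTheory.KrullDimension.Polynomial
import Mathlib.RingTheory.KrullDimension.NonZeroDivisors

/-!
# Standard graded Cohen–Macaulay algebras over a field with `a(R) = -dim R`

`R` is presented as `φ : k[X_1..X_N] → R`; the top local cohomology of `R` in degree `n` over `R` and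
over the polynomial ring vanish together (both are the defect `H(n) - P(n)`).
-/

set_option autoImplicit false
set_option linter.unusedSectionVars false
set_option linter.style.haveILetI false
set_option maxRecDepth 20000
universe u

open DirectSum

namespace Groth.Agent.GrLC.PolyChar

open Groth.Agent.GrSyz (irrelS)

/-- Length over a subring isomorphic to a field as a dimension. -/
theorem length_toNat_eq_finrank {k : Type u} [Field k] {S : Type u} [CommRing S] [Algebra k S]
    {R : Type u} [AddCommGroup R] [Module k R] [Module S R] [IsScalarTower k S R] (A : Subring S)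
    (hA : ∀ x, x ∈ A ↔ ∃ c, algebraMap k S c = x) (P : Submodule A R) (Q : Submodule k R)
    (hPQ : ∀ x, x ∈ P ↔ x ∈ Q) [Module.Finite k Q] :
    (Module.length A P).toNat = Module.finrank k Q := by
  letI : Algebra k A := ((algebraMap k S).codRestrict A fun c => (hA _).2 ⟨c, rfl⟩).toAlgebra
  haveI : IsScalarTower k A R := IsScalarTower.of_algebraMap_smul fun c x => by
    change (algebraMap k S c) • x = c • x
    rw [algebraMap_smul]
  have hs : Function.Surjective (algebraMap k A) := fun a => by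
    obtain ⟨c, hc⟩ := (hA a.1).1 a.2
    exact ⟨c, Subtype.ext hc⟩
  rw [← Module.length_eq_of_surjective (R := A) (S := k) (M := P) hs]
  have e : P.restrictScalars k = Q := Submodule.ext hPQ
  have e1 : Module.length k (P.restrictScalars k) = Module.length k Q :=
    (LinearEquiv.ofEq _ _ e).length_eq
  change (Module.length k (P.restrictScalars k)).toNat = _
  rw [e1, Module.length_eq_finrank]
  rfl

/-- A piece of a bundled copy of a graded module. -/
theorem mlen_toGMod {R : Type u} [CommRing R] {σ : Type u} [SetLike σ R] [AddSubgroupClass σ R]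
    {𝒜 : ℤ → σ} [GradedRing 𝒜] {M : Type u} [AddCommGroup M] [Module R M] {τ : Type u}
    [SetLike τ M] [AddSubgroupClass τ M] (ℳ : ℤ → τ) [DirectSum.Decomposition ℳ]
    [SetLike.GradedSMul 𝒜 ℳ] (n : ℤ) :
    mlen (toGMod 𝒜 ℳ) n =
      (Module.length (_root_.GrLC.deg0 𝒜) (_root_.GrLC.comp 𝒜 ℳ n)).toNat :=
  congrArg ENat.toNat (LinearEquiv.length_eq
    ({ toFun := fun x => ⟨x.1, x.2⟩, invFun := fun x => ⟨x.1, x.2⟩
       left_inv := fun _ => rfl, right_inv := fun _ => rfl
       map_add' := fun _ _ => rfl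
       map_smul' := fun _ _ => rfl } :
      _root_.GrLC.comp 𝒜 (toGMod 𝒜 ℳ).gr n ≃ₗ[_root_.GrLC.deg0 𝒜] _root_.GrLC.comp 𝒜 ℳ n))

variable {R : Type u} [CommRing R] {𝒜 : ℤ → AddSubgroup R} [GradedRing 𝒜]
variable {k : Type u} [Field k] [Algebra k R]
variable {N : ℕ} [Algebra (MvPolynomial (Fin N) k) R] [IsScalarTower k (MvPolynomial (Fin N) k) R]
variable (hpos : ∀ n : ℤ, n < 0 → ∀ x ∈ 𝒜 n, x = 0)
  (hk0 : ∀ x, x ∈ 𝒜 0 ↔ ∃ c, algebraMap k R c = x)
  (hX : ∀ i, algebraMap (MvPolynomial (Fin N) k) R (MvPolynomial.X i) ∈ 𝒜 1)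
  (hs : Function.Surjective (algebraMap (MvPolynomial (Fin N) k) R))

include hk0 hX in
theorem algebraMap_mem {n : ℤ} {p : MvPolynomial (Fin N) k}
    (hp : p ∈ _root_.GrSyz.stdGr k (Fin N) n) : algebraMap (MvPolynomial (Fin N) k) R p ∈ 𝒜 n := by
  classical
  rw [MvPolynomial.as_sum p, map_sum]
  refine sum_mem fun d hd => ?_
  have hdeg := GrSyz.stdGr_degree_eq hp (MvPolynomial.mem_support_iff.1 hd)
  rw [MvPolynomial.monomial_eq, map_mul, ← MvPolynomial.algebraMap_eq]
  rw [← IsScalarTower.algebraMap_apply k (MvPolynomial (Fin N) k) R, ← zero_add n]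
  refine SetLike.mul_mem_graded ((hk0 _).2 ⟨_, rfl⟩) ?_
  rw [Finsupp.prod, map_prod]
  have h := SetLike.prod_pow_mem_graded (A := 𝒜) (i := fun _ : Fin N => (1 : ℤ))
    (g := fun i => algebraMap (MvPolynomial (Fin N) k) R (MvPolynomial.X i)) (F := d.support)
    (n := fun i => d i) fun i _ => hX i
  simp only [map_pow]
  convert h using 2
  rw [← hdeg, Finsupp.degree_apply]
  simp

include hk0 hX in
theorem algebraMap_cpt (n : ℤ) (p : MvPolynomial (Fin N) k) :
    algebraMap (MvPolynomial (Fin N) k) R (cpt (_root_.GrSyz.stdGr k (Fin N)) n p) =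
      cpt 𝒜 n (algebraMap (MvPolynomial (Fin N) k) R p) :=
  map_cpt (R := MvPolynomial (Fin N) k) (f := Algebra.linearMap (MvPolynomial (Fin N) k) R)
    (fun _ _ hq => algebraMap_mem hk0 hX hq) n p

include hk0 hX in
theorem gradedSMul : SetLike.GradedSMul (_root_.GrSyz.stdGr k (Fin N)) 𝒜 :=
  ⟨fun i j p x hp hx => by
    rw [Algebra.smul_def]
    exact SetLike.mul_mem_graded (algebraMap_mem hk0 hX hp) hx⟩

/-- A degree one element of the polynomial ring is a linear form. -/
theorem eq_linear {p : MvPolynomial (Fin N) k} (hp : p ∈ _root_.GrSyz.stdGr k (Fin N) 1) :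
    ∃ a : Fin N → k, p = ∑ i, a i • MvPolynomial.X i := by
  have h1 : p ∈ Ideal.span (Set.range (MvPolynomial.X : Fin N → MvPolynomial (Fin N) k)) := by
    have := GrSyz.irrelS_le_span_X k N (GrSyz.mem_irrel_of_pos (𝒜 := _root_.GrSyz.stdGr k (Fin N))
      zero_lt_one hp)
    refine Ideal.span_mono ?_ this
    rintro _ ⟨i, -, rfl⟩
    exact ⟨i, rfl⟩
  obtain ⟨f, hf⟩ := Ideal.mem_span_range_iff_exists_fun.1 h1
  refine ⟨fun i => MvPolynomial.coeff 0 (cpt (_root_.GrSyz.stdGr k (Fin N)) 0 (f i)), ?_⟩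
  conv_lhs => rw [← cpt_of_mem _ hp, ← hf, map_sum]
  refine Finset.sum_congr rfl fun i _ => ?_
  rw [← smul_eq_mul, cpt_smul_right' (𝒜 := _root_.GrSyz.stdGr k (Fin N)) _
    (GrSyz.X_mem_stdGr_one k i), sub_self, smul_eq_mul, MvPolynomial.smul_eq_C_mul,
    ← GrSyz.stdGr_zero_eq_C (cpt_mem (_root_.GrSyz.stdGr k (Fin N)) 0 _)]

include hk0 hX hs in
theorem irrel_map (hlin : (_root_.GrSyz.irrel 𝒜).toIdeal = Ideal.span ((𝒜 1 : AddSubgroup R) : Set R)) :
    (irrelS k N).toIdeal.map (algebraMap (MvPolynomial (Fin N) k) R) =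
      (_root_.GrSyz.irrel 𝒜).toIdeal := by
  rw [GrSyz.irrelS_eq_span_one, hlin, Ideal.map_span]
  refine congrArg Ideal.span (Set.ext fun x => ⟨?_, fun hx => ?_⟩)
  · rintro ⟨p, hp, rfl⟩
    exact algebraMap_mem hk0 hX hp
  · obtain ⟨p, rfl⟩ := hs x
    refine ⟨cpt _ 1 p, cpt_mem (_root_.GrSyz.stdGr k (Fin N)) 1 p, ?_⟩
    rw [algebraMap_cpt hk0 hX, cpt_of_mem 𝒜 hx]

/-- The pieces of `𝒜` as `k`-subspaces. -/
def piece (n : ℤ) : Submodule k R where
  carrier := (𝒜 n : Set R)
  add_mem' := add_mem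
  zero_mem' := zero_mem _
  smul_mem' c x hx := by
    have h := SetLike.mul_mem_graded ((hk0 _).2 ⟨c, rfl⟩) hx
    rw [zero_add] at h
    rw [Algebra.smul_def]
    exact h

include hpos hk0 hX hs in
theorem finite_piece [IsNoetherianRing R] (n : ℤ) : Module.Finite k (piece hk0 n) := by
  haveI := finite_comp hpos 𝒜 n
  obtain ⟨s, g, hg⟩ := Module.Finite.exists_fin' (_root_.GrLC.deg0 𝒜) (_root_.GrLC.comp 𝒜 𝒜 n)
  refine Module.Finite.of_fg (Submodule.fg_def.2 ⟨Set.range fun i => (g (Pi.single i 1)).1,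
    Set.finite_range _, le_antisymm (Submodule.span_le.2 ?_) fun x hx => ?_⟩)
  · rintro _ ⟨i, rfl⟩
    exact (g (Pi.single i 1)).2
  · obtain ⟨v, hv⟩ := hg ⟨x, hx⟩
    have hx' : x = ∑ i, (v i : R) * (g (Pi.single i 1)).1 := by
      have h1 : v = ∑ i, v i • Pi.single i (1 : _root_.GrLC.deg0 𝒜) := pi_eq_sum_univ' v
      have h2 := congrArg Subtype.val hv
      rw [h1, map_sum] at h2
      simp only [map_smul, Submodule.coe_sum, Submodule.coe_smul] at h2
      exact h2.symm
    rw [hx']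
    refine sum_mem fun i _ => ?_
    obtain ⟨c, hc⟩ := (hk0 _).1 (v i).2
    rw [← hc, ← Algebra.smul_def]
    exact Submodule.smul_mem _ _ (Submodule.subset_span ⟨i, rfl⟩)

include hpos hk0 hX hs in
theorem exists_hilbertPoly [IsNoetherianRing R] : ∃ (P : Polynomial ℚ) (n₀ : ℤ), ∀ n : ℤ, n₀ ≤ n →
    P.eval (n : ℚ) = (Module.finrank k (piece hk0 n) : ℚ) := by
  rcases N with - | M
  · refine ⟨0, 1, fun n hn => ?_⟩
    have : piece hk0 n = ⊥ := by
      refine (Submodule.eq_bot_iff _).2 fun x hx => ?_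
      obtain ⟨p, rfl⟩ := hs x
      have hp : p ∈ _root_.GrSyz.stdGr k (Fin 0) 0 := by
        rw [_root_.GrSyz.stdGr, MvPolynomial.mem_weightedHomogeneousSubmodule]
        intro d _
        rw [Subsingleton.elim d 0, map_zero]
      rw [← cpt_of_mem 𝒜 (hx : _ ∈ 𝒜 n)]
      exact cpt_of_mem_ne 𝒜 (algebraMap_mem hk0 hX hp) (by omega)
    rw [this]
    simp
  · have hI : DirectSum.IsInternal (piece (𝒜 := 𝒜) hk0) :=
      isInternal_of_proj (fun n => AddSubgroup.ofClass (piece hk0 n)) (cpt 𝒜)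
        (fun _ x hx => cpt_of_mem 𝒜 (hx : x ∈ 𝒜 _))
        (fun _ _ x hx hne => cpt_of_mem_ne 𝒜 (hx : x ∈ 𝒜 _) hne)
        (fun x => by
          rw [← sum_cpt 𝒜 x]
          exact sum_mem fun g _ => AddSubgroup.mem_iSup_of_mem g (cpt_mem 𝒜 g x))
    letI := hI.chooseDecomposition
    haveI := gradedSMul hk0 hX
    haveI : SetLike.GradedSMul (_root_.GrSyz.stdGr k (Fin (M + 1))) (piece (𝒜 := 𝒜) hk0) :=
      ⟨fun i j p x hp hx => smul_mem_gr (𝒜 := _root_.GrSyz.stdGr k (Fin (M + 1))) (ℳ := 𝒜) hp hx⟩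
    haveI : Module.Finite (MvPolynomial (Fin (M + 1)) k) R :=
      Module.Finite.of_surjective (Algebra.linearMap _ R) hs
    obtain ⟨F, hF⟩ := GrSyz.exists_minimal (𝒜 := _root_.GrSyz.stdGr k (Fin (M + 1)))
      (ℳ := piece (𝒜 := 𝒜) hk0) GrSyz.stdGr_eq_zero_of_neg GrSyz.stdGr_isUnit
    have hL := GrSyz.hasLengthLE_of_minimal F hF
    refine ⟨∑ i ∈ Finset.range (M + 1 + 1), Polynomial.C ((-1 : ℚ) ^ i) *
      ∑ b, GrSyz.binomPoly M ((M : ℤ) - F.deg i b),
      ∑ i ∈ Finset.range (M + 1 + 1), ∑ b, |F.deg i b|, fun n hn => ?_⟩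
    have h := GrSyz.finrank_piece_eq_sum F (M + 1) hL n
    rw [show (Module.finrank k (piece hk0 n) : ℚ) = ((Module.finrank k (piece hk0 n) : ℤ) : ℚ) by simp,
      h, Polynomial.eval_finset_sum, Int.cast_sum]
    refine Finset.sum_congr rfl fun i hi => ?_
    rw [Polynomial.eval_mul, Polynomial.eval_C, Polynomial.eval_finset_sum, Int.cast_mul,
      Int.cast_pow, Int.cast_neg, Int.cast_one, Int.cast_sum]
    refine congrArg _ (Finset.sum_congr rfl fun b _ => ?_)
    have hle : F.deg i b ≤ n := by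
      refine le_trans ?_ hn
      refine le_trans ((le_abs_self _).trans (Finset.single_le_sum (f := fun b => |F.deg i b|)
        (fun b _ => abs_nonneg _) (Finset.mem_univ b))) ?_
      exact Finset.single_le_sum (f := fun i => ∑ b, |F.deg i b|)
        (fun i _ => Finset.sum_nonneg fun b _ => abs_nonneg _) hi
    rw [if_pos hle, GrSyz.eval_binomPoly M _ n (M + (n - F.deg i b).toNat) (by push_cast; omega)]
    simp

set_option maxHeartbeats 1000000 in
include hpos hk0 hX hs in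
/-- The top local cohomology of `R` over `R` and over the polynomial ring vanish in the same degrees,
and all other local cohomology over the polynomial ring vanishes. -/
theorem gr_compare [LocCoh.IsCohenMacaulayRing R] [SetLike.GradedSMul (_root_.GrSyz.stdGr k (Fin N)) 𝒜]
    (hlin : (_root_.GrSyz.irrel 𝒜).toIdeal = Ideal.span ((𝒜 1 : AddSubgroup R) : Set R))
    (h0 : IsField (_root_.GrLC.deg0 𝒜)) {r : ℕ} (hr : ringKrullDim R = r) (i : ℕ) (n : ℤ) :
    LC.gr (𝒜 := _root_.GrSyz.stdGr k (Fin N)) 𝒜 (irrelS k N) i n = ⊥ ↔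
      (i = r → LC.gr (𝒜 := 𝒜) 𝒜 (_root_.GrSyz.irrel 𝒜) r n = ⊥) := by
  haveI : IsArtinianRing (_root_.GrLC.deg0 𝒜) := by letI := h0.toField; infer_instance
  have hm := isStarLocal_irrel hpos h0
  -- vanishing away from `r`
  have hvan : ∀ i, i ≠ r → Subsingleton (LocCoh.H (irrelS k N).toIdeal i R) := by
    intro i hi
    haveI h1 : Subsingleton (LocCoh.H (_root_.GrSyz.irrel 𝒜).toIdeal i R) :=
      subsingleton_H_of_ne_dim hpos _ hm hr hi
    rw [← irrel_map hk0 hX hs hlin] at h1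
    have h2 := (LocCoh.subsingleton_H_restrict_iff (irrelS k N).toIdeal i (ModuleCat.of R R)).1 h1
    let e : R ≃ₗ[MvPolynomial (Fin N) k]
        (LocCoh.resA (MvPolynomial (Fin N) k) (ModuleCat.of R R) : Type u) :=
      { toFun := id, invFun := id, left_inv := fun _ => rfl, right_inv := fun _ => rfl
        map_add' := fun _ _ => rfl
        map_smul' := fun c x => (algebraMap_smul R c x).symm }
    exact (LocCohElt.mapEquiv _ i e).toEquiv.subsingleton_congr.2 h2
  by_cases hi : i = r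
  swap
  · haveI := hvan i hi
    exact iff_of_true ((AddSubgroup.eq_bot_iff_forall _).2 fun y _ => Subsingleton.elim y 0)
      fun h => absurd h hi
  subst hi
  simp only [forall_const]
  -- the polynomial ring
  have hposS : ∀ n : ℤ, n < 0 → ∀ x ∈ _root_.GrSyz.stdGr k (Fin N) n, x = 0 :=
    GrSyz.stdGr_eq_zero_of_neg
  have hA : ∀ x, x ∈ _root_.GrLC.deg0 (_root_.GrSyz.stdGr k (Fin N)) ↔
      ∃ c, algebraMap k (MvPolynomial (Fin N) k) c = x := fun x =>
    ⟨fun hx => ⟨_, (GrSyz.stdGr_zero_eq_C hx).symm⟩, by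
      rintro ⟨c, rfl⟩
      exact (SetLike.algebraMap_mem_graded (_root_.GrSyz.stdGr k (Fin N)) c :)⟩
  have h0S : IsField (_root_.GrLC.deg0 (_root_.GrSyz.stdGr k (Fin N))) :=
    { exists_pair_ne := ⟨0, 1, fun h => zero_ne_one (congrArg Subtype.val h)⟩
      mul_comm := mul_comm
      mul_inv_cancel := fun {a} ha => by
        obtain ⟨c, hc⟩ := (hA a.1).1 a.2
        refine ⟨⟨algebraMap k _ c⁻¹, (hA _).2 ⟨_, rfl⟩⟩, Subtype.ext ?_⟩
        have : c ≠ 0 := fun h => ha (Subtype.ext (by rw [← hc, h, map_zero]; rfl))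
        change a.1 * _ = 1
        rw [← hc, ← map_mul, mul_inv_cancel₀ this, map_one] }
  haveI : IsArtinianRing (_root_.GrLC.deg0 (_root_.GrSyz.stdGr k (Fin N))) := by
    letI := h0S.toField; infer_instance
  have hmS : _root_.GrLC.IsStarLocal _ (irrelS k N) := isStarLocal_irrel hposS h0S
  have hdS : ringKrullDim (MvPolynomial (Fin N) k) = (N : ℕ) := by
    rw [MvPolynomial.ringKrullDim_of_isNoetherianRing, ringKrullDim_eq_zero_of_field]
    simp
  have hrN : i ≤ N := by
    have := ringKrullDim_le_of_surjective _ hs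
    rw [hr, hdS] at this
    exact_mod_cast this
  haveI := finite_piece hpos hk0 hX hs n
  obtain ⟨P, n₀, hP⟩ := exists_hilbertPoly hpos hk0 hX hs
  let XR : _root_.GrLC.GMod.{u} 𝒜 := toGMod 𝒜 𝒜
  let XS : _root_.GrLC.GMod.{u} (_root_.GrSyz.stdGr k (Fin N)) :=
    toGMod (_root_.GrSyz.stdGr k (Fin N)) 𝒜
  have hXR : Module.Finite R XR.carrier := inferInstanceAs (Module.Finite R R)
  have hXS : Module.Finite (MvPolynomial (Fin N) k) XS.carrier :=
    (Module.Finite.of_surjective (Algebra.linearMap _ R) hs : Module.Finite (MvPolynomial (Fin N) k) R)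
  have hlR : ∀ j, (mlen XR j : ℚ) = Module.finrank k (piece hk0 j) := fun j => by
    haveI := finite_piece hpos hk0 hX hs j
    exact congrArg _ ((mlen_toGMod 𝒜 j).trans (length_toNat_eq_finrank (S := R) (_root_.GrLC.deg0 𝒜)
      (fun x => hk0 x) (_root_.GrLC.comp 𝒜 𝒜 j) (piece hk0 j) fun _ => Iff.rfl))
  have hlS : ∀ j, (mlen XS j : ℚ) = Module.finrank k (piece hk0 j) := fun j => by
    haveI := finite_piece hpos hk0 hX hs j
    exact congrArg _ ((mlen_toGMod 𝒜 j).trans (length_toNat_eq_finrank (S := MvPolynomial (Fin N) k)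
      (_root_.GrLC.deg0 (_root_.GrSyz.stdGr k (Fin N))) hA
      (_root_.GrLC.comp (_root_.GrSyz.stdGr k (Fin N)) 𝒜 j) (piece hk0 j) fun _ => Iff.rfl))
  have eR := hilbertSerre_cm hpos _ hm hr XR (LinearEquiv.refl R R) P
    ⟨n₀, fun j hj => by rw [hP j hj, hlR]⟩ n
  have eS := hilbertSerre hposS _ hmS hdS XS hXS P ⟨n₀, fun j hj => by rw [hP j hj, hlS]⟩ n
  rw [Finset.sum_eq_single i (fun j _ hj => by
      haveI := hvan j hj
      haveI : Subsingleton (LocCoh.H (irrelS k N).toIdeal j XS.carrier) := hvan j hj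
      rw [hlen_eq_zero _ ((AddSubgroup.eq_bot_iff_forall _).2 fun y _ => Subsingleton.elim y 0)]
      simp) (fun h => absurd (Finset.mem_range.2 (by omega)) h), hlS, ← hlR] at eS
  have key : hlen (irrelS k N) XS i n = hlen (_root_.GrSyz.irrel 𝒜) XR i n :=
    Nat.cast_injective (mul_left_cancel₀ (pow_ne_zero i (by norm_num : (-1 : ℚ) ≠ 0))
      (eS.symm.trans eR))
  let fR : R →ₗ[R] XR.carrier := LinearMap.id
  have hfR : _root_.GrLC.IsGrHom 𝒜 XR.gr fR := fun _ _ h => h
  have tR := LC.gr_eq_bot_iff_of_bijective (f := fR) (_root_.GrSyz.irrel 𝒜) i Function.bijective_id hfR n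
  let fS : R →ₗ[MvPolynomial (Fin N) k] XS.carrier := LinearMap.id
  have hfS : _root_.GrLC.IsGrHom 𝒜 XS.gr fS := fun _ _ h => h
  have tS := LC.gr_eq_bot_iff_of_bijective (f := fS) (irrelS k N) i Function.bijective_id hfS n
  refine tS.trans (((hlen_eq_zero_iff hposS _ hmS XS hXS i n).symm.trans ?_).trans tR.symm)
  rw [key]
  exact hlen_eq_zero_iff hpos _ hm XR hXR i n

end Groth.Agent.GrLC.PolyChar
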