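import Groth.Agent.GrLC.PolyChar
import Groth.Agent.GrSyz.RegOps
import Groth.Agent.GrLC.Core

/-!
# `a(R) = -dim R` if and only if `R` is a polynomial ring (over a field)
-/

set_option autoImplicit false
set_option linter.unusedSectionVars false
set_option linter.style.haveILetI false
set_option maxRecDepth 20000
universe u

open DirectSum

namespace Groth.Agent.GrLC.PolyChar

open Groth.Agent.GrSyz (irrelS)

variable {R : Type u} [CommRing R] {𝒜 : ℤ → AddSubgroup R} [GradedRing 𝒜]
variable {k : Type u} [Field k] [Algebra k R]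
variable (hpos : ∀ n : ℤ, n < 0 → ∀ x ∈ 𝒜 n, x = 0)
  (hk0 : ∀ x, x ∈ 𝒜 0 ↔ ∃ c, algebraMap k R c = x)
  (hlin : (_root_.GrSyz.irrel 𝒜).toIdeal = Ideal.span ((𝒜 1 : AddSubgroup R) : Set R))

section Presentation

variable {N : ℕ} [Algebra (MvPolynomial (Fin N) k) R] [IsScalarTower k (MvPolynomial (Fin N) k) R]
variable (hX : ∀ i, algebraMap (MvPolynomial (Fin N) k) R (MvPolynomial.X i) ∈ 𝒜 1)

include hpos hk0 hlin in
/-- Degree-one generators of the irrelevant ideal generate the algebra. -/
theorem surjective_algebraMap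
    (h1 : ∀ x ∈ 𝒜 1, x ∈ (algebraMap (MvPolynomial (Fin N) k) R).range) :
    Function.Surjective (algebraMap (MvPolynomial (Fin N) k) R) := by
  rw [← RingHom.range_eq_top, eq_top_iff]
  intro x hx
  clear hx
  induction x using homogeneous_induction 𝒜 with
  | zero => exact zero_mem _
  | add a b ha hb => exact add_mem ha hb
  | hom g x hx =>
    induction hg : g.toNat generalizing g x with
    | zero =>
      rcases eq_or_lt_of_le (show g ≤ 0 by omega) with rfl | hneg
      · obtain ⟨c, rfl⟩ := (hk0 x).1 hx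
        exact ⟨algebraMap k _ c, (IsScalarTower.algebraMap_apply k _ R c).symm⟩
      · rw [hpos g hneg x hx]; exact zero_mem _
    | succ t ih =>
      have hI : x ∈ (_root_.GrSyz.irrel 𝒜).toIdeal := GrSyz.mem_irrel_of_pos (by omega) hx
      rw [hlin] at hI
      have key : ∀ v ∈ Ideal.span ((𝒜 1 : AddSubgroup R) : Set R), ∀ w : R,
          cpt 𝒜 g (w * v) ∈ (algebraMap (MvPolynomial (Fin N) k) R).range := by
        intro v hv
        induction hv using Submodule.span_induction with
        | mem y hy =>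
          intro w
          rw [← smul_eq_mul, cpt_smul_right' (𝒜 := 𝒜) 𝒜 hy]
          exact mul_mem (ih (g - 1) _ (cpt_mem 𝒜 _ _) (by omega)) (h1 y hy)
        | zero => intro w; rw [mul_zero, map_zero]; exact zero_mem _
        | add a b _ _ ha hb => intro w; rw [mul_add, map_add]; exact add_mem (ha w) (hb w)
        | smul a v _ hv => intro w; rw [smul_eq_mul, ← mul_assoc]; exact hv _
      have := key x hI 1
      rwa [one_mul, cpt_of_mem 𝒜 hx] at this

include hpos hk0 hlin hX in
/-- A presentation injective in degree one with `a(R) = -dim R` is an isomorphism. -/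
theorem injective_algebraMap [LocCoh.IsCohenMacaulayRing R] (h0 : IsField (_root_.GrLC.deg0 𝒜))
    (hs : Function.Surjective (algebraMap (MvPolynomial (Fin N) k) R))
    (hli : ∀ a : Fin N → k,
      ∑ i, a i • algebraMap (MvPolynomial (Fin N) k) R (MvPolynomial.X i) = 0 → ∀ i, a i = 0)
    {r : ℕ} (hr : ringKrullDim R = r)
    (ha : ∀ n : ℤ, -(r : ℤ) < n → LC.gr 𝒜 (_root_.GrSyz.irrel 𝒜) r n = ⊥) :
    Function.Injective (algebraMap (MvPolynomial (Fin N) k) R) := by
  haveI := gradedSMul (N := N) hk0 hX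
  let f : MvPolynomial (Fin N) k →ₗ[MvPolynomial (Fin N) k] R := Algebra.linearMap _ R
  have hf : _root_.GrLC.IsGrHom (_root_.GrSyz.stdGr k (Fin N)) 𝒜 f :=
    fun _ _ hp => algebraMap_mem hk0 hX hp
  have hK : (LinearMap.ker f).IsHomogeneous (_root_.GrSyz.stdGr k (Fin N)) :=
    isHomogeneous_ker (𝒩 := 𝒜) (_root_.GrSyz.stdGr k (Fin N)) hf
  let I := subGMod (_root_.GrSyz.stdGr k (Fin N)) (_root_.GrSyz.stdGr k (Fin N)) hK
  let ι : I.carrier →ₗ[MvPolynomial (Fin N) k] MvPolynomial (Fin N) k := (LinearMap.ker f).subtype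
  have hι : _root_.GrLC.IsGrHom I.gr (_root_.GrSyz.stdGr k (Fin N)) ι := fun _ _ h => h
  have hS : GrSyz.CohReg k N (_root_.GrSyz.stdGr k (Fin N)) 1 := fun p n hn =>
    GrSyz.gr_poly_eq_bot k N (by by_cases hp : p = N <;> [right; left] <;> omega)
  have hR : GrSyz.CohReg k N 𝒜 (1 - 1) := fun p n hn =>
    (gr_compare hpos hk0 hX hs hlin h0 hr p n).2 fun hp => ha n (by subst hp; omega)
  have hI : GrSyz.CohReg k N I.gr 1 :=
    GrSyz.cohReg_left (f := ι) (g := f) (Submodule.injective_subtype _)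
      (LinearMap.exact_subtype_ker_map f) hs hι hf hS hR
  let T := toGMod (_root_.GrSyz.stdGr k (Fin N)) I.gr
  let t : I.carrier →ₗ[MvPolynomial (Fin N) k] T.carrier := LinearMap.id
  have ht : _root_.GrLC.IsGrHom I.gr T.gr t := fun _ _ h => h
  have hgen := mem_span_of_reg (ℳ := I.gr) (irrelS k N) (GrSyz.irrelS_eq_span_one k N)
    (r := 1) (fun i m hm => (LC.gr_eq_bot_iff_of_bijective (f := t) (irrelS k N) i
      Function.bijective_id ht m).1 (hI i m hm))
  have hbot : Submodule.span (MvPolynomial (Fin N) k) {x : I.carrier | ∃ j, j ≤ 1 ∧ x ∈ I.gr j} = ⊥ := by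
    refine Submodule.span_eq_bot.2 ?_
    rintro ⟨p, hp⟩ ⟨j, hj, hpj⟩
    have hpj' : p ∈ _root_.GrSyz.stdGr k (Fin N) j := hpj
    have hp0 : algebraMap (MvPolynomial (Fin N) k) R p = 0 := hp
    apply Subtype.ext
    change p = 0
    rcases lt_trichotomy j 0 with hj0 | rfl | hj0
    · exact GrSyz.stdGr_eq_zero_of_neg j hj0 p hpj'
    · rw [GrSyz.stdGr_zero_eq_C hpj'] at hp0 ⊢
      rw [← MvPolynomial.algebraMap_eq, ← IsScalarTower.algebraMap_apply] at hp0
      haveI : Nontrivial R := by
        obtain ⟨x, y, hxy⟩ := h0.exists_pair_ne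
        exact ⟨⟨x, y, fun h => hxy (Subtype.ext h)⟩⟩
      rw [(algebraMap k R).injective (hp0.trans (map_zero _).symm), map_zero]
    · obtain rfl : j = 1 := by omega
      obtain ⟨a, rfl⟩ := eq_linear hpj'
      have h2 : ∑ i, a i • algebraMap (MvPolynomial (Fin N) k) R (MvPolynomial.X i) = 0 := by
        rw [← hp0, map_sum]
        exact Finset.sum_congr rfl fun i _ => ((Algebra.linearMap (MvPolynomial (Fin N) k) R).map_smul_of_tower (a i) (MvPolynomial.X i)).symm
      exact Finset.sum_eq_zero fun i _ => by rw [hli a h2 i, zero_smul]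
  rw [injective_iff_map_eq_zero]
  intro p hp
  refine eq_zero_of_cpt (_root_.GrSyz.stdGr k (Fin N)) fun g => ?_
  have hmem : cpt (_root_.GrSyz.stdGr k (Fin N)) g p ∈ LinearMap.ker f :=
    (isHomogeneous_iff (_root_.GrSyz.stdGr k (Fin N))).1 hK p hp g
  have := hgen g ⟨_, hmem⟩ (cpt_mem (_root_.GrSyz.stdGr k (Fin N)) g p)
  rw [hbot] at this
  have h0' : (⟨_, hmem⟩ : I.carrier) = 0 := (Submodule.mem_bot (MvPolynomial (Fin N) k) (M := I.carrier)).1 this
  exact congrArg Subtype.val h0'

end Presentation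

include hpos in
/-- If the local ring at the *maximal ideal is regular then `R₁` needs at most `dim R` generators. -/
theorem exists_span_one [IsRegularRing R] (h0 : IsField (_root_.GrLC.deg0 𝒜)) {r : ℕ}
    (hr : ringKrullDim R = r) :
    ∃ s : Finset R, s.card ≤ r ∧ ∀ x ∈ 𝒜 1, x ∈
      Submodule.span (_root_.GrLC.deg0 𝒜) ((fun a => cpt 𝒜 1 a) '' (s : Set R)) := by
  classical
  have hm := isStarLocal_irrel hpos h0
  let m := (_root_.GrSyz.irrel 𝒜).toIdeal
  haveI : m.IsMaximal := starLocal_isMaximal hpos _ hm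
  let L := Localization.AtPrime m
  haveI : IsRegularLocalRing L := IsRegularRing.isRegularLocalRing_localization m
  have hdim : (IsLocalRing.maximalIdeal L).spanFinrank = r := by
    have h := IsRegularLocalRing.spanFinrank_maximalIdeal (R := L)
    rw [IsLocalization.AtPrime.ringKrullDim_eq_height m L,
      height_starLocal_eq_ringKrullDim hpos _ hm, hr] at h
    exact_mod_cast h
  obtain ⟨g, hgc, hg⟩ :=
    Submodule.FG.exists_span_finset_card_eq_spanFinrank (IsNoetherian.noetherian (IsLocalRing.maximalIdeal L))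
  have hnum : ∀ y ∈ g, ∃ a ∈ m, ∃ s : m.primeCompl, y * algebraMap R L s = algebraMap R L a := by
    intro y hy
    have hy' : y ∈ IsLocalRing.maximalIdeal L := hg ▸ Submodule.subset_span hy
    rw [← Localization.AtPrime.map_eq_maximalIdeal] at hy'
    obtain ⟨⟨a, s⟩, h⟩ := (IsLocalization.mem_map_algebraMap_iff m.primeCompl L).1 hy'
    exact ⟨a.1, a.2, s, h⟩
  choose a ham s hs using hnum
  refine ⟨Finset.univ.image fun y : g => a y.1 y.2, ?_, fun x hx => ?_⟩
  · refine Finset.card_image_le.trans (le_of_eq ?_)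
    rw [Finset.card_univ, Fintype.card_coe, hgc, hdim]
  · have hmap : m.map (algebraMap R L) ≤
        (Ideal.span ((Finset.univ.image fun y : g => a y.1 y.2 : Finset R) : Set R)).map (algebraMap R L) := by
      rw [Localization.AtPrime.map_eq_maximalIdeal, ← hg]
      refine Submodule.span_le.2 fun y hy => ?_
      have hu : IsUnit (algebraMap R L (s y hy : R)) := IsLocalization.map_units L _
      rw [SetLike.mem_coe, ← Ideal.mul_unit_mem_iff_mem _ hu, hs y hy]
      exact Ideal.mem_map_of_mem _ (Ideal.subset_span (Finset.mem_image.2 ⟨⟨y, hy⟩, Finset.mem_univ _, rfl⟩))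
    have hxm : algebraMap R L x ∈ m.map (algebraMap R L) :=
      Ideal.mem_map_of_mem _ (GrSyz.mem_irrel_of_pos zero_lt_one hx)
    obtain ⟨⟨b, t⟩, hbt⟩ := (IsLocalization.mem_map_algebraMap_iff m.primeCompl L).1 (hmap hxm)
    rw [← map_mul] at hbt
    obtain ⟨u, hu⟩ := (IsLocalization.eq_iff_exists m.primeCompl L).1 hbt
    have hut : (u : R) * t ∉ m := (m.primeCompl.mul_mem u.2 t.2 : _)
    have hb : (u : R) * t * x ∈
        Ideal.span ((Finset.univ.image fun y : g => a y.1 y.2 : Finset R) : Set R) := by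
      rw [mul_assoc, mul_comm (t : R), hu]
      exact Ideal.mul_mem_left _ _ b.2
    have hc0 : cpt 𝒜 0 ((u : R) * t) ≠ 0 := fun h => hut ((GrSyz.mem_irrel_iff hpos).2 h)
    obtain ⟨c, hc⟩ := h0.mul_inv_cancel (a := ⟨cpt 𝒜 0 ((u : R) * t), cpt_mem 𝒜 0 _⟩)
      fun h => hc0 (congrArg Subtype.val h)
    have h1 : ∀ v ∈ Ideal.span ((Finset.univ.image fun y : g => a y.1 y.2 : Finset R) : Set R),
        ∀ w : R, cpt 𝒜 1 (w * v) ∈ Submodule.span (_root_.GrLC.deg0 𝒜)
          ((fun e => cpt 𝒜 1 e) '' ((Finset.univ.image fun y : g => a y.1 y.2 : Finset R) : Set R)) := by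
      intro v hv
      induction hv using Submodule.span_induction with
      | mem z hz =>
        intro w
        obtain ⟨y, -, rfl⟩ := Finset.mem_image.1 hz
        have ha0 : cpt 𝒜 0 (a y.1 y.2) = 0 := (GrSyz.mem_irrel_iff hpos).1 (ham y.1 y.2)
        have e : cpt 𝒜 1 (w * a y.1 y.2) = cpt 𝒜 0 w * cpt 𝒜 1 (a y.1 y.2) := by
          induction w using homogeneous_induction 𝒜 with
          | zero => simp
          | add p q hp hq => rw [add_mul, map_add, map_add, hp, hq, add_mul]
          | hom j p hp =>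
            rw [← smul_eq_mul, cpt_smul_left' (𝒜 := 𝒜) 𝒜 hp, cpt_of_mem_ite 𝒜 0 hp, smul_eq_mul]
            rcases lt_trichotomy j 0 with hj | rfl | hj
            · rw [hpos j hj p hp, zero_mul, if_neg hj.ne, zero_mul]
            · rw [sub_zero, if_pos rfl]
            · rw [if_neg hj.ne', zero_mul]
              rcases eq_or_lt_of_le (show (1 : ℤ) ≤ j by omega) with rfl | hj1
              · rw [sub_self, ha0, mul_zero]
              · rw [hpos (1 - j) (by omega) _ (cpt_mem 𝒜 _ _), mul_zero]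
        rw [e]
        exact Submodule.smul_mem _ (⟨cpt 𝒜 0 w, cpt_mem 𝒜 0 w⟩ : _root_.GrLC.deg0 𝒜)
          (Submodule.subset_span ⟨_, hz, rfl⟩)
      | zero => intro w; rw [mul_zero, map_zero]; exact zero_mem _
      | add p q _ _ hp hq => intro w; rw [mul_add, map_add]; exact add_mem (hp w) (hq w)
      | smul p v _ hv => intro w; rw [smul_eq_mul, ← mul_assoc]; exact hv _
    have h2 := h1 _ hb 1
    rw [one_mul, ← smul_eq_mul, cpt_smul_right' (𝒜 := 𝒜) 𝒜 hx, sub_self, smul_eq_mul] at h2
    have h3 := Submodule.smul_mem _ c h2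
    convert h3 using 1
    change x = (c : R) * (cpt 𝒜 0 ((u : R) * t) * x)
    rw [← mul_assoc, mul_comm (c : R), show cpt 𝒜 0 ((u : R) * t) * (c : R) = 1 from
      congrArg Subtype.val hc, one_mul]

section Main

variable [LocCoh.IsCohenMacaulayRing R] {r : ℕ} (hr : ringKrullDim R = r)

omit [Algebra k R] in
include hpos hlin hr in
/-- `a(R) ≤ -dim R` exactly for polynomial rings. -/
theorem iff_ringEquiv (h0 : IsField (_root_.GrLC.deg0 𝒜)) :
    (∀ n : ℤ, -(r : ℤ) < n → LC.gr 𝒜 (_root_.GrSyz.irrel 𝒜) r n = ⊥) ↔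
      Nonempty (R ≃+* MvPolynomial (Fin r) (_root_.GrLC.deg0 𝒜)) := by
  classical
  letI := h0.toField
  letI : Algebra (_root_.GrLC.deg0 𝒜) R := (_root_.GrLC.deg0 𝒜).subtype.toAlgebra
  have hk0 : ∀ x, x ∈ 𝒜 0 ↔ ∃ c, algebraMap (_root_.GrLC.deg0 𝒜) R c = x :=
    fun x => ⟨fun hx => ⟨⟨x, hx⟩, rfl⟩, by rintro ⟨c, rfl⟩; exact c.2⟩
  haveI hfin : Module.Finite (_root_.GrLC.deg0 𝒜) (piece (𝒜 := 𝒜) hk0 1) := by
    obtain ⟨t, ht⟩ := (finite_comp hpos 𝒜 1).fg_top
    refine Module.Finite.of_fg (Submodule.fg_def.2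
      ⟨Subtype.val '' (t : Set (_root_.GrLC.comp 𝒜 𝒜 1)), t.finite_toSet.image _,
        le_antisymm (Submodule.span_le.2 ?_) fun x hx => ?_⟩)
    · rintro _ ⟨y, -, rfl⟩; exact y.2
    · have key : ∀ y : _root_.GrLC.comp 𝒜 𝒜 1, y.1 ∈ Submodule.span (_root_.GrLC.deg0 𝒜)
          (Subtype.val '' (t : Set (_root_.GrLC.comp 𝒜 𝒜 1))) := fun y => by
        have hy : y ∈ Submodule.span (_root_.GrLC.deg0 𝒜) (t : Set (_root_.GrLC.comp 𝒜 𝒜 1)) :=
          ht ▸ Submodule.mem_top
        induction hy using Submodule.span_induction with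
        | mem z hz => exact Submodule.subset_span ⟨z, hz, rfl⟩
        | zero => exact zero_mem _
        | add a b _ _ ha hb => exact add_mem ha hb
        | smul c z _ hz => exact Submodule.smul_mem _ c hz
      exact key ⟨x, hx⟩
  let W := piece (𝒜 := 𝒜) hk0 1
  let N := Module.finrank (_root_.GrLC.deg0 𝒜) W
  let b : Module.Basis (Fin N) (_root_.GrLC.deg0 𝒜) W := Module.finBasis _ W
  let w : Fin N → R := fun i => (b i : R)
  letI : Algebra (MvPolynomial (Fin N) (_root_.GrLC.deg0 𝒜)) R :=
    (MvPolynomial.aeval w).toRingHom.toAlgebra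
  haveI : IsScalarTower (_root_.GrLC.deg0 𝒜) (MvPolynomial (Fin N) (_root_.GrLC.deg0 𝒜)) R :=
    IsScalarTower.of_algebraMap_eq fun c => ((MvPolynomial.aeval w).commutes c).symm
  have hXw : ∀ i, algebraMap (MvPolynomial (Fin N) (_root_.GrLC.deg0 𝒜)) R (MvPolynomial.X i) = w i :=
    fun i => MvPolynomial.aeval_X w i
  have hX : ∀ i, algebraMap (MvPolynomial (Fin N) (_root_.GrLC.deg0 𝒜)) R (MvPolynomial.X i) ∈ 𝒜 1 :=
    fun i => by rw [hXw]; exact (b i).2
  have hs : Function.Surjective (algebraMap (MvPolynomial (Fin N) (_root_.GrLC.deg0 𝒜)) R) := by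
    refine surjective_algebraMap hpos hk0 hlin fun x hx => ?_
    refine ⟨∑ i, b.repr ⟨x, hx⟩ i • MvPolynomial.X i, ?_⟩
    rw [map_sum]
    have h := congrArg Subtype.val (b.sum_repr ⟨x, hx⟩)
    rw [Submodule.coe_sum] at h
    refine Eq.trans (Finset.sum_congr rfl fun i _ => ?_) h
    rw [MvPolynomial.smul_eq_C_mul, map_mul, hXw, Submodule.coe_smul, Algebra.smul_def,
      ← MvPolynomial.algebraMap_eq, ← IsScalarTower.algebraMap_apply]
  have hdS : ringKrullDim (MvPolynomial (Fin N) (_root_.GrLC.deg0 𝒜)) = (N : ℕ) := by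
    rw [MvPolynomial.ringKrullDim_of_isNoetherianRing, ringKrullDim_eq_zero_of_field]
    simp
  constructor
  · intro ha
    have hinj := injective_algebraMap hpos hk0 hlin hX h0 hs (fun a h i => ?_) hr ha
    · let e := RingEquiv.ofBijective _ (show Function.Bijective
        (algebraMap (MvPolynomial (Fin N) (_root_.GrLC.deg0 𝒜)) R) from ⟨hinj, hs⟩)
      have hN : N = r := by
        have := ringKrullDim_eq_of_ringEquiv e
        rw [hdS, hr] at this
        exact_mod_cast this
      exact ⟨e.symm.trans (MvPolynomial.renameEquiv _ (finCongr hN)).toRingEquiv⟩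
    · simp only [hXw] at h
      have h' : ∑ i, a i • b i = 0 := Subtype.ext (by
        rw [Submodule.coe_sum]; exact h)
      exact Fintype.linearIndependent_iff.1 b.linearIndependent a h' i
  · rintro ⟨e⟩ n hn
    haveI : IsRegularRing (MvPolynomial (Fin r) (_root_.GrLC.deg0 𝒜)) := inferInstance
    haveI : IsRegularRing R := IsRegularRing.of_ringEquiv e.symm
    obtain ⟨s, hsc, hspan⟩ := exists_span_one hpos h0 hr
    have hNr : N ≤ r := by
      have hle : W ≤ Submodule.span (_root_.GrLC.deg0 𝒜)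
          (((s.image fun a => cpt 𝒜 1 a) : Finset R) : Set R) := fun x hx => by
        rw [Finset.coe_image]
        have h := hspan x hx
        clear hx
        induction h using Submodule.span_induction with
        | mem z hz => exact Submodule.subset_span hz
        | zero => exact zero_mem _
        | add a b _ _ ha hb => exact add_mem ha hb
        | smul c z _ hz => exact Submodule.smul_mem _ c hz
      exact (Submodule.finrank_mono hle).trans
        ((finrank_span_finset_le_card _).trans (Finset.card_image_le.trans hsc))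
    have hrN : r = N := by
      have := ringKrullDim_le_of_surjective _ hs
      rw [hr, hdS] at this
      have : r ≤ N := by exact_mod_cast this
      omega
    subst hrN
    have hinj : Function.Injective (algebraMap (MvPolynomial (Fin N) (_root_.GrLC.deg0 𝒜)) R) := by
      rw [injective_iff_map_eq_zero]
      intro p hp
      by_contra hne
      have := ringKrullDim_succ_le_of_surjective _ hs (mem_nonZeroDivisors_of_ne_zero hne) hp
      rw [hr, hdS] at this
      have h2 : N + 1 ≤ N := by exact_mod_cast this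
      omega
    haveI := gradedSMul (N := N) hk0 hX
    refine (gr_compare hpos hk0 hX hs hlin h0 hr N n).1 ?_ rfl
    have hf : _root_.GrLC.IsGrHom (_root_.GrSyz.stdGr (_root_.GrLC.deg0 𝒜) (Fin N)) 𝒜
        (Algebra.linearMap (MvPolynomial (Fin N) (_root_.GrLC.deg0 𝒜)) R) :=
      fun _ _ hp => algebraMap_mem hk0 hX hp
    exact (LC.gr_eq_bot_iff_of_bijective (irrelS _ N) N
      (f := Algebra.linearMap (MvPolynomial (Fin N) (_root_.GrLC.deg0 𝒜)) R) ⟨hinj, hs⟩ hf n).1
      (GrSyz.gr_poly_eq_bot _ N (Or.inr hn))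

end Main

end Groth.Agent.GrLC.PolyChar
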