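import Groth.Agent.GrLC.IrrelEuler
import Groth.Prelude.Def_ReesMod

/-!
# Hilbert–Samuel polynomial and local cohomology of the Rees module

The two exact sequences `0 → W → M* → G → 0` and `0 → W → M*(1) → M → 0`, with `W ⊆ M*` the elements
whose `n`-th coefficient lies in `I^{n+1}M`, give
`P(n) - ℓ(M/IⁿM) = ∑ (-1)^i ℓ(H^i_{R₊}(M*)_n)` for `n ≥ 0`.
-/

set_option autoImplicit false
set_option linter.unusedSectionVars false
set_option linter.style.haveILetI false
set_option maxRecDepth 20000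
universe u

open DirectSum

noncomputable section

namespace Groth.Agent.GrLC.ReesEuler

/-- Lengths agree along a semilinear additive equivalence over a surjective ring map. -/
theorem length_eq_of_semilinear {A B : Type u} [CommRing A] [CommRing B] (φ : A →+* B)
    (hφ : Function.Surjective φ) {M N : Type u} [AddCommGroup M] [Module A M] [AddCommGroup N]
    [Module B N] (e : M ≃+ N) (h : ∀ (a : A) (x : M), e (a • x) = φ a • e x) :
    Module.length A M = Module.length B N := by
  letI : Algebra A B := φ.toAlgebra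
  letI : Module A N := Module.compHom N φ
  haveI : IsScalarTower A B N := ⟨fun a b x => by
    change (φ a * b) • x = φ a • (b • x)
    rw [mul_smul]⟩
  let e' : M ≃ₗ[A] N := { e with map_smul' := h }
  rw [e'.length_eq]
  exact Module.length_eq_of_surjective (R := B) (M := N) hφ

variable {A : Type u} [CommRing A] [IsNoetherianRing A] (I : Ideal A)
  (M : Type u) [AddCommGroup M] [Module A M]


theorem hpos : ∀ n : ℤ, n < 0 → ∀ x ∈ Rees.degZ (reesAlgebra I) n, x = 0 := fun n hn x hx =>
  Subtype.ext (Polynomial.ext fun m => by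
    rw [(Rees.mem_degZ_iff _ n x).1 hx m (by omega)]
    simp)

/-- `A → R₀`. -/
def toDeg0 : A →+* _root_.GrLC.deg0 (Rees.degZ (reesAlgebra I)) :=
  (algebraMap A ↥(reesAlgebra I)).codRestrict _ fun a => by
    show algebraMap A ↥(reesAlgebra I) a ∈ Rees.degZ (reesAlgebra I) 0
    rw [Rees.mem_degZ_iff]
    intro m hm
    change (Polynomial.C a).coeff m = 0
    rw [Polynomial.coeff_C, if_neg]
    omega

theorem coe_toDeg0 (a : A) : ((toDeg0 I a : ↥(reesAlgebra I)) : Polynomial A) = Polynomial.C a := rfl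

theorem toDeg0_surjective : Function.Surjective (toDeg0 I) := fun x => by
  refine ⟨((x : ↥(reesAlgebra I)) : Polynomial A).coeff 0, Subtype.ext (Subtype.ext (Polynomial.ext fun m => ?_))⟩
  rw [coe_toDeg0, Polynomial.coeff_C]
  split_ifs with h
  · rw [h]
  · exact ((Rees.mem_degZ_iff _ 0 (x : ↥(reesAlgebra I))).1 x.2 m (by omega)).symm

/-- The Rees module as a bundled graded module. -/
def Y : _root_.GrLC.GMod.{u} (Rees.degZ (reesAlgebra I)) :=
  { carrier := ((Rees.powFilt I M)).submodule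
    gr := Rees.mdegZ (Rees.powFilt I M) }


/-- The underlying element of `M[X]`. -/
def pm (x : (Y I M).carrier) : PolynomialModule A M := Subtype.val x

theorem pm_prop (x : (Y I M).carrier) (m : ℕ) : (pm I M x).coeff m ∈ (Rees.powFilt I M).N m :=
  (show ↥(Rees.powFilt I M).submodule from x).2 m

theorem pm_ext {x y : (Y I M).carrier} (h : ∀ m, (pm I M x).coeff m = (pm I M y).coeff m) : x = y :=
  Subtype.ext (PolynomialModule.ext (Finsupp.ext h))

theorem pm_add (x y : (Y I M).carrier) : pm I M (x + y) = pm I M x + pm I M y := rfl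

theorem pm_zero : pm I M 0 = 0 := rfl

theorem pm_smul (p : ↥(reesAlgebra I)) (x : (Y I M).carrier) :
    pm I M (p • x) = (p : Polynomial A) • pm I M x := rfl

theorem mem_gr_Y {g : ℤ} {x : (Y I M).carrier} :
    x ∈ (Y I M).gr g ↔ ∀ m : ℕ, (m : ℤ) ≠ g → (pm I M x).coeff m = 0 := Iff.rfl

theorem finite_Y [Module.Finite A M] : Module.Finite ↥(reesAlgebra I) (Y I M).carrier :=
  Module.Finite.iff_fg.2 ((((Rees.powFilt I M)).submodule_fg_iff_stable fun _ => IsNoetherian.noetherian _).2
    (Ideal.stableFiltration_stable I ⊤))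

theorem N_eq (k : ℕ) : ((Rees.powFilt I M)).N k = I ^ k • (⊤ : Submodule A M) := rfl

theorem coeff_cpt (g : ℤ) (z : (Y I M).carrier) (m : ℕ) :
    (pm I M (cpt (Y I M).gr g z)).coeff m = if (m : ℤ) = g then (pm I M z).coeff m else 0 := by
  induction z using homogeneous_induction (ℳ := (Y I M).gr) generalizing m with
  | zero => rw [map_zero, pm_zero]; simp
  | hom h x hx =>
    have hx' := (mem_gr_Y I M).1 hx
    rw [cpt_of_mem_ite (Y I M).gr g hx]
    by_cases hhg : h = g
    · subst hhg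
      rw [if_pos rfl]
      split_ifs with hm
      · rfl
      · exact hx' m hm
    · rw [if_neg hhg, pm_zero]
      split_ifs with hm
      · exact (hx' m (by omega)).symm
      · rfl
  | add x y hx hy =>
    rw [map_add, pm_add, pm_add, PolynomialModule.coeff_add, Finsupp.add_apply, hx m, hy m]
    split_ifs with hm
    · rfl
    · simp

/-- The elements whose `n`-th coefficient lies in `I^{n+1}M`. -/
def W : Submodule ↥(reesAlgebra I) (Y I M).carrier where
  carrier := {z | ∀ m, (pm I M z).coeff m ∈ ((Rees.powFilt I M)).N (m + 1)}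
  zero_mem' m := Submodule.zero_mem _
  add_mem' {x y} hx hy m := Submodule.add_mem _ (hx m) (hy m)
  smul_mem' p z hz m := by
    rw [pm_smul, PolynomialModule.smul_apply]
    refine Submodule.sum_mem _ fun q hq => ?_
    rw [Finset.mem_antidiagonal] at hq
    have h := ((Rees.powFilt I M)).pow_smul_le q.1 (q.2 + 1) (Submodule.smul_mem_smul (p.2 q.1) (hz q.2))
    rwa [← Nat.add_assoc, hq] at h

theorem mem_W {z : (Y I M).carrier} : z ∈ W I M ↔ ∀ m, (pm I M z).coeff m ∈ ((Rees.powFilt I M)).N (m + 1) := Iff.rfl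

theorem isHomogeneous_W : (W I M).IsHomogeneous (Y I M).gr := by
  rw [isHomogeneous_iff]
  intro z hz g m
  rw [coeff_cpt]
  split_ifs
  · exact hz m
  · exact Submodule.zero_mem _

/-- `W` as a graded module. -/
abbrev X1 : _root_.GrLC.GMod.{u} (Rees.degZ (reesAlgebra I)) :=
  subGMod (Rees.degZ (reesAlgebra I)) (Y I M).gr (isHomogeneous_W I M)

/-- The associated graded module. -/
abbrev G : _root_.GrLC.GMod.{u} (Rees.degZ (reesAlgebra I)) :=
  quoGMod (Rees.degZ (reesAlgebra I)) (Y I M).gr (isHomogeneous_W I M)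

/-- `M*(1)`. -/
abbrev Y2 : _root_.GrLC.GMod.{u} (Rees.degZ (reesAlgebra I)) :=
  shiftGMod (Rees.degZ (reesAlgebra I)) (Y I M).gr 1

/-- An element of `M*` from its underlying element. -/
def mkY (p : PolynomialModule A M) (h : ∀ m, p.coeff m ∈ (Rees.powFilt I M).N m) : (Y I M).carrier :=
  (⟨p, h⟩ : ↥(Rees.powFilt I M).submodule)

theorem pm_mkY (p : PolynomialModule A M) (h) : pm I M (mkY I M p h) = p := rfl

/-- Multiplication by `X`. -/
def mulX : ↥(W I M) →ₗ[↥(reesAlgebra I)] (Y I M).carrier where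
  toFun z := mkY I M ((Polynomial.monomial 1 (1 : A)) • pm I M z.1) fun m => by
    rw [PolynomialModule.monomial_smul_apply]
    split_ifs with h
    · rw [one_smul]
      have := z.2 (m - 1)
      rwa [Nat.sub_add_cancel h] at this
    · exact Submodule.zero_mem _
  map_add' x y := Subtype.ext (smul_add _ _ _)
  map_smul' p z := Subtype.ext (smul_comm (Polynomial.monomial 1 (1 : A)) (p : Polynomial A) _)

theorem coeff_mulX (z : ↥(W I M)) (m : ℕ) :
    (pm I M (mulX I M z)).coeff (m + 1) = (pm I M z.1).coeff m := by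
  change ((Polynomial.monomial 1 (1 : A)) • pm I M z.1).coeff (m + 1) = _
  rw [PolynomialModule.monomial_smul_apply, if_pos (Nat.le_add_left 1 m), one_smul, Nat.add_sub_cancel]

theorem coeff_mulX_zero (z : ↥(W I M)) : (pm I M (mulX I M z)).coeff 0 = 0 := by
  change ((Polynomial.monomial 1 (1 : A)) • pm I M z.1).coeff 0 = _
  rw [PolynomialModule.monomial_smul_apply, if_neg (by omega)]

theorem mulX_injective : Function.Injective (mulX I M) := fun x y h =>
  Subtype.ext (pm_ext I M fun m => by rw [← coeff_mulX, ← coeff_mulX, h])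

theorem mem_range_mulX {y : (Y I M).carrier} :
    y ∈ LinearMap.range (mulX I M) ↔ (pm I M y).coeff 0 = 0 := by
  constructor
  · rintro ⟨z, rfl⟩
    exact coeff_mulX_zero I M z
  · intro h
    let c : ℕ →₀ M := (pm I M y).coeff.comapDomain (fun m => m + 1)
      (fun _ _ _ _ h => Nat.succ_injective h)
    have hc : ∀ m, c m = (pm I M y).coeff (m + 1) := fun m => Finsupp.comapDomain_apply _ _ _ _
    refine ⟨⟨mkY I M (PolynomialModule.ofCoeff A c) fun m => ?_, fun m => ?_⟩,
      pm_ext I M fun m => ?_⟩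
    · rw [PolynomialModule.coeff_ofCoeff, hc]
      exact (Rees.powFilt I M).antitone (Nat.le_succ m) (pm_prop I M y (m + 1))
    · change c m ∈ _
      rw [hc]
      exact pm_prop I M y (m + 1)
    · rcases m with _ | m
      · rw [coeff_mulX_zero, h]
      · rw [coeff_mulX]
        exact hc m

/-- `mulX` between the bundled modules. -/
def mulX' : (X1 I M).carrier →ₗ[↥(reesAlgebra I)] (Y2 I M).carrier := mulX I M

theorem mulX'_injective : Function.Injective (mulX' I M) := mulX_injective I M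

theorem mem_range_mulX' {y : (Y2 I M).carrier} :
    y ∈ LinearMap.range (mulX' I M) ↔ (pm I M y).coeff 0 = 0 := mem_range_mulX I M

theorem mulX_isGrHom : _root_.GrLC.IsGrHom (X1 I M).gr (Y2 I M).gr (mulX' I M) := by
  intro g z hz
  change mulX I M z ∈ (Y I M).gr (g + 1)
  rw [mem_gr_Y]
  intro m hm
  rcases m with _ | m
  · exact coeff_mulX_zero I M z
  · rw [coeff_mulX]
    exact (mem_gr_Y I M).1 hz m (by push_cast at hm; omega)

theorem isHomogeneous_rangeX : (LinearMap.range (mulX' I M)).IsHomogeneous (Y2 I M).gr :=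
  isHomogeneous_range (X1 I M).gr (mulX_isGrHom I M)

/-- `M` placed in degree `-1`. -/
abbrev Z2 : _root_.GrLC.GMod.{u} (Rees.degZ (reesAlgebra I)) :=
  quoGMod (Rees.degZ (reesAlgebra I)) (Y2 I M).gr (isHomogeneous_rangeX I M)

theorem Z2_eq_zero {n : ℤ} (hn : n ≠ -1) {z : (Z2 I M).carrier} (hz : z ∈ (Z2 I M).gr n) : z = 0 := by
  obtain ⟨y, hy, rfl⟩ := hz
  refine (Submodule.Quotient.mk_eq_zero _).2 ((mem_range_mulX' I M).2 ?_)
  exact (mem_gr_Y I M).1 hy 0 (by push_cast; omega)

theorem Z2_torsion (z : (Z2 I M).carrier) :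
    z ∈ _root_.GrLC.gam ((_root_.GrSyz.irrel (Rees.degZ (reesAlgebra I)))).toIdeal (Z2 I M).carrier := by
  refine ⟨1, fun r hr => ?_⟩
  rw [pow_one] at hr
  obtain ⟨y, rfl⟩ := Submodule.mkQ_surjective (LinearMap.range (mulX' I M)) z
  refine ((map_smul (LinearMap.range (mulX' I M)).mkQ r y).symm).trans
    ((Submodule.Quotient.mk_eq_zero _).2 ((mem_range_mulX' I M).2 ?_))
  change ((r : Polynomial A) • pm I M y).coeff 0 = 0
  rw [PolynomialModule.smul_apply, Finset.Nat.antidiagonal_zero, Finset.sum_singleton]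
  have h0 : ((r : ↥(reesAlgebra I)) : Polynomial A).coeff 0 = 0 := by
    induction hr using Submodule.span_induction with
    | mem x hx =>
      obtain ⟨n, hn, hxn⟩ := hx
      exact (Rees.mem_degZ_iff _ n x).1 hxn 0 (by push_cast; omega)
    | zero => simp
    | add x y _ _ hx hy =>
      change ((x : Polynomial A) + (y : Polynomial A)).coeff 0 = 0
      rw [Polynomial.coeff_add, hx, hy, add_zero]
    | smul c x _ hx =>
      change ((c : Polynomial A) * (x : Polynomial A)).coeff 0 = 0
      rw [Polynomial.mul_coeff_zero, hx, mul_zero]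
  rw [h0, zero_smul]

/-- The degree-`k` monomial. -/
def mono (k : ℕ) : (Rees.powFilt I M).N k →+ (Y I M).carrier where
  toFun a := mkY I M (PolynomialModule.single A k (a : M)) fun m => by
    rw [PolynomialModule.coeff_single, Finsupp.single_apply]
    split_ifs with h
    · subst h; exact a.2
    · exact Submodule.zero_mem _
  map_zero' := Subtype.ext (PolynomialModule.single_zero k)
  map_add' a b := Subtype.ext (PolynomialModule.single_add k _ _)

theorem pm_mono (k : ℕ) (a : (Rees.powFilt I M).N k) :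
    pm I M (mono I M k a) = PolynomialModule.single A k (a : M) := rfl

theorem mono_mem (k : ℕ) (a : (Rees.powFilt I M).N k) : mono I M k a ∈ (Y I M).gr (k : ℤ) :=
  (mem_gr_Y I M).2 fun m hm => by
    rw [pm_mono, PolynomialModule.coeff_single, Finsupp.single_eq_of_ne (by omega)]

theorem mono_mem_W_iff (k : ℕ) (a : (Rees.powFilt I M).N k) :
    mono I M k a ∈ W I M ↔ (a : M) ∈ (Rees.powFilt I M).N (k + 1) := by
  rw [mem_W]
  simp only [pm_mono, PolynomialModule.coeff_single]
  refine ⟨fun h => by simpa using h k, fun h m => ?_⟩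
  rw [Finsupp.single_apply]
  split_ifs with hm
  · subst hm; exact h
  · exact Submodule.zero_mem _

theorem eq_mono (k : ℕ) {y : (Y I M).carrier} (hy : y ∈ (Y I M).gr (k : ℤ)) :
    y = mono I M k ⟨(pm I M y).coeff k, pm_prop I M y k⟩ := by
  refine pm_ext I M fun m => ?_
  rw [pm_mono, PolynomialModule.coeff_single, Finsupp.single_apply]
  split_ifs with h
  · rw [h]
  · exact (mem_gr_Y I M).1 hy m (by omega)

theorem toDeg0_smul_mono (k : ℕ) (a : A) (x : (Rees.powFilt I M).N k) :
    (toDeg0 I a : ↥(reesAlgebra I)) • mono I M k x = mono I M k (a • x) := by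
  refine pm_ext I M fun m => ?_
  rw [pm_smul, pm_mono, pm_mono, coe_toDeg0, ← Polynomial.monomial_zero_left,
    PolynomialModule.monomial_smul_single, zero_add]
  rfl

/-- The length of the pieces of `G`. -/
theorem length_G (k : ℕ) :
    Module.length A (M ⧸ (I ^ (k + 1) • (⊤ : Submodule A M))) =
      Module.length (_root_.GrLC.deg0 (Rees.degZ (reesAlgebra I)))
          (_root_.GrLC.comp (Rees.degZ (reesAlgebra I)) (G I M).gr (k : ℤ)) +
        Module.length A (M ⧸ (I ^ k • (⊤ : Submodule A M))) := by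
  let P₁ : Submodule A M := (Rees.powFilt I M).N (k + 1)
  let Q₁ : Submodule A M := (Rees.powFilt I M).N k
  have hle : P₁ ≤ Q₁ := ((Rees.powFilt I M)).antitone (Nat.le_succ k)
  let q : ↥Q₁ →ₗ[A] M ⧸ P₁ := P₁.mkQ ∘ₗ Q₁.subtype
  let N := _root_.GrLC.comp (Rees.degZ (reesAlgebra I)) (G I M).gr (k : ℤ)
  let ψ : ↥Q₁ →+ ↥N :=
    { toFun := fun a => ⟨(W I M).mkQ (mono I M k a), _, mono_mem I M k a, rfl⟩
      map_zero' := Subtype.ext (by
        change (W I M).mkQ (mono I M k (0 : (Rees.powFilt I M).N k)) = (0 : (Y I M).carrier ⧸ W I M)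
        rw [map_zero, map_zero])
      map_add' := fun a b => Subtype.ext (by
        change (W I M).mkQ (mono I M k (a + b)) =
          (W I M).mkQ (mono I M k a) + (W I M).mkQ (mono I M k b)
        rw [map_add, map_add]) }
  have hψs : Function.Surjective ψ := by
    rintro ⟨z, y, hy, rfl⟩
    exact ⟨⟨(pm I M y).coeff k, pm_prop I M y k⟩, Subtype.ext (congrArg (W I M).mkQ (eq_mono I M k hy).symm)⟩
  have hψ0 : ∀ a, ψ a = 0 ↔ q a = 0 := fun a => by
    rw [Subtype.ext_iff]
    change (W I M).mkQ (mono I M k a) = 0 ↔ P₁.mkQ (a : M) = 0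
    rw [Submodule.mkQ_apply, Submodule.Quotient.mk_eq_zero, mono_mem_W_iff,
      Submodule.mkQ_apply, Submodule.Quotient.mk_eq_zero]
  letI : Module A ↥N := Module.compHom _ (toDeg0 I)
  let ψl : ↥Q₁ →ₗ[A] ↥N :=
    { ψ with
      map_smul' := fun a x => Subtype.ext (by
        change (W I M).mkQ (mono I M k (a • x)) = (toDeg0 I a : ↥(reesAlgebra I)) • (W I M).mkQ (mono I M k x)
        rw [← map_smul, toDeg0_smul_mono]) }
  have hker : LinearMap.ker q = LinearMap.ker ψl := by
    ext a
    rw [LinearMap.mem_ker, LinearMap.mem_ker]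
    exact (hψ0 a).symm
  let e := (q.quotKerEquivRange.symm.trans (Submodule.quotEquivOfEq _ _ hker)).trans
    (ψl.quotKerEquivOfSurjective hψs)
  have e1 : Module.length A (LinearMap.range q) =
      Module.length (_root_.GrLC.deg0 (Rees.degZ (reesAlgebra I))) ↥N :=
    length_eq_of_semilinear (toDeg0 I) (toDeg0_surjective I) e.toAddEquiv fun a x => e.map_smul a x
  have hexact : Function.Exact (LinearMap.range q).subtype (Submodule.factor hle) := by
    intro z
    obtain ⟨m, rfl⟩ := Submodule.mkQ_surjective P₁ z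
    change Submodule.Quotient.mk m = (0 : M ⧸ Q₁) ↔ _
    constructor
    · intro h
      exact ⟨⟨_, ⟨m, (Submodule.Quotient.mk_eq_zero _).1 h⟩, rfl⟩, rfl⟩
    · rintro ⟨⟨w, x, rfl⟩, h⟩
      refine (Submodule.Quotient.mk_eq_zero _).2 ?_
      have h' := (Submodule.Quotient.eq P₁).1 h
      have := Submodule.sub_mem _ x.2 (hle h')
      simpa using this
  show Module.length A (M ⧸ P₁) = _ + Module.length A (M ⧸ Q₁)
  rw [Module.length_eq_add_of_exact (LinearMap.range q).subtype (Submodule.factor hle)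
    (Submodule.injective_subtype _) (Submodule.factor_surjective hle) hexact, e1]

variable [IsLocalRing A] (hI : I.radical = IsLocalRing.maximalIdeal A) [Module.Finite A M]

include hI in
theorem fl_quot (k : ℕ) : IsFiniteLength A (M ⧸ (I ^ k • (⊤ : Submodule A M))) := by
  rw [isFiniteLength_iff_isNoetherian_isArtinian]
  refine ⟨inferInstance, ?_⟩
  obtain ⟨j, hj⟩ := Ideal.exists_pow_le_of_le_radical_of_fg
    hI.ge (IsNoetherian.noetherian (IsLocalRing.maximalIdeal A))
  refine isArtinian_of_pow_maximal (IsLocalRing.maximalIdeal A) (j * k) _ fun r hr x => ?_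
  obtain ⟨m, rfl⟩ := Submodule.mkQ_surjective _ x
  rw [← map_smul, Submodule.mkQ_apply, Submodule.Quotient.mk_eq_zero]
  rw [pow_mul] at hr
  exact Submodule.smul_mem_smul (Ideal.pow_right_mono hj k hr) Submodule.mem_top

include hI in
theorem flPieces_G : Irrel.FLPieces (G I M) := by
  intro n
  rcases lt_or_ge n 0 with hn | hn
  · refine Irrel.fl_of_subsingleton (subsingleton_of_forall_eq 0 fun z => ?_)
    obtain ⟨z, y, hy, rfl⟩ := z
    have : y = 0 := pm_ext I M fun m => by
      rw [(mem_gr_Y I M).1 hy m (by omega), pm_zero]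
      rfl
    subst this
    exact Subtype.ext (map_zero (W I M).mkQ)
  · obtain ⟨k, rfl⟩ := Int.eq_ofNat_of_zero_le hn
    rw [← Module.length_ne_top_iff]
    exact ne_top_of_le_ne_top (Module.length_ne_top_iff.2 (fl_quot I M hI (k + 1)))
      ((length_G I M k).symm ▸ le_self_add)

include hI in
theorem mlen_G (k : ℕ) : (mlen (G I M) (k : ℤ) : ℚ) +
    ((Module.length A (M ⧸ (I ^ k • (⊤ : Submodule A M)))).toNat : ℚ) =
      ((Module.length A (M ⧸ (I ^ (k + 1) • (⊤ : Submodule A M)))).toNat : ℚ) := by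
  rw [mlen, length_G I M k, ENat.toNat_add (Module.length_ne_top_iff.2 (flPieces_G I M hI k))
    (Module.length_ne_top_iff.2 (fl_quot I M hI k))]
  push_cast; rfl

include hI in
/-- The formula, with the sum up to a bound for the cohomological dimension. -/
theorem main (P : Polynomial ℚ)
    (hP : ∃ N : ℕ, ∀ n : ℕ, N ≤ n →
      P.eval (n : ℚ) = ((Module.length A (M ⧸ (I ^ n • (⊤ : Submodule A M)))).toNat : ℚ))
    {s : ℕ} (hcd : _root_.LocCoh.CdLE ↥(reesAlgebra I) ((_root_.GrSyz.irrel (Rees.degZ (reesAlgebra I)))).toIdeal s) (n : ℕ) :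
    Irrel.FLH (Y I M) (n : ℤ) ∧ Irrel.chi s (Y I M) (n : ℤ) =
      P.eval (n : ℚ) - ((Module.length A (M ⧸ (I ^ n • (⊤ : Submodule A M)))).toNat : ℚ) := by
  obtain ⟨N, hN⟩ := hP
  have hG : Module.Finite ↥(reesAlgebra I) (G I M).carrier :=
    haveI := finite_Y I M
    inferInstanceAs (Module.Finite ↥(reesAlgebra I) ((Y I M).carrier ⧸ W I M))
  have hGl := flPieces_G I M hI
  have hGh := Irrel.flh_of_flPieces (hpos I) (G I M) hG hGl
  let L : ℕ → ℚ := fun k => ((Module.length A (M ⧸ (I ^ k • (⊤ : Submodule A M)))).toNat : ℚ)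
  let Q : Polynomial ℚ := P.comp (Polynomial.X + 1) - P
  have hQ : ∀ k : ℤ, Q.eval (k : ℚ) = P.eval ((k : ℚ) + 1) - P.eval (k : ℚ) := fun k => by
    simp [Q]
  have hGchi : ∀ k : ℕ, Irrel.chi s (G I M) (k : ℤ) =
      (L (k + 1) - L k) - (P.eval ((k : ℚ) + 1) - P.eval (k : ℚ)) := fun k => by
    have h := Irrel.hilbertSerre (hpos I) hcd (G I M) hG hGl Q ⟨N, fun j hj => by
      obtain ⟨j, rfl⟩ := Int.eq_ofNat_of_zero_le (le_trans (Int.natCast_nonneg N) hj)
      have h1 := mlen_G I M hI j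
      have h2 := hN (j + 1) (by omega)
      have h3 := hN j (by omega)
      rw [hQ]
      push_cast at h2 ⊢
      linarith⟩ (k : ℤ)
    rw [← h, hQ]
    have h1 := mlen_G I M hI k
    push_cast
    simp only [L]
    linarith
  obtain ⟨r, hr⟩ := LC.exists_gr_eq_bot (hpos I) (_root_.GrSyz.irrel (Rees.degZ (reesAlgebra I))) Irrel.irrel_mem (Y I M) (finite_Y I M)
  have hZ : ∀ (i k : ℕ), LC.gr (Z2 I M).gr (_root_.GrSyz.irrel (Rees.degZ (reesAlgebra I))) i (k : ℤ) = ⊥ := by
    rintro (_ | i) k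
    · exact LC.gr_zero_eq_bot (_root_.GrSyz.irrel (Rees.degZ (reesAlgebra I))) fun m hm _ => Z2_eq_zero I M (by omega) hm
    · haveI := LocCohElt.subsingleton_of_powerTorsion ((_root_.GrSyz.irrel (Rees.degZ (reesAlgebra I)))).toIdeal i (Z2 I M).carrier (Z2_torsion I M)
      exact (AddSubgroup.eq_bot_iff_forall _).2 fun y _ => Subsingleton.elim y 0
  have hZh : ∀ k : ℕ, Irrel.FLH (Z2 I M) (k : ℤ) := fun k i => Irrel.fl_comp_of_eq_bot (hZ i k)
  have step : ∀ k : ℕ, Irrel.FLH (Y I M) ((k + 1 : ℕ) : ℤ) →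
      Irrel.FLH (Y I M) (k : ℤ) ∧ Irrel.chi s (Y I M) (k : ℤ) =
        Irrel.chi s (Y I M) ((k + 1 : ℕ) : ℤ) + Irrel.chi s (G I M) (k : ℤ) := by
    intro k hk
    have hY2 : Irrel.FLH (Y2 I M) (k : ℤ) := (Irrel.flh_shift (Y I M) 1 (k : ℤ)).2 (by exact_mod_cast hk)
    have hf2 := mulX'_injective I M
    have he2 : Function.Exact (mulX' I M) (LinearMap.range (mulX' I M)).mkQ :=
      LinearMap.exact_iff.2 (Submodule.ker_mkQ _)
    have hg2 := Submodule.mkQ_surjective (LinearMap.range (mulX' I M))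
    have hgr2 := mulX_isGrHom I M
    have hgg2 : _root_.GrLC.IsGrHom (Y2 I M).gr (Z2 I M).gr (LinearMap.range (mulX' I M)).mkQ :=
      isGrHom_mkQ _ _
    have hX1 : Irrel.FLH (X1 I M) (k : ℤ) :=
      Irrel.flh_left (Z := Z2 I M) hf2 he2 hg2 hgr2 hgg2 _ hY2 (hZh k)
    have hfs := Submodule.injective_subtype (W I M)
    have hes := LinearMap.exact_subtype_mkQ (W I M)
    have hgs := Submodule.mkQ_surjective (W I M)
    have hgr1 : _root_.GrLC.IsGrHom (X1 I M).gr (Y I M).gr (W I M).subtype := isGrHom_subtype _ _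
    have hgg1 : _root_.GrLC.IsGrHom (Y I M).gr (G I M).gr (W I M).mkQ := isGrHom_mkQ _ _
    have hY := Irrel.flh_mid (X := X1 I M) (Z := G I M) hfs hes hgs hgr1 hgg1 _ hX1 (hGh k)
    refine ⟨hY, ?_⟩
    rw [Irrel.chi_add (X := X1 I M) (Z := G I M) hfs hes hgs hgr1 hgg1 _ hcd hX1 hY (hGh k)]
    have h2 := Irrel.chi_add (Z := Z2 I M) hf2 he2 hg2 hgr2 hgg2 _ hcd hX1 hY2 (hZh k)
    rw [Irrel.chi_eq_zero (fun i => hZ i k), add_zero] at h2
    rw [← h2, show Irrel.chi s (Y2 I M) (k : ℤ) = _ from Irrel.chi_shift s (Y I M) 1 (k : ℤ)]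
    push_cast; rfl
  have key : ∀ (t k : ℕ), max r.toNat N - k = t →
      Irrel.FLH (Y I M) (k : ℤ) ∧ Irrel.chi s (Y I M) (k : ℤ) = P.eval (k : ℚ) - L k := by
    intro t
    induction t with
    | zero =>
      intro k hk
      have hb : ∀ i, LC.gr (Y I M).gr (_root_.GrSyz.irrel (Rees.degZ (reesAlgebra I))) i (k : ℤ) = ⊥ := fun i => hr i k (by omega)
      refine ⟨fun i => Irrel.fl_comp_of_eq_bot (hb i), ?_⟩
      rw [Irrel.chi_eq_zero hb, hN k (by omega), sub_self]
    | succ t ih =>
      intro k hk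
      obtain ⟨h1, h2⟩ := ih (k + 1) (by omega)
      obtain ⟨h3, h4⟩ := step k h1
      refine ⟨h3, ?_⟩
      rw [h4, h2, hGchi]
      push_cast
      ring
  exact key _ n rfl

end Groth.Agent.GrLC.ReesEuler
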