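import Groth.Agent.GrBass.InjDimBass
import Groth.Agent.GrLC.Compare
import Groth.Agent.GrLC.Core

/-!
# Bass numbers of a `*`injective module
-/

set_option autoImplicit false
set_option linter.unusedSectionVars false
set_option linter.style.haveILetI false
universe u

open CategoryTheory CategoryTheory.Abelian DirectSum

noncomputable section

namespace Groth.Agent.GrLC.StarInjBass

variable {R : Type u} [CommRing R] [IsNoetherianRing R] {𝒜 : ℤ → AddSubgroup R} [GradedRing 𝒜]
variable {M : Type u} [AddCommGroup M] [Module R M] {ℳ : ℤ → AddSubgroup M} [DirectSum.Decomposition ℳ]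
  [SetLike.GradedSMul 𝒜 ℳ]

/-- positive Bass numbers of a `*`injective module vanish at graded primes -/
theorem bassNum_eq_zero (hM : _root_.GrLC.IsStarInj 𝒜 ℳ) (P : Ideal R) [P.IsPrime]
    (hP : P.IsHomogeneous 𝒜) {i : ℕ} (hi : 1 ≤ i) : _root_.GrLC.bassNum P M i = 0 := by
  have h : Submodule.IsHomogeneous P 𝒜 := hP
  letI := quoDec 𝒜 h
  letI := quoGr_gradedSMul (𝒜 := 𝒜) 𝒜 P
  have := ext_subsingleton_of_starInj hM (quoGr 𝒜 P) i hi
  exact (GrBass.InjDimBass.bassNum_eq_zero_iff M P i).2 fun e =>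
    ⟨⟨1, P.primeCompl.one_mem⟩, Subsingleton.elim _ _⟩

/-- the quotient by the core of a nongraded prime has height one there -/
theorem height_map_eq_one (p : Ideal R) [p.IsPrime] (hp : ¬ Ideal.IsHomogeneous 𝒜 p)
    [(Ideal.homogeneousCore 𝒜 p).toIdeal.IsPrime] :
    (p.map (Ideal.Quotient.mk (Ideal.homogeneousCore 𝒜 p).toIdeal)).height = ((1 : ℕ) : ℕ∞) := by
  let P := (Ideal.homogeneousCore 𝒜 p).toIdeal
  have hlt : P < p := lt_of_le_of_ne (Ideal.toIdeal_homogeneousCore_le 𝒜 p) fun h =>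
    hp (h ▸ (Ideal.homogeneousCore 𝒜 p).isHomogeneous)
  let qb : Ideal (R ⧸ P) := p.map (Ideal.Quotient.mk P)
  have hqp : qb.comap (Ideal.Quotient.mk P) = p := by
    rw [Ideal.comap_map_of_surjective _ Ideal.Quotient.mk_surjective, ← RingHom.ker_eq_comap_bot,
      Ideal.mk_ker, sup_eq_left.2 hlt.le]
  have : qb.IsPrime := Ideal.map_isPrime_of_surjective Ideal.Quotient.mk_surjective
    (by rw [Ideal.mk_ker]; exact hlt.le)
  have hne : (⊥ : Ideal (R ⧸ P)) < qb := bot_lt_iff_ne_bot.2 fun h => hlt.ne' (by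
    rw [← hqp, h, ← RingHom.ker_eq_comap_bot, Ideal.mk_ker])
  refine le_antisymm ?_ ?_
  · rw [PrimeSpectrum.height_eq_orderHeight (p := ⟨qb, inferInstance⟩), Order.height_le_coe_iff]
    intro Q hQ
    have hQ' : Q.asIdeal < qb := hQ
    have hQbot : Q.asIdeal = ⊥ := by
      have h1 : Q.asIdeal.comap (Ideal.Quotient.mk P) < p := by
        rw [← hqp]
        exact lt_of_le_of_ne (Ideal.comap_mono hQ'.le) fun h =>
          hQ'.ne (Ideal.comap_injective_of_surjective _ Ideal.Quotient.mk_surjective h)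
      have h2 := GrLC.eq_core_of_lt (𝒜 := 𝒜) h1 (by
        intro x hx
        rw [Ideal.mem_comap, Ideal.Quotient.eq_zero_iff_mem.2 hx]
        exact zero_mem _)
      rw [← Ideal.map_comap_of_surjective _ Ideal.Quotient.mk_surjective Q.asIdeal, h2]
      exact Ideal.map_quotient_self P
    rw [← PrimeSpectrum.height_eq_orderHeight, hQbot, Ideal.height_bot]
    exact_mod_cast zero_lt_one
  · simpa using Ideal.height_add_one_le_of_lt_of_isPrime hne

/-- Bass numbers of a `*`injective module vanish beyond degree one -/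
theorem bassNum_eq_zero_of_two_le (hM : _root_.GrLC.IsStarInj 𝒜 ℳ) (p : Ideal R) [hp : p.IsPrime]
    {i : ℕ} (hi : 2 ≤ i) : _root_.GrLC.bassNum p M i = 0 := by
  by_cases h : Ideal.IsHomogeneous 𝒜 p
  · exact bassNum_eq_zero hM p h (by omega)
  haveI : (Ideal.homogeneousCore 𝒜 p).toIdeal.IsPrime := hp.homogeneousCore
  obtain ⟨-, h2⟩ := GrBass.bassNum_shift 𝒜 M ℳ p 1 (height_map_eq_one p h)
  obtain ⟨j, rfl⟩ : ∃ j, i = j + 1 := ⟨i - 1, by omega⟩
  rw [h2 j]
  exact bassNum_eq_zero hM _ (Ideal.homogeneousCore 𝒜 p).isHomogeneous (by omega)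

/-- the ordinary injective dimension of a `*`injective module is at most one -/
theorem hasInjectiveDimensionLT_two (hM : _root_.GrLC.IsStarInj 𝒜 ℳ) :
    HasInjectiveDimensionLT (ModuleCat.of R M) 2 :=
  GrBass.InjDimBass.hasInjectiveDimensionLT_of_bassNum M 1 fun p _ _ hi =>
    bassNum_eq_zero_of_two_le hM p hi

theorem not_injective_iff (hM : _root_.GrLC.IsStarInj 𝒜 ℳ) :
    ¬ Module.Injective R M ↔ ∃ p : Ideal R, p.IsPrime ∧ ¬ Ideal.IsHomogeneous 𝒜 p ∧
      (Ideal.homogeneousCore 𝒜 p).toIdeal ∈ associatedPrimes R M := by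
  have key : ∀ (p : Ideal R) [p.IsPrime], ¬ Ideal.IsHomogeneous 𝒜 p →
      (_root_.GrLC.bassNum p M 1 ≠ 0 ↔ (Ideal.homogeneousCore 𝒜 p).toIdeal ∈ associatedPrimes R M) := by
    intro p hp hh
    haveI : (Ideal.homogeneousCore 𝒜 p).toIdeal.IsPrime := hp.homogeneousCore
    obtain ⟨-, h2⟩ := GrBass.bassNum_shift 𝒜 M ℳ p 1 (height_map_eq_one p hh)
    rw [← GrBass.InjDimBass.bassNum_zero_ne_zero_iff M]
    exact not_congr (by rw [h2 0])
  constructor
  · intro hn
    by_contra! hne
    have hlt : HasInjectiveDimensionLT (ModuleCat.of R M) (0 + 1) := by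
      refine GrBass.InjDimBass.hasInjectiveDimensionLT_of_bassNum M 0 fun p hp i hi => ?_
      rcases Nat.lt_or_ge i 2 with h | h
      · obtain rfl : i = 1 := by omega
        by_cases hh : Ideal.IsHomogeneous 𝒜 p
        · exact bassNum_eq_zero hM p hh le_rfl
        · by_contra h0
          exact hne p hp hh ((key p hh).1 h0)
      · exact bassNum_eq_zero_of_two_le hM p h
    have : Injective (ModuleCat.of R M) := injective_iff_hasInjectiveDimensionLT_one.2 hlt
    exact hn (Module.injective_module_of_injective_object R M)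
  · rintro ⟨p, hp, hh, hass⟩ hinj
    refine (key p hh).2 hass ((GrBass.InjDimBass.bassNum_eq_zero_iff M p 1).2 fun e =>
      ⟨⟨1, p.primeCompl.one_mem⟩, ?_⟩)
    haveI : Injective (ModuleCat.of R M) := Module.injective_object_of_injective_module R M
    haveI := (injective_iff_hasInjectiveDimensionLT_one (X := ModuleCat.of R M)).1 inferInstance
    exact (HasInjectiveDimensionLT.subsingleton (ModuleCat.of R M) 1 1 le_rfl _).elim _ _

end Groth.Agent.GrLC.StarInjBass
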